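import Cfsg.Agent.Lib.Classical.WreathMaxO.OmegaRefl

/-!
# Blocks at one factor, and facts about one factor used to find pure members of invariant groups
-/

set_option autoImplicit false
set_option linter.unusedSectionVars false

open Matrix Module
open scoped Kronecker

namespace CfsgLib.Classical.WreathMaxO

open CfsgLib.Classical.WreathMax

variable {F : Type*} [Field F] [Fintype F]

section Single

variable {n : Type} [Fintype n] [DecidableEq n] {J : Matrix n n F}

/-- A linear map vanishing on the anisotropic vectors of a non-degenerate subspace vanishes on it. -/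
theorem ND.eq_zero_of_aniso (hJ : OG J) {S : Submodule F (n → F)} (hS : ND J S) {V : Type*} [AddCommGroup V]
    [Module F V] (φ : (n → F) →ₗ[F] V) (h : ∀ b ∈ S, bJ J b b ≠ 0 → φ b = 0) {x : n → F} (hx : x ∈ S) : φ x = 0 := by
  rcases eq_or_ne x 0 with rfl | hx0
  · exact map_zero φ
  by_cases hxx : bJ J x x = 0
  swap
  · exact h x hx hxx
  obtain ⟨b, hb, hb0⟩ := hS.exists_aniso hJ fun e => hx0 (by rw [e] at hx; exact (Submodule.mem_bot F).1 hx)
  have h1 : bJ J (x + b) (x + b) ≠ 0 ∨ bJ J (x - b) (x - b) ≠ 0 := by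
    by_contra! hh
    simp only [bJ_add_left, bJ_add_right, bJ_sub_left, bJ_sub_right, hxx, hJ.swap b x] at hh
    exact hb0 (mul_left_cancel₀ hJ.two (by linear_combination hh.1 + hh.2))
  rcases h1 with h1 | h1
  · have := h _ (S.add_mem hx hb) h1
    rwa [map_add, h b hb hb0, add_zero] at this
  · have := h _ (S.sub_mem hx hb) h1
    rwa [map_sub, h b hb hb0, sub_zero] at this

/-- An anisotropic vector of a non-degenerate subspace not orthogonal to a given one. -/
theorem ND.exists_aniso_ne (hJ : OG J) {S : Submodule F (n → F)} (hS : ND J S) {x : n → F} (hx : x ∈ S)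
    (hx0 : x ≠ 0) : ∃ b ∈ S, bJ J b b ≠ 0 ∧ bJ J b x ≠ 0 := by
  by_contra! h
  refine hx0 (hS x hx fun y hy => ?_)
  rw [hJ.swap]
  exact hS.eq_zero_of_aniso hJ
    { toFun := fun b => bJ J b x, map_add' := fun a b => bJ_add_left a b x, map_smul' := fun c a => bJ_smul_left c a x }
    h hy

/-- In dimension three a vector of the complement of a pair is a multiple of an anisotropic one. -/
theorem Pair.hyp_line (hJ : OG J) (h3 : Fintype.card n = 3) {e f b x : n → F} (h : Pair J e f) (hb : b ∈ Hyp J e f)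
    (hbb : bJ J b b ≠ 0) (hx : x ∈ Hyp J e f) : x = (bJ J b x / bJ J b b) • b := by
  set T := Hyp J e f ⊓ perp J b
  have hy : x - (bJ J b x / bJ J b b) • b ∈ T :=
    ⟨Submodule.sub_mem _ hx (Submodule.smul_mem _ _ hb), mem_perp.2 (by
      rw [bJ_sub_right, bJ_smul_right, div_mul_cancel₀ _ hbb, sub_self])⟩
  have h1 : T < Hyp J e f := lt_of_le_of_ne inf_le_left fun eT => hbb (mem_perp.1 (eT ▸ hb : b ∈ T).2)
  have h2 : Hyp J e f < perp J e := lt_of_le_of_ne inf_le_left fun eH => by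
    have : e ∈ Hyp J e f := eH ▸ mem_perp.2 h.ee
    have := (mem_Hyp.1 this).2
    rw [h.fe hJ] at this
    exact one_ne_zero this
  have h3' : perp J e < ⊤ := lt_top_iff_ne_top.2 fun eT => by
    have : f ∈ perp J e := eT ▸ Submodule.mem_top
    rw [mem_perp, h.ef] at this
    exact one_ne_zero this
  have d1 := Submodule.finrank_lt_finrank_of_lt h1
  have d2 := Submodule.finrank_lt_finrank_of_lt h2
  have d3 := Submodule.finrank_lt h3'.ne
  rw [Module.finrank_fintype_fun_eq_card] at d3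
  have hT : T = ⊥ := Submodule.finrank_eq_zero.1 (by omega)
  rw [hT, Submodule.mem_bot] at hy
  exact sub_eq_zero.1 hy

/-- The self-adjoint part of a map vanishing on the singular vectors is a scalar. -/
theorem OG.sym_scalar (hJ : OG J) (hn : 3 ≤ Fintype.card n)
    (hq : Fintype.card F = 3 → 4 ≤ Fintype.card n ∧ (Fintype.card n = 4 → Minus J)) {T : Matrix n n F}
    (hT : ∀ e, bJ J e e = 0 → bJ J e (T *ᵥ e) = 0) : ∃ c : F, T + adjJ J T = c • 1 := by
  classical
  set S := T + adjJ J T with hS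
  have hsym : ∀ u v, bJ J u (S *ᵥ v) = bJ J v (S *ᵥ u) := fun u v => by
    rw [hJ.swap, bJ_mulVec hJ, hS, adjJ_add, adjJ_adjJ hJ, add_comm]
  have hS0 : ∀ e, bJ J e e = 0 → bJ J e (S *ᵥ e) = 0 := fun e he => by
    rw [hS, Matrix.add_mulVec, bJ_add_right, ← bJ_mulVec hJ, hJ.swap (T *ᵥ e), hT e he, add_zero]
  refine hJ.scalar_of_eigen hn fun e he => TensorMaxO.mem_span_of_perp (nondeg_qf hJ) hJ.two (c := e) fun y hy => ?_
  rw [polar_qf hJ] at hy ⊢
  rw [hsym, ← hsym]
  rw [hsym]
  rcases eq_or_ne e 0 with rfl | he0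
  · simp
  obtain ⟨f, hp⟩ := hJ.exists_pair_of he0 he
  have hid : ∀ a ∈ Hyp J e f, ∀ t : F,
      t * bJ J e (S *ᵥ a) = t * t * t * (bJ J a a / 2) * bJ J a (S *ᵥ f) := fun a ha t => by
    have hfa : ∀ r : F, bJ J f (r • a) = 0 := fun r => by rw [bJ_smul_right, (mem_Hyp.1 ha).2, mul_zero]
    have hsing : ∀ r : F, bJ J (uP J f (r • a) 1 *ᵥ e) (uP J f (r • a) 1 *ᵥ e) = 0 := fun r => by
      exact ((mem_IsoG_iff_bJ hJ).1 (uH_mem_IsoG hJ hp.ff (hfa r)) e e).trans he
    have hv : ∀ r : F, uP J f (r • a) 1 *ᵥ e = e - r • a - (r * r * bJ J a a / 2) • f := fun r => by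
      rw [uP_mulVec hJ hp.ff (hfa r), bJ_smul_left, hJ.swap a e, (mem_Hyp.1 ha).1, mul_zero, zero_smul, add_zero,
        hp.fe hJ, one_smul, bJ_smul_left, bJ_smul_right, mul_one]
      congr 2
      field_simp [hJ.two]
    have h1 := hS0 _ (hsing t)
    have h2 := hS0 _ (hsing (-t))
    rw [hv] at h1 h2
    simp only [Matrix.mulVec_sub, Matrix.mulVec_smul, bJ_sub_left, bJ_sub_right, bJ_smul_left, bJ_smul_right,
      hsym a e, hsym f e, hsym f a] at h1 h2
    have h4 : (2 : F) * 2 ≠ 0 := mul_ne_zero hJ.two hJ.two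
    refine mul_left_cancel₀ h4 ?_
    linear_combination h2 - h1
  have hHyp : ∀ a ∈ Hyp J e f, bJ J e (S *ᵥ a) = 0 := by
    refine fun a ha => (hp.nd hJ).eq_zero_of_aniso hJ
      { toFun := fun a => bJ J e (S *ᵥ a), map_add' := fun a b => by rw [Matrix.mulVec_add, bJ_add_right],
        map_smul' := fun c a => by rw [Matrix.mulVec_smul, bJ_smul_right]; rfl } (fun b hb hbb => ?_) ha
    show bJ J e (S *ᵥ b) = 0
    by_cases h3 : Fintype.card F = 3
    · obtain ⟨h4, hM⟩ := hq h3
      obtain ⟨c, hcH, hbc, hcc⟩ := hp.exists_same hJ hb hbb (by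
        rcases h4.eq_or_lt with e4 | e4
        · exact Or.inr ⟨h4, h3, hM e4.symm⟩
        · exact Or.inl e4)
      have i1 := hid b hb 1
      have i2 := hid c hcH 1
      have i3 := hid _ (Submodule.add_mem _ hb hcH) 1
      simp only [one_mul, Matrix.mulVec_add, bJ_add_left, bJ_add_right, hbc, hJ.swap c b, hcc] at i1 i2 i3
      have i4 := hid _ (Submodule.sub_mem _ hb hcH) 1
      simp only [one_mul, Matrix.mulVec_sub, bJ_sub_left, bJ_sub_right, hbc, hJ.swap c b, hcc] at i4
      exact mul_left_cancel₀ hJ.two (by linear_combination -(i3 + i4) + 2 * 2 * i1)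
    · obtain ⟨r, hr⟩ : ∃ r : F, r ∉ ({0, 1, -1} : Finset F) := by
        by_contra! hc
        have h1 : Fintype.card F ≤ ({0, 1, -1} : Finset F).card := Finset.card_le_card fun z _ => hc z
        have h2 := h1.trans Finset.card_le_three
        have h5 := Fintype.one_lt_card (α := F)
        have : Fintype.card F ≠ 2 := fun e2 => hJ.two (by
          have := FiniteField.cast_card_eq_zero F
          rw [e2] at this
          exact_mod_cast this)
        omega
      simp only [Finset.mem_insert, Finset.mem_singleton, not_or] at hr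
      have i1 := hid b hb 1
      have i2 := hid b hb r
      have hne : r * r * r - r ≠ 0 := by
        rw [show r * r * r - r = r * ((r - 1) * (r + 1)) by ring]
        exact mul_ne_zero hr.1 (mul_ne_zero (sub_ne_zero.2 hr.2.1) fun e1 => hr.2.2 (eq_neg_of_add_eq_zero_left e1))
      have hz : bJ J b b / 2 * bJ J b (S *ᵥ f) = 0 := mul_left_cancel₀ hne (by
        rw [mul_zero]; linear_combination r * i1 - i2)
      linear_combination i1 + hz
  obtain ⟨c, w, hw, rfl⟩ := hp.decomp hJ hy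
  rw [Matrix.mulVec_add, Matrix.mulVec_smul, bJ_add_right, bJ_smul_right, hS0 e he, hHyp w hw]
  ring

/-- A skew map commuting with all roots at a singular vector is one of them. -/
theorem Pair.skew_fix (hJ : OG J) (hn : 3 ≤ Fintype.card n) {e f : n → F} (h : Pair J e f) {X : Matrix n n F}
    (hX : adjJ J X = -X) (hc : ∀ a ∈ Hyp J e f, X * nP J e a = nP J e a * X) :
    -(X *ᵥ f) ∈ Hyp J e f ∧ X = nP J e (-(X *ᵥ f)) := by
  have hskew : ∀ u v, bJ J u (X *ᵥ v) = -bJ J (X *ᵥ u) v := fun u v => by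
    rw [bJ_mulVec hJ, hX, Matrix.neg_mulVec, bJ_neg_right, neg_neg]
  obtain ⟨b, hb, hbb⟩ := (h.nd hJ).exists_aniso hJ (ne_bot_of_pos (by
    have := finrank_Hyp (J := J) e f; omega))
  have hE : X * eP J e = eP J e * X := by
    have h1 : X * (nP J e b * nP J e b) = nP J e b * nP J e b * X := by
      rw [← Matrix.mul_assoc, hc b hb, Matrix.mul_assoc, hc b hb, ← Matrix.mul_assoc]
    rw [nP_mul_nP h.ee (by rw [hJ.swap, (mem_Hyp.1 hb).1]) (mem_Hyp.1 hb).1, Matrix.mul_smul, Matrix.smul_mul] at h1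
    exact smul_right_injective _ (neg_ne_zero.2 hbb) h1
  have h1 := congrArg (· *ᵥ f) hE
  simp only [← Matrix.mulVec_mulVec, eP_mulVec, h.ef, one_smul] at h1
  set μ := bJ J e (X *ᵥ f)
  have hμ : μ = 0 := by
    have h2 := hskew e f
    rw [h1, bJ_smul_left, h.ef, mul_one] at h2
    have h3 : (2 : F) * μ = 0 := by linear_combination h2
    exact (mul_eq_zero.1 h3).resolve_left hJ.two
  rw [hμ, zero_smul] at h1
  have hfX : bJ J f (X *ᵥ f) = 0 := by
    have h2 := hskew f f
    rw [hJ.swap (X *ᵥ f)] at h2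
    have h3 : (2 : F) * bJ J f (X *ᵥ f) = 0 := by linear_combination h2
    exact (mul_eq_zero.1 h3).resolve_left hJ.two
  have hXa : ∀ a ∈ Hyp J e f, X *ᵥ a = -bJ J a (X *ᵥ f) • e := fun a ha => by
    have h2 := congrArg (· *ᵥ f) (hc a ha)
    simp only [← Matrix.mulVec_mulVec, nP_mulVec, h.ef, one_smul, Matrix.mulVec_sub, Matrix.mulVec_smul, h1,
      smul_zero, zero_sub, show bJ J e (X *ᵥ f) = 0 from hμ, zero_smul, sub_zero] at h2
    rw [← neg_inj, neg_smul, neg_neg]
    exact h2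
  refine ⟨mem_Hyp.2 ⟨by rw [bJ_neg_right, show bJ J e (X *ᵥ f) = 0 from hμ, neg_zero],
    by rw [bJ_neg_right, hfX, neg_zero]⟩, Matrix.ext_iff_mulVec.2 fun v => ?_⟩
  have hw : v - bJ J f v • e - bJ J e v • f ∈ Hyp J e f := mem_Hyp.2
    ⟨by simp [h.ee, h.ef], by simp [h.ff, h.fe hJ]⟩
  have h2 := hXa _ hw
  rw [nP_mulVec, bJ_neg_left]
  simp only [Matrix.mulVec_sub, Matrix.mulVec_smul, h1, smul_zero, sub_zero, bJ_sub_left, bJ_smul_left,
    show bJ J e (X *ᵥ f) = 0 from hμ, hfX, mul_zero] at h2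
  rw [hJ.swap (X *ᵥ f), smul_neg, sub_neg_eq_add, ← sub_eq_iff_eq_add]
  exact h2

/-- The norm of two root groups, explicitly. -/
theorem norm_norm_eq (h2 : (2 : F) ≠ 0) {N N' E : Matrix n n F} {α α' : F} (hN : N * N = α • E)
    (hN' : N' * N' = α' • E) (hE : E * E = 0) (hEN : E * N = 0) (hNE : N * E = 0) (hEN' : E * N' = 0)
    (hN'E : N' * E = 0) (hNN' : N * N' = 0) (hN'N : N' * N = 0) (Z : Matrix n n F) :
    ∑ s : F, (1 + s • N + (s * s / 2) • (N * N)) *
      (∑ t : F, (1 + t • N' + (t * t / 2) • (N' * N')) * Z * (1 + (-t) • N' + ((-t) * (-t) / 2) • (N' * N'))) *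
        (1 + (-s) • N + ((-s) * (-s) / 2) • (N * N)) =
      ((∑ s : F, s ^ 2) ^ 2 * α * α' / 2) • (E * Z * E) := by
  rw [norm_exp h2 N' Z, norm_exp h2 N, hN, hN']
  have a1 : ∀ X : Matrix n n F, E * (E * X) = 0 := fun X => by rw [← Matrix.mul_assoc, hE, Matrix.zero_mul]
  have a2 : ∀ X : Matrix n n F, E * (N' * X) = 0 := fun X => by rw [← Matrix.mul_assoc, hEN', Matrix.zero_mul]
  have a3 : ∀ X : Matrix n n F, N * (E * X) = 0 := fun X => by rw [← Matrix.mul_assoc, hNE, Matrix.zero_mul]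
  have a4 : ∀ X : Matrix n n F, N * (N' * X) = 0 := fun X => by rw [← Matrix.mul_assoc, hNN', Matrix.zero_mul]
  simp only [Matrix.mul_add, Matrix.add_mul, Matrix.mul_sub, Matrix.sub_mul, Matrix.smul_mul, Matrix.mul_smul,
    Matrix.mul_assoc, a1, a2, a3, a4, hE, hEN, hNE, hEN', hN'E, hNN', hN'N, Matrix.mul_zero, smul_zero, sub_zero,
    add_zero, zero_add, smul_smul, smul_add, smul_sub]
  match_scalars
  field_simp
  ring

end Single

section Slot

variable {κ : Type} [Fintype κ] [DecidableEq κ] {k : ℕ} {J : Matrix (Fin k) (Fin k) F}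

/-- A block at one factor. -/
def blk (l : κ) (u v : Rest l → Fin k) : TMat F κ k →ₗ[F] Matrix (Fin k) (Fin k) F where
  toFun Z := Matrix.of fun a b => split l Z (a, u) (b, v)
  map_add' X Y := by ext a b; simp
  map_smul' c X := by ext a b; simp

theorem blk_ext {l : κ} {X Y : TMat F κ k} (h : ∀ u v, blk l u v X = blk l u v Y) : X = Y :=
  split_inj (i := l) (by
    ext ⟨a, u⟩ ⟨b, v⟩
    exact congrFun (congrFun (h u v) a) b)

theorem blk_op_mul (l : κ) (u v : Rest l → Fin k) (A : Matrix (Fin k) (Fin k) F) (Z : TMat F κ k) :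
    blk l u v (op l A * Z) = A * blk l u v Z := by
  ext a b
  simp only [blk, LinearMap.coe_mk, AddHom.coe_mk, map_mul, split_op_self, Matrix.of_apply, Matrix.mul_apply,
    Fintype.sum_prod_type, Matrix.kroneckerMap_apply, Matrix.one_apply, mul_ite, mul_one, mul_zero, ite_mul, zero_mul,
    Finset.sum_ite_eq, Finset.mem_univ, if_true]

theorem blk_mul_op (l : κ) (u v : Rest l → Fin k) (A : Matrix (Fin k) (Fin k) F) (Z : TMat F κ k) :
    blk l u v (Z * op l A) = blk l u v Z * A := by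
  ext a b
  simp only [blk, LinearMap.coe_mk, AddHom.coe_mk, map_mul, split_op_self, Matrix.of_apply, Matrix.mul_apply,
    Fintype.sum_prod_type, Matrix.kroneckerMap_apply, Matrix.one_apply, mul_ite, mul_one, mul_zero,
    Finset.sum_ite_eq', Finset.mem_univ, if_true]

theorem blk_Ad (l : κ) (u v : Rest l → Fin k) (A : GL (Fin k) F) (Z : TMat F κ k) :
    blk l u v (Ad (opU l A) Z) = Ad A (blk l u v Z) := by
  rw [Ad_apply, Ad_apply, opU_coe, opU_inv_coe, blk_mul_op, blk_op_mul]

theorem blk_op_lift (l : κ) (u v : Rest l → Fin k) (K : Matrix (Fin k) (Fin k) F) (W : TMat F (Rest l) k) :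
    blk l u v (op l K * liftRest l W) = W u v • K := by
  ext a b
  simp only [blk, LinearMap.coe_mk, AddHom.coe_mk, split_op_lift, Matrix.of_apply, Matrix.kroneckerMap_apply,
    Matrix.smul_apply, smul_eq_mul, mul_comm]

theorem eP_sandwich (e : Fin k → F) (X : Matrix (Fin k) (Fin k) F) :
    eP J e * X * eP J e = bJ J e (X *ᵥ e) • eP J e :=
  Matrix.ext_iff_mulVec.2 fun w => by
    simp only [← Matrix.mulVec_mulVec, eP_mulVec, Matrix.mulVec_smul, Matrix.smul_mulVec, bJ_smul_right, smul_smul,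
      mul_comm]

end Slot

end CfsgLib.Classical.WreathMaxO
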