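import Cfsg.Agent.Lib.Classical.WreathMaxO.Siegel

/-!
# A non-trivial central element gives a pure element, or a big group on the other factors
-/

set_option autoImplicit false
set_option linter.unusedSectionVars false

open Matrix Module
open scoped Kronecker

namespace CfsgLib.Classical.WreathMaxO

open CfsgLib.Classical.WreathMax
open CfsgLib.Classical.WreathMaxSp (pv tens_mulVec_pv permM_mulVec_pv pv_ne_zero not_two_differ)

variable {F : Type*} [Field F] [Fintype F] {κ : Type} [Fintype κ] [DecidableEq κ] {k : ℕ}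
  {J : Matrix (Fin k) (Fin k) F} {M : Subgroup (GL (κ → Fin k) F)} {i : κ} {e f : Fin k → F}

/-- The group on the factors other than some one is bigger than the stabiliser there. -/
def RestBig (M : Subgroup (GL (κ → Fin k) F)) : Prop := ∃ i : κ, ¬ restG i M ≤ wreathT F (Rest i) k

/-- A pure element: pure vectors differing at one factor. -/
def PureAt (J : Matrix (Fin k) (Fin k) F) (M : Subgroup (GL (κ → Fin k) F)) (u : κ → Fin k → F) (m : κ)
    (a : Fin k → F) : Prop :=
  ∃ c : F, c ≠ 0 ∧ HasM M (c • nP (gT κ J) (pv u) (pv (Function.update u m a)))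

/-- There is a pure element. -/
def PureM (J : Matrix (Fin k) (Fin k) F) (M : Subgroup (GL (κ → Fin k) F)) : Prop :=
  ∃ (u : κ → Fin k → F) (m : κ) (a : Fin k → F), (∀ l, u l ≠ 0 ∧ bJ J (u l) (u l) = 0) ∧ bJ J (u m) a = 0 ∧
    bJ J a a ≠ 0 ∧ PureAt J M u m a

theorem Over.tensU_mem_M (hM : Over J M) {C : κ → GL (Fin k) F} (hC : ∀ l, C l ∈ OmG J) : tensU C ∈ M := by
  classical
  suffices H : ∀ s : Finset κ, tensU (fun l => if l ∈ s then C l else 1) ∈ M by simpa using H Finset.univ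
  intro s
  induction s using Finset.induction with
  | empty => simp only [Finset.notMem_empty, if_false, tensU_one]; exact M.one_mem
  | @insert a s ha ih =>
    have h := mul_mem ih (hM.opU_mem a (hC a))
    convert h using 1
    refine Units.ext ?_
    rw [Units.val_mul, opU_coe, tensU_coe, tensU_coe, tens_mul_op]
    congr 1
    funext l
    by_cases hl : l = a
    · subst hl; simp [ha]
    · simp [hl]

theorem Pair.exists_aniso_hyp (hJ : OG J) (hk : 3 ≤ k) (hp : Pair J e f) : ∃ a ∈ Hyp J e f, bJ J a a ≠ 0 :=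
  (hp.nd hJ).exists_aniso hJ (ne_bot_of_pos (by
    have := finrank_Hyp (J := J) e f; rw [Fintype.card_fin] at *; omega))

theorem NKind.exists_moved (hJ : OG J) {K : Matrix (Fin k) (Fin k) F} (h : NKind J K) :
    ∃ u : Fin k → F, u ≠ 0 ∧ K *ᵥ u ≠ 0 ∧ u ∉ F ∙ (K *ᵥ u) := by
  rcases h with ⟨e, he0, hee, rfl⟩ | ⟨e, f, x, hp, hx, hxx, rfl⟩
  · obtain ⟨f, hp⟩ := hJ.exists_pair_of he0 hee
    have h1 : eP J e *ᵥ f = e := by rw [eP_mulVec, hp.ef, one_smul]
    refine ⟨f, (hp.swap hJ).left_ne, by rw [h1]; exact he0, fun hm => ?_⟩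
    rw [h1] at hm
    obtain ⟨c, hc⟩ := Submodule.mem_span_singleton.1 hm
    have := hp.ef
    rw [← hc, bJ_smul_right, hee, mul_zero] at this
    exact zero_ne_one this
  · have h1 : nP J e x *ᵥ f = -x := by
      rw [nP_mulVec, hp.ef, one_smul, hJ.swap x f, (mem_Hyp.1 hx).2, zero_smul, zero_sub]
    refine ⟨f, (hp.swap hJ).left_ne, by rw [h1, neg_ne_zero]; exact fun e0 => hxx (by rw [e0, bJ_zero_left]),
      fun hm => ?_⟩
    rw [h1] at hm
    obtain ⟨c, hc⟩ := Submodule.mem_span_singleton.1 hm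
    have := hp.ef
    rw [← hc, bJ_smul_right, bJ_neg_right, (mem_Hyp.1 hx).1, neg_zero, mul_zero] at this
    exact zero_ne_one this

theorem NKind.ne_zero (hJ : OG J) {K : Matrix (Fin k) (Fin k) F} (h : NKind J K) : K ≠ 0 := fun h0 => by
  obtain ⟨u, -, hu, -⟩ := h.exists_moved hJ
  exact hu (by rw [h0, Matrix.zero_mulVec])

theorem one_not_nkind (hJ : OG J) : ¬ NKind J (1 : Matrix (Fin k) (Fin k) F) := fun h => h.ne_one hJ rfl

/-- A pure tensor with two non-scalar factors, in the overgroup and living away from one factor. -/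
theorem restBig_of_tens (hJ : OG J) {l : κ} {c : F} (hc : c ≠ 0) {K : Rest l → Matrix (Fin k) (Fin k) F}
    (hK : ∀ z, Kind J (K z)) {a b : Rest l} (hab : a ≠ b) (ha : NKind J (K a)) (hb : NKind J (K b))
    (hsq : K a * K a = 0) (h : HasM M (c • liftRest l (tens K))) : RestBig M := by
  classical
  refine ⟨l, fun hle => ?_⟩
  have h2 : (c • tens K) * (c • tens K) = 0 := by
    rw [Matrix.smul_mul, Matrix.mul_smul, tens_mul_tens]
    have : tens (fun z => K z * K z) = 0 := by
      ext x y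
      exact Finset.prod_eq_zero (Finset.mem_univ a) (by simp only; rw [hsq]; rfl)
    rw [this, smul_zero, smul_zero]
  let Z : GL (Rest l → Fin k) F := ⟨1 + c • tens K, 1 - c • tens K, by rw [Matrix.mul_sub, Matrix.mul_one, Matrix.add_mul, Matrix.one_mul, h2]; abel,
    by rw [Matrix.sub_mul, Matrix.one_mul, Matrix.mul_add, Matrix.mul_one, h2]; abel⟩
  have hZ : Z ∈ restG l M := by
    obtain ⟨g, hg, eg⟩ := h
    refine Subgroup.mem_comap.2 ?_
    convert hg using 1
    refine Units.ext ?_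
    rw [eg, Units.coe_map]
    show liftRest l (1 + c • tens K) = _
    rw [liftRest_add, map_one, liftRest_smul]
  obtain ⟨σ, C, hC⟩ := hle hZ
  have hex : ∀ z, ∃ u : Fin k → F, u ≠ 0 ∧ K z *ᵥ u ≠ 0 ∧ (NKind J (K z) → u ∉ F ∙ (K z *ᵥ u)) := fun z => by
    rcases hK z with h1 | h1
    · obtain ⟨u, hu, -⟩ := ha.exists_moved hJ
      exact ⟨u, hu, by rw [h1, Matrix.one_mulVec]; exact hu, fun hN => absurd (h1 ▸ hN) (one_not_nkind hJ)⟩
    · obtain ⟨u, hu, h2, h3⟩ := h1.exists_moved hJ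
      exact ⟨u, hu, h2, fun _ => h3⟩
  choose u hu hKu hmv using hex
  have he := wr_pv hC u
  change (1 + c • tens K) *ᵥ pv u = _ at he
  rw [Matrix.add_mulVec, Matrix.one_mulVec, Matrix.smul_mulVec, tens_mulVec_pv] at he
  exact not_two_differ one_ne_zero hc (by rw [one_smul]; exact he) hu hKu hab (hmv a ha) (hmv b hb)

/-- The parameters of pure elements with one factor free. -/
theorem HasM.pvL_sum (hJ : OG J) {p : (κ → Fin k) → F} {c : F} (hpp : bJ (gT κ J) p p = 0) {q : (Fin k → F) →ₗ[F] ((κ → Fin k) → F)}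
    (hpq : ∀ r, bJ (gT κ J) p (q r) = 0) (hqq : ∀ r r', bJ (gT κ J) (q r) (q r') = 0) {r r' : Fin k → F}
    (h : HasM M (c • nP (gT κ J) p (q r))) (h' : HasM M (c • nP (gT κ J) p (q r'))) :
    HasM M (c • nP (gT κ J) p (q (r + r'))) ∧ HasM M (c • nP (gT κ J) p (q (r - r'))) := by
  have hG := gT_og (κ := κ) hJ
  have hz : ∀ r r', (c • nP (gT κ J) p (q r)) * (c • nP (gT κ J) p (q r')) = 0 := fun r r' => by
    rw [Matrix.smul_mul, Matrix.mul_smul, nP_mul_zero hG hpp (hpq _) (by rw [hG.swap, hpq]) (hqq _ _), smul_zero,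
      smul_zero]
  refine ⟨?_, ?_⟩
  · rw [map_add, nP_add, smul_add]; exact h.add h' (hz _ _)
  · rw [map_sub, nP_sub, smul_sub, sub_eq_add_neg]
    exact h.add (HasM.neg h' (hz _ _)) (by rw [Matrix.mul_neg, hz, neg_zero])

/-- A non-trivial central element. -/
theorem Over.centre_cases (hM : Over J M) (hp : Pair J e f) {S : TMat F (Rest i) k} (hS : S ∈ centSub M i hp.ee)
    (h0 : S ≠ 0) : RestBig M ∨ PureM J M := by
  classical
  have hJ := hM.og
  have hk := hM.good.three
  obtain ⟨c, K', hc, hK', hmem, -⟩ :=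
    exists_tens hM.good _ (Rest i) rfl (centSub M i hp.ee) (hM.addInv_cent i hp) ⟨S, hS, h0⟩
  set K : κ → Matrix (Fin k) (Fin k) F := fun z => if h : z = i then eP J e else K' ⟨z, h⟩ with hKdef
  have hKi : K i = eP J e := by simp [K]
  have hKe : ∀ z (h : z ≠ i), K z = K' ⟨z, h⟩ := fun z h => by simp [K, h]
  have hX : HasM M (c • tens K) := by
    have h1 : HasM M (op i (eP J e) * liftRest i (c • tens K')) := hmem
    rwa [liftRest_smul, Matrix.mul_smul, op_lift_tens] at h1
  have hKi' : NKind J (K i) := Or.inl ⟨e, hp.left_ne, hp.ee, hKi⟩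
  have hKk : ∀ z, Kind J (K z) := fun z => by
    by_cases h : z = i
    · rw [h]; exact Or.inr hKi'
    · rw [hKe z h]; exact hK' _
  obtain ⟨m, hmi, em, fm, xm, hpm, hxm, hxxm, hKm⟩ : ∃ m, m ≠ i ∧ ∃ e f x : Fin k → F, Pair J e f ∧
      x ∈ Hyp J e f ∧ bJ J x x ≠ 0 ∧ K m = nP J e x := by
    by_contra! hno
    have hsym : ∀ z : Rest i, adjJ J (K' z) = K' z := fun z => by
      rcases hK' z with h | ⟨e', -, -, h⟩ | ⟨e', f', x', h1, h2, h3, h4⟩
      · rw [h, adjJ_one hJ]
      · rw [h, adjJ_eP hJ]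
      · exact absurd (by rw [hKe z.1 z.2]; exact h4) (hno z.1 z.2 e' f' x' h1 h2 h3)
    have h1 := hM.cent_skew hp hmem
    rw [adjJ_smul, adjJ_tens hJ, funext hsym] at h1
    have h2 : ((2 : F) * c) • tens K' = 0 := by linear_combination (norm := module) h1
    obtain ⟨z, hz⟩ := tens_eq_zero ((smul_eq_zero.1 h2).resolve_left (mul_ne_zero hJ.two hc))
    rcases hK' z with h | h
    · haveI : Nonempty (Fin k) := ⟨⟨0, by omega⟩⟩
      rw [h] at hz
      exact one_ne_zero hz
    · exact h.ne_zero hJ hz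
  have hKm' : NKind J (K m) := Or.inr ⟨em, fm, xm, hpm, hxm, hxxm, hKm⟩
  by_cases hsc : ∃ l, K l = 1
  · obtain ⟨l, hl⟩ := hsc
    have hli : i ≠ l := fun e' => hKi'.ne_one hJ (e' ▸ hl)
    have hlm : m ≠ l := fun e' => hKm'.ne_one hJ (e' ▸ hl)
    left
    refine restBig_of_tens hJ hc (K := fun z : Rest l => K z) (fun z => hKk _) (a := ⟨i, hli⟩) (b := ⟨m, hlm⟩)
      (fun e' => hmi (congrArg Subtype.val e').symm) hKi' hKm' (by show K i * K i = 0; rw [hKi, eP_sq hp.ee]) ?_
    convert hX using 2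
    rw [liftRest_tens]
    congr 1
    funext z
    by_cases hz : z = l
    · subst hz; simp [hl]
    · simp [hz]
  push Not at hsc
  right
  have hslot : ∀ z, ∃ (e₀ : Fin k → F) (U : GL (Fin k) F), e₀ ≠ 0 ∧ bJ J e₀ e₀ = 0 ∧ U ∈ OmG J ∧
      (z = i → e₀ = e) ∧
      ((K z = eP J e₀ ∧ bJ J e₀ (U.1 *ᵥ e₀) ≠ 0) ∨
        ∃ x, bJ J e₀ x = 0 ∧ bJ J x x ≠ 0 ∧ K z = nP J e₀ x ∧ U = 1) := fun z => by
    by_cases hz : z = i
    · obtain ⟨a, ha, haa⟩ := hp.exists_aniso_hyp hJ hk
      refine ⟨e, uH hJ hp.ff (mem_Hyp.1 ha).2, hp.left_ne, hp.ee, uH_mem_OmG hJ _ _, fun _ => rfl,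
        Or.inl ⟨hz ▸ hKi, ?_⟩⟩
      show bJ J e (uP J f a 1 *ᵥ e) ≠ 0
      rw [uP_mulVec hJ hp.ff (mem_Hyp.1 ha).2]
      simp [hp.ee, hp.ef, hp.fe hJ, hJ.swap a e, (mem_Hyp.1 ha).1, hJ.two, haa]
    · rcases (hKk z).resolve_left (hsc z) with ⟨e', he0, hee, h⟩ | ⟨e', f', x', h1, h2, h3, h4⟩
      · obtain ⟨f', hp'⟩ := hJ.exists_pair_of he0 hee
        obtain ⟨a, ha, haa⟩ := hp'.exists_aniso_hyp hJ hk
        refine ⟨e', uH hJ hp'.ff (mem_Hyp.1 ha).2, he0, hee, uH_mem_OmG hJ _ _, fun h' => absurd h' hz,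
          Or.inl ⟨h, ?_⟩⟩
        show bJ J e' (uP J f' a 1 *ᵥ e') ≠ 0
        rw [uP_mulVec hJ hp'.ff (mem_Hyp.1 ha).2]
        simp [hp'.ee, hp'.ef, hp'.fe hJ, hJ.swap a e', (mem_Hyp.1 ha).1, hJ.two, haa]
      · exact ⟨e', 1, h1.left_ne, h1.ee, one_mem _, fun h' => absurd h' hz,
          Or.inr ⟨x', (mem_Hyp.1 h2).1, h3, h4, rfl⟩⟩
  choose v U hv0 hvv hU hvi hcase using hslot
  set w : κ → Fin k → F := fun z => (U z).1 *ᵥ v z with hw
  set K'' : κ → Matrix (Fin k) (Fin k) F := fun z => Ad (U z) (K z) with hK''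
  have hX' : HasM M (c • tens K'') := by
    have h1 := HasM.adO hX (hM.tensU_mem_M hU)
    rw [map_smul, Ad_apply, tensU_coe, tensU_inv, tensU_coe, tens_mul_tens, tens_mul_tens] at h1
    simp only [hK'', Ad_apply]
    exact h1
  have hprod : ∀ z, ∃ d : F, d ≠ 0 ∧ K z * K'' z = d • dyad J (v z) (w z) ∧
      K'' z * K z = d • dyad J (w z) (v z) := fun z => by
    rcases hcase z with ⟨hK, hne⟩ | ⟨x, hex, hxx, hK, hU1⟩
    · refine ⟨_, hne, ?_, ?_⟩ <;>
        simp only [hK'', hw, hK] <;>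
        rw [Ad_apply, conj_eP hJ (OmG_le (hU z)), eP, eP, dyad_mul]
      rw [hJ.swap ((U z).1 *ᵥ v z)]
    · refine ⟨-bJ J x x, neg_ne_zero.2 hxx, ?_, ?_⟩ <;>
        simp only [hK'', hw, hK, hU1, Ad_one, Units.val_one, Matrix.one_mulVec,
          nP_mul_nP (hvv z) (by rw [hJ.swap, hex]) hex, eP]
  choose d hd hd1 hd2 using hprod
  have hm0 : v m ≠ 0 ∧ w m = v m ∧ K'' m = K m ∧ K m * K m * K m = 0 := by
    rcases hcase m with ⟨hK, -⟩ | ⟨x, hex, hxx, hK, hU1⟩
    · exfalso
      have h1 := congrArg (fun X => X *ᵥ fm) (hKm.symm.trans hK)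
      have h2 := congrArg (adjJ J) (hKm.symm.trans hK)
      rw [adjJ_nP hJ, adjJ_eP hJ, ← hK, hKm] at h2
      exact nP_ne hJ (hpm.root hJ hxm fun e0 => hxxm (by rw [e0, bJ_zero_left]))
        (by
          have h3 : (2 : F) • nP J em xm = 0 := by rw [two_smul]; nth_rw 1 [← h2]; exact neg_add_cancel _
          exact (smul_eq_zero.1 h3).resolve_left hJ.two)
    · refine ⟨hv0 m, by simp [hw, hU1], by simp [hK'', hU1, Ad_one], ?_⟩
      rw [hK, nP_mul_nP (hvv m) (by rw [hJ.swap, hex]) hex, Matrix.smul_mul, eP_mul_nP (hvv m) hex, smul_zero]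
  have hzero : ∀ {A : κ → Matrix (Fin k) (Fin k) F} (z : κ), A z = 0 → tens A = 0 := fun z hz => by
    ext x y
    exact Finset.prod_eq_zero (Finset.mem_univ z) (by rw [hz]; rfl)
  have hK''i : K'' i * K'' i = 0 := by
    rw [hK'']
    simp only
    rw [Ad_mul_Ad, hKi, eP_sq hp.ee, map_zero]
  have hW := hX.commO hX'
    (by rw [Matrix.smul_mul, Matrix.mul_smul, tens_mul_tens, hzero i (by rw [hKi, eP_sq hp.ee]), smul_zero, smul_zero])
    (by rw [Matrix.smul_mul, Matrix.mul_smul, tens_mul_tens, hzero i hK''i, smul_zero, smul_zero])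
    (by
      simp only [Matrix.smul_mul, Matrix.mul_smul, tens_mul_tens]
      rw [hzero m (by rw [hm0.2.2.1, hm0.2.2.2]), smul_zero, smul_zero, smul_zero])
    (by
      simp only [Matrix.smul_mul, Matrix.mul_smul, tens_mul_tens]
      rw [hzero m (by rw [hm0.2.2.1, hm0.2.2.2]), smul_zero, smul_zero, smul_zero])
  rw [Matrix.smul_mul, Matrix.mul_smul, Matrix.smul_mul, Matrix.mul_smul, tens_mul_tens, tens_mul_tens, funext hd1,
    funext hd2, tens_smul', tens_smul', ← dyad_pv, ← dyad_pv] at hW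
  -- turn all factors but `i` into the shared vector
  have hG := gT_og (κ := κ) hJ
  have hpp : bJ (gT κ J) (pv v) (pv v) = 0 := bJ_pv_zero i (hvv i)
  have claim : ∀ s : Finset κ, i ∉ s → m ∉ s →
      ∃ c : F, c ≠ 0 ∧ HasM M (c • nP (gT κ J) (pv v) (pv fun z => if z ∈ s then v z else w z)) := by
    intro s
    induction s using Finset.induction with
    | empty =>
      intro _ _
      refine ⟨c * c * ∏ z, d z, mul_ne_zero (mul_ne_zero hc hc) (Finset.prod_ne_zero_iff.2 fun z _ => hd z), ?_⟩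
      convert hW using 1
      simp only [Finset.notMem_empty, if_false, nP]
      module
    | @insert z s hzs ih =>
      intro hi hm
      simp only [Finset.mem_insert, not_or] at hi hm
      obtain ⟨c', hc', h⟩ := ih hi.2 hm.2
      set ws : κ → Fin k → F := fun z' => if z' ∈ s then v z' else w z'
      have hins : (fun z' => if z' ∈ insert z s then v z' else w z') = Function.update ws z (v z) := by
        funext z'
        by_cases hz : z' = z
        · subst hz; simp
        · simp [ws, hz]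
      rw [hins]
      rcases hcase z with ⟨hK, hne⟩ | ⟨x, hex, hxx, hK, hU1⟩
      swap
      · refine ⟨c', hc', ?_⟩
        convert h using 4
        rw [Function.update_eq_self_iff]
        simp [ws, hzs, hw, hU1]
      obtain ⟨f', hp'⟩ := hJ.exists_pair_of (hv0 z) (hvv z)
      obtain ⟨a, ha, haa⟩ := hp'.exists_aniso_hyp hJ hk
      have hea := (mem_Hyp.1 ha).1
      have hea' : bJ J (v z) (-a) = 0 := by rw [bJ_neg_right, hea, neg_zero]
      let q := pvL ws z
      have hwm : ∀ r, Function.update ws z r m = v m := fun r => by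
        rw [Function.update_of_ne hm.1]; simp [ws, hm.2, hm0.2.1]
      have hpq : ∀ r, bJ (gT κ J) (pv v) (q r) = 0 := fun r => by
        rw [pvL_apply]; exact bJ_pv_zero m (by rw [hwm]; exact hvv m)
      have hqq : ∀ r r', bJ (gT κ J) (q r) (q r') = 0 := fun r r' => by
        rw [pvL_apply, pvL_apply]; exact bJ_pv_zero m (by rw [hwm, hwm]; exact hvv m)
      have h0 : HasM M (c' • nP (gT κ J) (pv v) (q (w z))) := by
        convert h using 4
        rw [pvL_apply, show w z = ws z by simp [ws, hzs], Function.update_eq_self]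
      have hmove : ∀ {b : Fin k → F} (hb : bJ J (v z) b = 0),
          HasM M (c' • nP (gT κ J) (pv v) (q (uP J (v z) b 1 *ᵥ w z))) := fun {b} hb => by
        have h1 := HasM.adO h0 (hM.opU_mem z (uH_mem_OmG hJ (hvv z) hb))
        rw [map_smul, pvL_apply, conj_op_nP hJ (uH_mem_IsoG hJ (hvv z) hb)] at h1
        convert h1 using 4
        · congr 1
          rw [eq_comm, Function.update_eq_self_iff]
          show uP J (v z) b 1 *ᵥ v z = v z
          rw [uP_mulVec hJ (hvv z) hb, hvv z, hJ.swap b (v z), hb]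
          simp
        · rw [pvL_apply, Function.update_self, Function.update_idem]
          rfl
      have e1 := (HasM.pvL_sum hJ hpp hpq hqq
        (HasM.pvL_sum hJ hpp hpq hqq (hmove hea) (hmove hea')).1 (HasM.pvL_sum hJ hpp hpq hqq h0 h0).1).2
      have hval : uP J (v z) a 1 *ᵥ w z + uP J (v z) (-a) 1 *ᵥ w z - (w z + w z) =
          (-bJ J a a * bJ J (v z) (w z)) • v z := by
        rw [uP_mulVec hJ (hvv z) hea, uP_mulVec hJ (hvv z) hea']
        simp only [bJ_neg_left, bJ_neg_right, neg_neg]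
        match_scalars <;> field_simp [hJ.two] <;> ring
      rw [hval, map_smul, nP_smul, smul_smul] at e1
      exact ⟨_, mul_ne_zero hc' (mul_ne_zero (neg_ne_zero.2 haa) hne), e1⟩
  obtain ⟨c', hc', h⟩ := claim (Finset.univ.filter fun z => z ≠ i ∧ z ≠ m) (by simp) (by simp)
  have hws : (fun z => if z ∈ (Finset.univ.filter fun z => z ≠ i ∧ z ≠ m) then v z else w z) =
      Function.update v i (w i) := by
    funext z
    by_cases hz : z = i
    · subst hz; simp
    · by_cases hzm : z = m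
      · subst hzm; simp [hz, hm0.2.1]
      · simp [hz, hzm]
  rw [hws] at h
  obtain ⟨a, ha, haa⟩ := hp.exists_aniso_hyp hJ hk
  have hvi' := hvi i rfl
  have hea : bJ J e a = 0 := (mem_Hyp.1 ha).1
  have hea' : bJ J e (-a) = 0 := by rw [bJ_neg_right, hea, neg_zero]
  have hne : bJ J e (w i) ≠ 0 := by
    rcases hcase i with ⟨-, hne⟩ | ⟨x, hex, hxx, hK, -⟩
    · show bJ J e ((U i).1 *ᵥ v i) ≠ 0
      rw [hvi'] at hne ⊢
      exact hne
    · exfalso
      have h2 := congrArg (adjJ J) (hKi.symm.trans hK)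
      rw [adjJ_nP hJ, adjJ_eP hJ, ← hK, hKi] at h2
      exact eP_ne hJ hp.left_ne (by
        have h3 : (2 : F) • eP J e = 0 := by rw [two_smul]; nth_rw 1 [h2]; exact neg_add_cancel _
        exact (smul_eq_zero.1 h3).resolve_left hJ.two)
  let q := pvL v i
  have hvm : ∀ r, Function.update v i r m = v m := fun r => Function.update_of_ne hmi _ _
  have hpq : ∀ r, bJ (gT κ J) (pv v) (q r) = 0 := fun r => by
    rw [pvL_apply]; exact bJ_pv_zero m (by rw [hvm]; exact hvv m)
  have hqq : ∀ r r', bJ (gT κ J) (q r) (q r') = 0 := fun r r' => by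
    rw [pvL_apply, pvL_apply]; exact bJ_pv_zero m (by rw [hvm, hvm]; exact hvv m)
  have hmove : ∀ {b : Fin k → F} (hb : bJ J e b = 0), HasM M (c' • nP (gT κ J) (pv v) (q (uP J e b 1 *ᵥ w i))) :=
    fun {b} hb => by
      have h1 := HasM.adO h (hM.opU_mem i (uH_mem_OmG hJ hp.ee hb))
      rw [map_smul, conj_op_nP hJ (uH_mem_IsoG hJ hp.ee hb)] at h1
      convert h1 using 4
      · congr 1
        rw [eq_comm, Function.update_eq_self_iff, hvi']
        show uP J e b 1 *ᵥ e = e
        rw [uP_mulVec hJ hp.ee hb, hp.ee, hJ.swap b e, hb]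
        simp
      · rw [pvL_apply, Function.update_self, Function.update_idem]
        rfl
  have e1 := (HasM.pvL_sum hJ hpp hpq hqq (hmove hea) (hmove hea')).2
  have hval : uP J e a 1 *ᵥ w i - uP J e (-a) 1 *ᵥ w i =
      (2 * bJ J a (w i)) • e - (2 * bJ J e (w i)) • a := by
    rw [uP_mulVec hJ hp.ee hea, uP_mulVec hJ hp.ee hea']
    simp only [bJ_neg_left, bJ_neg_right, neg_neg]
    module
  have hqe : q e = pv v := by rw [pvL_apply, ← hvi', Function.update_eq_self]
  rw [hval, map_sub, map_smul, map_smul, hqe, nP_sub, nP_smul, nP_smul, nP_self, smul_zero, zero_sub, smul_neg,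
    smul_smul, ← neg_smul] at e1
  exact ⟨v, i, a, fun z => ⟨hv0 z, hvv z⟩, by rw [hvi', hea], haa, _,
    neg_ne_zero.2 (mul_ne_zero hc' (mul_ne_zero hJ.two hne)), e1⟩

end CfsgLib.Classical.WreathMaxO
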