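import Cfsg.Agent.Lib.Classical.WreathMaxO.Tensor

/-!
# The slices `x ⊗ U` of a tensor power
-/

set_option autoImplicit false
set_option linter.unusedSectionVars false

open Matrix Module
open scoped Kronecker

namespace CfsgLib.Classical.WreathMaxO

open CfsgLib.Classical.WreathMax

variable {F : Type*} [Field F] {κ : Type} [Fintype κ] [DecidableEq κ] {k : ℕ}
  {J : Matrix (Fin k) (Fin k) F}

/-- The map `w ↦ x ⊗ w` in slot `i`. -/
def sl (i : κ) (x : Fin k → F) : ((Rest i → Fin k) → F) →ₗ[F] ((κ → Fin k) → F) where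
  toFun w := fun z => WreathMax.tv x w (Equiv.funSplitAt i (Fin k) z)
  map_add' w w' := by funext z; simp [WreathMax.tv, mul_add]
  map_smul' c w := by funext z; simp [WreathMax.tv]; ring

theorem mulVec_split (i : κ) (M : TMat F κ k) (v : (κ → Fin k) → F) (p : Fin k × (Rest i → Fin k)) :
    (M *ᵥ v) ((Equiv.funSplitAt i (Fin k)).symm p) =
      (split i M *ᵥ (v ∘ (Equiv.funSplitAt i (Fin k)).symm)) p := by
  simp only [Matrix.mulVec, dotProduct, split_apply, Function.comp_apply]
  exact (Equiv.sum_comp (Equiv.funSplitAt i (Fin k)).symm _).symm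

theorem sl_symm (i : κ) (x : Fin k → F) (w : (Rest i → Fin k) → F) :
    (sl i x w) ∘ (Equiv.funSplitAt i (Fin k)).symm = WreathMax.tv x w := by
  funext p
  show WreathMax.tv x w (Equiv.funSplitAt i (Fin k) ((Equiv.funSplitAt i (Fin k)).symm p)) = _
  rw [Equiv.apply_symm_apply]

theorem ext_split (i : κ) {v w : (κ → Fin k) → F}
    (h : v ∘ (Equiv.funSplitAt i (Fin k)).symm = w ∘ (Equiv.funSplitAt i (Fin k)).symm) : v = w := by
  funext z
  have := congrFun h (Equiv.funSplitAt i (Fin k) z)
  rwa [Function.comp_apply, Function.comp_apply, Equiv.symm_apply_apply] at this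

theorem kron_sl (i : κ) {M : TMat F κ k} {A : Matrix (Fin k) (Fin k) F} {W : TMat F (Rest i) k}
    (h : split i M = A ⊗ₖ W) (x : Fin k → F) (w : (Rest i → Fin k) → F) :
    M *ᵥ sl i x w = sl i (A *ᵥ x) (W *ᵥ w) := by
  refine ext_split i (funext fun p => ?_)
  rw [Function.comp_apply, mulVec_split, h, sl_symm, kronecker_mulVec_tv, ← sl_symm]

theorem op_sl (i : κ) (A : Matrix (Fin k) (Fin k) F) (x : Fin k → F) (w : (Rest i → Fin k) → F) :
    op i A *ᵥ sl i x w = sl i (A *ᵥ x) w := by
  rw [kron_sl i (split_op_self i A), Matrix.one_mulVec]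

theorem op_sl_other {i l : κ} (h : l ≠ i) (A : Matrix (Fin k) (Fin k) F) (x : Fin k → F)
    (w : (Rest i → Fin k) → F) : op l A *ᵥ sl i x w = sl i x (op (⟨l, h⟩ : Rest i) A *ᵥ w) := by
  rw [kron_sl i (split_op_other h A), Matrix.one_mulVec]

theorem lift_sl (i : κ) (W : TMat F (Rest i) k) (x : Fin k → F) (w : (Rest i → Fin k) → F) :
    liftRest i W *ᵥ sl i x w = sl i x (W *ᵥ w) := by
  rw [kron_sl i (split_liftRest i W), Matrix.one_mulVec]

theorem tens_sl (i : κ) (C : κ → Matrix (Fin k) (Fin k) F) (x : Fin k → F) (w : (Rest i → Fin k) → F) :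
    tens C *ᵥ sl i x w = sl i (C i *ᵥ x) (tens (fun l : Rest i => C l) *ᵥ w) :=
  kron_sl i (split_tens i C) x w

theorem sl_add (i : κ) (x y : Fin k → F) (w : (Rest i → Fin k) → F) : sl i (x + y) w = sl i x w + sl i y w := by
  funext z; simp [sl, WreathMax.tv, add_mul]

theorem sl_smul (i : κ) (c : F) (x : Fin k → F) (w : (Rest i → Fin k) → F) :
    sl i (c • x) w = c • sl i x w := by
  funext z; simp [sl, WreathMax.tv, mul_assoc]

theorem sl_zero (i : κ) (w : (Rest i → Fin k) → F) : sl i (0 : Fin k → F) w = 0 := by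
  funext z; simp [sl, WreathMax.tv]

theorem sl_injective (i : κ) {x : Fin k → F} (hx : x ≠ 0) : Function.Injective (sl i x) := fun w w' h => by
  obtain ⟨a, ha⟩ := Function.ne_iff.1 hx
  funext u
  have := congrFun h ((Equiv.funSplitAt i (Fin k)).symm (a, u))
  simp only [sl, LinearMap.coe_mk, AddHom.coe_mk, Equiv.apply_symm_apply, WreathMax.tv] at this
  exact mul_left_cancel₀ ha this

/-- The contraction of slot `i` with `v`. -/
def ct (J : Matrix (Fin k) (Fin k) F) (i : κ) (v : Fin k → F) (z : (κ → Fin k) → F) : (Rest i → Fin k) → F :=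
  fun u => ∑ a, bt J v a * z ((Equiv.funSplitAt i (Fin k)).symm (a, u))

theorem op_dyad_mulVec (i : κ) (u v : Fin k → F) (z : (κ → Fin k) → F) :
    op i (dyad J u v) *ᵥ z = sl i u (ct J i v z) := by
  refine ext_split i (funext fun p => ?_)
  rw [Function.comp_apply, mulVec_split, sl_symm, split_op_self]
  simp only [Matrix.mulVec, dotProduct, Matrix.kroneckerMap_apply, Fintype.sum_prod_type, Matrix.one_apply, mul_ite,
    mul_one, mul_zero, ite_mul, zero_mul, Finset.sum_ite_eq, Finset.mem_univ, if_true, dyad, vecMulVec_apply, WreathMax.tv, ct,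
    Finset.mul_sum, Function.comp_apply, mul_assoc]

/-- The slice of `x` at slot `i`. -/
def slice (i : κ) (x : Fin k → F) : Submodule F ((κ → Fin k) → F) := LinearMap.range (sl i x)

theorem mem_slice {i : κ} {x : Fin k → F} {z : (κ → Fin k) → F} : z ∈ slice i x ↔ ∃ w, sl i x w = z := Iff.rfl

theorem finrank_slice (i : κ) {x : Fin k → F} (hx : x ≠ 0) :
    finrank F (slice i x) = Fintype.card (Rest i → Fin k) := by
  rw [slice, LinearMap.finrank_range_of_inj (sl_injective i hx), Module.finrank_fintype_fun_eq_card]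

theorem card_rest (i j : κ) : Fintype.card (Rest i → Fin k) = Fintype.card (Rest j → Fin k) := by
  simp [Fintype.card_subtype_compl]

theorem finrank_slice_eq (i j : κ) {x y : Fin k → F} (hx : x ≠ 0) (hy : y ≠ 0) :
    finrank F (slice i x) = finrank F (slice j y) := by
  rw [finrank_slice i hx, finrank_slice j hy, card_rest i j]

theorem mulVec_injective_GL {n : Type} [Fintype n] [DecidableEq n] (g : GL n F) :
    Function.Injective (g.1.mulVecLin : (n → F) →ₗ[F] (n → F)) := fun u v h => by
  have := congrArg (g⁻¹.1 *ᵥ ·) h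
  simpa [Matrix.mulVec_mulVec] using this

theorem finrank_map_slice (g : GL (κ → Fin k) F) (i : κ) {x : Fin k → F} (hx : x ≠ 0) :
    finrank F ((slice i x).map g.1.mulVecLin) = Fintype.card (Rest i → Fin k) := by
  rw [← finrank_slice i hx]
  exact (Submodule.equivMapOfInjective _ (mulVec_injective_GL g) _).finrank_eq.symm

end CfsgLib.Classical.WreathMaxO
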