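import Cfsg.Agent.Lib.Classical.WreathMaxO.NoFuse
import Cfsg.Agent.Lib.Classical.WreathMaxO.SliceSpace
import Cfsg.Agent.Lib.Classical.WreathMax.PermType

/-!
# Conjugated root groups inside the stabiliser: the normal form
-/

set_option autoImplicit false
set_option linter.unusedSectionVars false

open Matrix Module
open scoped Kronecker

namespace CfsgLib.Classical.WreathMaxO

open CfsgLib.Classical.WreathMax

variable {F : Type*} [Field F] [Fintype F] {κ : Type} [Fintype κ] [DecidableEq κ] {k : ℕ}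
  {J : Matrix (Fin k) (Fin k) F}

/-- An element of order `p`, tensor and isometric. -/
structure Norm1 (J : Matrix (Fin k) (Fin k) F) (C : Matrix (Fin k) (Fin k) F) : Prop where
  iso : adjJ J C * C = 1
  unip : ∃ r, (C - 1) ^ r = 0

theorem Norm1.eq_one (hk : 0 < k) {C : Matrix (Fin k) (Fin k) F} (h : Norm1 J C) {c : F} (hc : C = c • 1) :
    C = 1 := by
  obtain ⟨r, hr⟩ := h.unip
  rw [hc, show c • (1 : Matrix (Fin k) (Fin k) F) - 1 = (c - 1) • 1 by rw [sub_smul, one_smul], _root_.smul_pow,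
    one_pow] at hr
  haveI : Nonempty (Fin k) := ⟨⟨0, hk⟩⟩
  rw [hc, sub_eq_zero.1 (eq_zero_of_pow_eq_zero ((smul_eq_zero.1 hr).resolve_right one_ne_zero)), one_smul]

theorem tens_eq_one_scalar (hk : 0 < k) {C : κ → Matrix (Fin k) (Fin k) F} (h : tens C = 1) (l : κ) :
    ∃ c : F, c ≠ 0 ∧ C l = c • 1 := by
  haveI : Nonempty (κ → Fin k) := ⟨fun _ => ⟨0, hk⟩⟩
  have hne : ∀ m, C m ≠ 0 := fun m h0 => by
    have : tens C = 0 := by
      ext x y
      exact Finset.prod_eq_zero (Finset.mem_univ m) (by rw [h0]; rfl)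
    rw [this] at h
    exact zero_ne_one h
  obtain ⟨c, hc⟩ := scalar_of_tens_comm hne l (fun A => by rw [h, Matrix.one_mul, Matrix.mul_one])
  exact ⟨c, fun e => hne l (by rw [hc, e, zero_smul]), hc⟩

/-- A tensor isometry of order `p` is a tensor product of unipotent isometries. -/
theorem exists_norm1 (hJ : OG J) (hk : 0 < k) {p : ℕ} [Fact p.Prime] [CharP F p]
    {C : κ → Matrix (Fin k) (Fin k) F} (hp : tens C ^ p = 1)
    (hiso : adjJ (gT κ J) (tens C) * tens C = 1) :
    ∃ C', tens C' = tens C ∧ (∀ l, Norm1 J (C' l)) ∧ ∀ l, (C' l - 1) ^ p = 0 := by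
  classical
  haveI : Nonempty (Fin k) := ⟨⟨0, hk⟩⟩
  haveI : Nonempty (κ → Fin k) := ⟨fun _ => ⟨0, hk⟩⟩
  haveI : CharP (Matrix (Fin k) (Fin k) F) p := charP_of_injective_algebraMap (algebraMap F _).injective p
  have hpow : ∀ n : ℕ, tens C ^ n = tens fun l => C l ^ n := fun n => (map_pow tens C n).symm
  rw [hpow] at hp
  have hμ : ∀ l, ∃ μ : F, μ ≠ 0 ∧ (μ⁻¹ • C l) ^ p = 1 := fun l => by
    obtain ⟨c, hc0, hc⟩ := tens_eq_one_scalar hk hp l
    obtain ⟨μ, hμ⟩ := (Finite.injective_iff_surjective.1 (frobenius_inj F p)) c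
    rw [frobenius_def] at hμ
    have hμ0 : μ ≠ 0 := fun e => hc0 (by rw [← hμ, e, zero_pow (Fact.out : p.Prime).ne_zero])
    exact ⟨μ, hμ0, by rw [_root_.smul_pow, inv_pow, hμ, hc, smul_smul, inv_mul_cancel₀ hc0, one_smul]⟩
  choose μ hμ0 hμp using hμ
  set C' := fun l => (μ l)⁻¹ • C l
  set d := ∏ l, (μ l)⁻¹
  have hd : tens C' = d • tens C := tens_smul' _ _
  have hd1 : d = 1 := by
    have h1 : tens (fun l => C' l ^ p) = 1 := by
      rw [show (fun l => C' l ^ p) = 1 from funext hμp, map_one]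
    rw [show (fun l => C' l ^ p) = C' ^ p from rfl, map_pow, hd, _root_.smul_pow, hpow, hp] at h1
    have h2 := congrFun (congrFun h1 (fun _ => ⟨0, hk⟩)) (fun _ => ⟨0, hk⟩)
    simp only [Matrix.smul_apply, Matrix.one_apply_eq, smul_eq_mul, mul_one] at h2
    exact frobenius_inj F p (show frobenius F p d = frobenius F p 1 by rw [frobenius_def, frobenius_def, h2, one_pow])
  rw [hd1, one_smul] at hd
  have hnil : ∀ l, (C' l - 1) ^ p = 0 := fun l => by
    rw [sub_pow_char_of_commute p (Commute.one_right _), one_pow, show C' l ^ p = 1 from hμp l, sub_self]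
  refine ⟨C', hd, fun l => ?_, hnil⟩
  have hcc : tens (fun l => adjJ J (C' l) * C' l) = 1 := by
    rw [← tens_mul_tens, ← adjJ_tens hJ, hd, hiso]
  obtain ⟨lam, hlam0, hlam⟩ := tens_eq_one_scalar hk hcc l
  have hq : adjJ J (C' l) ^ p = 1 := by rw [← adjJ_pow hJ, hμp l, adjJ_one hJ]
  have hcomm : Commute (adjJ J (C' l)) (C' l) := by
    show adjJ J (C' l) * C' l = C' l * adjJ J (C' l)
    have h' : lam⁻¹ • adjJ J (C' l) * C' l = 1 := by
      rw [Matrix.smul_mul, hlam, smul_smul, inv_mul_cancel₀ hlam0, one_smul]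
    have h'' := mul_eq_one_comm.1 h'
    rw [Matrix.mul_smul, inv_smul_eq_iff₀ hlam0] at h''
    rw [h'', hlam]
  have hl1 : lam = 1 := by
    have h1 := congrArg (· ^ p) hlam
    simp only [hcomm.mul_pow, hq, hμp l, C', Matrix.one_mul, _root_.smul_pow, one_pow] at h1
    have h2 := congrFun (congrFun h1 ⟨0, hk⟩) ⟨0, hk⟩
    simp only [Matrix.smul_apply, Matrix.one_apply_eq, smul_eq_mul, mul_one] at h2
    exact frobenius_inj F p (show frobenius F p lam = frobenius F p 1 by rw [frobenius_def, frobenius_def, ← h2, one_pow])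
  exact ⟨by rw [hlam, hl1, one_smul], p, hnil l⟩

/-- In dimension at most four the complement of a singular line has no other singular line. -/
theorem minus_small (hM : GoodF J) (hk4 : k ≤ 4) : Minus J := by
  rcases hk4.eq_or_lt with h | h
  · exact hM.plane h
  intro e v he0 hee hvv hev
  by_contra hv
  have hJ := hM.og
  have hle := CfsgLib.Orth.singular_finrank_le (nondeg_qf hJ) (Submodule.span F {e, v}) fun z hz => by
    obtain ⟨a, b, rfl⟩ := Submodule.mem_span_pair.1 hz
    rw [qf_eq_zero hJ]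
    simp [hee, hvv, hev, hJ.swap v e]
  have h2 : (F ∙ e) < Submodule.span F {e, v} := by
    refine lt_of_le_of_ne (Submodule.span_mono (by simp)) fun h => hv ?_
    rw [h]
    exact Submodule.subset_span (by simp)
  have := Submodule.finrank_lt_finrank_of_lt h2
  rw [finrank_span_singleton he0] at this
  rw [Module.finrank_fintype_fun_eq_card, Fintype.card_fin] at hle
  omega

/-- A skew map of square zero vanishes without singular planes. -/
theorem skew_sq_zero (hJ : OG J) (hm : Minus J) {X : Matrix (Fin k) (Fin k) F} (hX : adjJ J X = -X)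
    (h0 : X * X = 0) : X = 0 := by
  refine Matrix.ext_iff_mulVec.2 fun v => ?_
  rw [Matrix.zero_mulVec]
  by_contra hu
  have hskew : ∀ p q, bJ J (X *ᵥ p) q = -bJ J p (X *ᵥ q) := fun p q => by
    rw [bJ_mulVec hJ, hX, Matrix.neg_mulVec, bJ_neg_right]
  have hts : ∀ p q, bJ J (X *ᵥ p) (X *ᵥ q) = 0 := fun p q => by
    rw [hskew, Matrix.mulVec_mulVec, h0, Matrix.zero_mulVec, bJ_zero_right, neg_zero]
  choose φ hφ using fun q => Submodule.mem_span_singleton.1 (hm _ (X *ᵥ q) hu (hts v v) (hts q q) (hts v q))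
  obtain ⟨w, hw⟩ : ∃ w, bJ J (X *ᵥ v) w ≠ 0 := by
    by_contra! hall
    exact hu (hJ.eq_zero hall)
  have h1 := hskew w w
  rw [← hφ w, bJ_smul_left, bJ_smul_right, hJ.swap w (X *ᵥ v)] at h1
  have hφw : φ w = 0 := by
    have h2 : (2 : F) * (φ w * bJ J (X *ᵥ v) w) = 0 := by linear_combination h1
    simpa [hJ.two, hw] using h2
  have h3 := hskew v w
  rw [← hφ w, hφw, zero_smul, bJ_zero_right, neg_zero] at h3
  exact hw h3

theorem Norm1.sq_ne (hM : GoodF J) (hk4 : k ≤ 4) {C : Matrix (Fin k) (Fin k) F} (h : Norm1 J C) (h1 : C ≠ 1) :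
    (C - 1) * (C - 1) ≠ 0 := fun h0 => h1 (sub_eq_zero.1 (skew_sq_zero hM.og (minus_small hM hk4) (by
  have hC : C * (2 • (1 : Matrix (Fin k) (Fin k) F) - C) = 1 := by
    rw [show C * (2 • (1 : Matrix (Fin k) (Fin k) F) - C) = 1 - (C - 1) * (C - 1) by noncomm_ring, h0, sub_zero]
  have hadj : adjJ J C = 2 • (1 : Matrix (Fin k) (Fin k) F) - C := by
    calc adjJ J C = adjJ J C * (C * (2 • (1 : Matrix (Fin k) (Fin k) F) - C)) := by rw [hC, Matrix.mul_one]
      _ = _ := by rw [← Matrix.mul_assoc, h.iso, Matrix.one_mul]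
  rw [adjJ_sub, adjJ_one hM.og, hadj, two_nsmul]
  abel) h0))

variable {g : GL (κ → Fin k) F} {i : κ} {e b : Fin k → F}

theorem uG_pow (hJ : OG J) (h : Root J e b) (s : F) (n : ℕ) : uG hJ h s ^ n = uG hJ h (n * s) := by
  induction n with
  | zero => rw [pow_zero, Nat.cast_zero, zero_mul, uG_zero]
  | succ n ih => rw [pow_succ, ih, uG_mul, Nat.cast_succ, add_mul, one_mul]

/-- The conjugated root element. -/
noncomputable def imgU (hJ : OG J) (g : GL (κ → Fin k) F) (i : κ) (h : Root J e b) (s : F) : GL (κ → Fin k) F :=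
  g * opU i (uG hJ h s) * g⁻¹

theorem imgU_mul (hJ : OG J) (h : Root J e b) (s t : F) : imgU hJ g i h s * imgU hJ g i h t = imgU hJ g i h (s + t) := by
  rw [imgU, imgU, imgU, ← uG_mul hJ h, map_mul]
  group

theorem imgU_zero (hJ : OG J) (h : Root J e b) : imgU hJ g i h 0 = 1 := by
  rw [imgU, uG_zero, map_one, mul_one, mul_inv_cancel]

theorem imgU_inv (hJ : OG J) (h : Root J e b) (s : F) : (imgU hJ g i h s)⁻¹ = imgU hJ g i h (-s) :=
  inv_eq_of_mul_eq_one_right (by rw [imgU_mul, add_neg_cancel, imgU_zero])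

theorem imgU_pow (hJ : OG J) (h : Root J e b) (s : F) (n : ℕ) : imgU hJ g i h s ^ n = imgU hJ g i h (n * s) := by
  rw [imgU, imgU, conj_pow, ← map_pow, uG_pow]

theorem imgU_iso (hJ : OG J) (hg : SimG J g) (h : Root J e b) (s : F) : imgU hJ g i h s ∈ IsoG (gT κ J) :=
  SimG.conj_iso hJ hg (opU_mem_IsoG hJ i (uG_mem_IsoG hJ h s))

theorem Ad_mul_Ad {n : Type} [Fintype n] [DecidableEq n] (g : GL n F) (X Y : Matrix n n F) :
    Ad g X * Ad g Y = Ad g (X * Y) := by
  simp only [Ad_apply]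
  rw [show g.1 * X * g⁻¹.1 * (g.1 * Y * g⁻¹.1) = g.1 * X * (g⁻¹.1 * g.1) * Y * g⁻¹.1 by
    simp only [Matrix.mul_assoc], ← Units.val_mul, inv_mul_cancel, Units.val_one, Matrix.mul_one]
  simp only [Matrix.mul_assoc]

/-- The skew part of the conjugated root group. -/
noncomputable def imgN (J : Matrix (Fin k) (Fin k) F) (g : GL (κ → Fin k) F) (i : κ) (e b : Fin k → F) :
    TMat F κ k := Ad g (op i (nP J e b))

theorem imgU_val (hJ : OG J) (h : Root J e b) (s : F) :
    (imgU hJ g i h s).1 = 1 + s • imgN J g i e b + (s * s / 2) • (imgN J g i e b * imgN J g i e b) := by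
  show g.1 * op i (uP J e b s) * g⁻¹.1 = _
  rw [← Ad_apply, op_uP, map_add, map_add, map_smul, map_smul, imgN, Ad_mul_Ad]
  congr 2
  rw [Ad_apply, Matrix.mul_one, ← Units.val_mul, mul_inv_cancel, Units.val_one]

theorem imgN_sq (h : Root J e b) (hJ : OG J) :
    imgN J g i e b * imgN J g i e b = (-bJ J b b) • Ad g (op i (eP J e)) := by
  rw [imgN, Ad_mul_Ad, ← map_mul, nP_mul_nP h.ee (h.be hJ) h.eb, op_smul, map_smul]

theorem imgN_ne (hJ : OG J) (hk : 0 < k) (h : Root J e b) : imgN J g i e b ≠ 0 := fun h0 => by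
  have h1 := congrArg (Ad g⁻¹) h0
  rw [imgN, Ad_inv_self, map_zero, ← op_zero i] at h1
  haveI : NeZero k := ⟨by omega⟩
  exact nP_ne hJ h (op_injective i h1)

theorem imgU_ne_one (hJ : OG J) (hk : 0 < k) (h : Root J e b) : imgU hJ g i h 1 ≠ 1 := fun h1 => by
  have h2 : imgU hJ g i h (-1) = 1 := by rw [← imgU_inv, h1, inv_one]
  have e1 := congrArg Units.val h1
  have e2 := congrArg Units.val h2
  rw [imgU_val, Units.val_one] at e1 e2
  refine imgN_ne (g := g) (i := i) hJ hk h ((smul_eq_zero.1 (?_ : (2 : F) • imgN J g i e b = 0)).resolve_left hJ.two)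
  linear_combination (norm := module) e1 - e2

/-- The three-term relation. -/
theorem imgU_relation (hJ : OG J) (h : Root J e b) (s : F) :
    (imgU hJ g i h s).1 = (1 - s * s) • (1 : TMat F κ k) + ((s + s * s) / 2) • (imgU hJ g i h 1).1 +
      ((s * s - s) / 2) • (imgU hJ g i h (-1)).1 := by
  rw [imgU_val, imgU_val, imgU_val]
  match_scalars <;> field_simp [hJ.two] <;> ring

theorem imgN_sq_eq (hJ : OG J) (h : Root J e b) :
    imgN J g i e b * imgN J g i e b = (imgU hJ g i h 1).1 + (imgU hJ g i h (-1)).1 - (2 : F) • (1 : TMat F κ k) := by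
  rw [imgU_val, imgU_val]
  match_scalars <;> field_simp [hJ.two] <;> ring

theorem rank_imgN_sq_le (hJ : OG J) (h : Root J e b) :
    (imgN J g i e b * imgN J g i e b).rank ≤ Fintype.card (Rest i → Fin k) := by
  rw [imgN_sq h hJ, Ad_apply]
  refine le_trans ?_ (rank_op_rankOne_le i e (bt J e))
  rw [← Matrix.smul_mul, ← Matrix.mul_smul]
  refine (Matrix.rank_mul_le_left _ _).trans ((Matrix.rank_mul_le_right _ _).trans ?_)
  rw [show (-bJ J b b) • (op i (eP J e) : TMat F κ k) = ((-bJ J b b) • (1 : TMat F κ k)) * op i (eP J e) by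
    rw [Matrix.smul_mul, Matrix.one_mul]]
  exact Matrix.rank_mul_le_right _ _

end CfsgLib.Classical.WreathMaxO
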