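import Cfsg.Agent.Lib.Classical.WreathMaxO.Pure
import Cfsg.Agent.Lib.Classical.WreathMaxO.RootImage

/-!
# A conjugated root group inside the stabiliser lives on one factor
-/

set_option autoImplicit false
set_option linter.unusedSectionVars false
set_option maxHeartbeats 1000000

open Matrix Module
open scoped Kronecker

namespace CfsgLib.Classical.WreathMaxO

open CfsgLib.Classical.WreathMax
open CfsgLib.Classical.WreathMaxSp (pv tens_mulVec_pv permM_mulVec_pv pv_ne_zero exists_dot_sep exists_avoid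
  not_two_differ span_ne_top)

section Basic

variable {F : Type*} [Field F] {κ : Type} [Fintype κ] [DecidableEq κ] {k : ℕ}

theorem wr_pv {h : GL (κ → Fin k) F} {σ : Equiv.Perm κ} {C : κ → GL (Fin k) F} (hh : h = tensU C * permU σ)
    (u : κ → Fin k → F) : h.1 *ᵥ pv u = pv fun l => (C l).1 *ᵥ u (σ⁻¹ l) := by
  rw [hh, Units.val_mul, tensU_coe, permU_coe, ← Matrix.mulVec_mulVec, permM_mulVec_pv, tens_mulVec_pv]

theorem wr_inv_pv {h : GL (κ → Fin k) F} {σ : Equiv.Perm κ} {C : κ → GL (Fin k) F} (hh : h = tensU C * permU σ)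
    (u : κ → Fin k → F) : h⁻¹.1 *ᵥ pv u = pv fun l => (C (σ l))⁻¹.1 *ᵥ u (σ l) := by
  have e : h.1 *ᵥ (pv fun l => (C (σ l))⁻¹.1 *ᵥ u (σ l)) = pv u := by
    rw [wr_pv hh]
    congr 1
    funext l
    rw [Equiv.Perm.coe_inv, Equiv.apply_symm_apply, Matrix.mulVec_mulVec, ← Units.val_mul, mul_inv_cancel,
      Units.val_one, Matrix.one_mulVec]
  rw [← e, Matrix.mulVec_mulVec, ← Units.val_mul, inv_mul_cancel, Units.val_one, Matrix.one_mulVec]

theorem gl_mulVec_ne {A : GL (Fin k) F} {v : Fin k → F} (hv : v ≠ 0) : A.1 *ᵥ v ≠ 0 := fun h0 => hv (by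
  have := congrArg (A⁻¹.1 *ᵥ ·) h0
  simpa [Matrix.mulVec_mulVec, ← Units.val_mul] using this)

theorem span_pair_ne_top (hk : 3 ≤ k) (u u' : Fin k → F) :
    Submodule.span F {u, u'} ≠ (⊤ : Submodule F (Fin k → F)) := fun h => by
  classical
  have h1 : finrank F (Submodule.span F ({u, u'} : Set (Fin k → F))) ≤ 2 := by
    refine (finrank_span_le_card _).trans ?_
    simp only [Set.toFinset_insert, Set.toFinset_singleton]
    exact Finset.card_le_two
  rw [h, finrank_top, finrank_fin_fun] at h1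
  omega

theorem notMem_span_pair {v a c : Fin k → F} (hc : c ≠ 0) (hac : a ∉ F ∙ c) (hv : v ∉ Submodule.span F {a, c}) :
    c ∉ Submodule.span F {v, a} := fun h => by
  obtain ⟨α, β, e⟩ := Submodule.mem_span_pair.1 h
  rcases eq_or_ne α 0 with rfl | hα
  · rw [zero_smul, zero_add] at e
    rcases eq_or_ne β 0 with rfl | hβ
    · rw [zero_smul] at e
      exact hc e.symm
    · exact hac (Submodule.mem_span_singleton.2 ⟨β⁻¹, by rw [← e, inv_smul_smul₀ hβ]⟩)
  · exact hv (Submodule.mem_span_pair.2 ⟨-(α⁻¹ * β), α⁻¹, by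
      rw [← e, smul_add, smul_smul, smul_smul, inv_mul_cancel₀ hα, one_smul, neg_smul]; abel⟩)

theorem wr_mul (σ τ : Equiv.Perm κ) (C D : κ → GL (Fin k) F) :
    tensU C * permU σ * (tensU D * permU τ) = tensU (fun l => C l * D (σ⁻¹ l)) * permU (σ * τ) := by
  rw [map_mul, ← tensU_mul, mul_assoc (tensU C), ← mul_assoc (permU σ), permU_mul_tensU]
  simp only [mul_assoc]

theorem tensU_inv (D : κ → GL (Fin k) F) : (tensU D)⁻¹ = tensU fun l => (D l)⁻¹ :=
  inv_eq_of_mul_eq_one_right (by rw [tensU_mul]; simp [tensU_one])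

/-- A tensor product of matrices all trivial but one. -/
theorem tens_eq_op {C : κ → Matrix (Fin k) (Fin k) F} (j : κ) (h : ∀ l, l ≠ j → C l = 1) : tens C = op j (C j) := by
  rw [op_eq_tens]
  congr 1
  funext l
  by_cases hl : l = j
  · subst hl; simp
  · simp [hl, h l hl]

end Basic

variable {F : Type*} [Field F] [Fintype F] {κ : Type} [Fintype κ] [DecidableEq κ] {k : ℕ}
  {J : Matrix (Fin k) (Fin k) F} {g : GL (κ → Fin k) F} {i : κ} {e b : Fin k → F}

theorem not_two_pure {α β : F} (hα : α ≠ 0) (hβ : β ≠ 0) {u u' w : κ → Fin k → F}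
    (h : α • pv u + β • pv u' = pv w) (hu : ∀ l, u l ≠ 0) (hu' : ∀ l, u' l ≠ 0) {a c : κ} (hac : a ≠ c)
    (ha : u a ∉ F ∙ u' a) (hc : u c ∉ F ∙ u' c) : False :=
  not_two_differ hα hβ h hu hu' hac ha hc

/-- The norm of a unipotent tensor map of order three is injective on a slice. -/
theorem norm_injective {R : κ → Matrix (Fin k) (Fin k) F} (a : κ) {r : ℕ} (hr : (R a - 1) ^ r = 0) {f : Fin k → F}
    (hf : ((R a - 1) * (R a - 1)) *ᵥ f ≠ 0) {w : (Rest a → Fin k) → F}
    (h : (1 + tens R + tens R * tens R) *ᵥ sl a f w = 0) : w = 0 := by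
  have hsp : f ∉ Submodule.span F {R a *ᵥ f, R a *ᵥ (R a *ᵥ f)} := fun hm => by
    obtain ⟨α, β, hαβ⟩ := Submodule.mem_span_pair.1 hm
    set X := R a - 1 with hX
    have hR : R a = 1 + X := by rw [hX]; abel
    obtain ⟨h0, h1, h2⟩ := nilp_indep hr hf (c₀ := α + β - 1) (c₁ := α + 2 * β) (c₂ := β) (by
      rw [hR, Matrix.mulVec_mulVec, show (1 + X) * (1 + X) = 1 + (X + X) + X * X by noncomm_ring, Matrix.add_mulVec,
        Matrix.add_mulVec, Matrix.add_mulVec, Matrix.add_mulVec, Matrix.one_mulVec] at hαβ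
      linear_combination (norm := module) hαβ)
    rw [h2, mul_zero, add_zero] at h1
    rw [h1, h2, add_zero, zero_sub, neg_eq_zero] at h0
    exact one_ne_zero h0
  obtain ⟨θ, hθ, hθ0⟩ := Submodule.exists_dual_map_eq_bot_of_notMem hsp inferInstance
  have hz : ∀ x ∈ Submodule.span F {R a *ᵥ f, R a *ᵥ (R a *ᵥ f)}, θ x = 0 := fun x hx => by
    have := Submodule.mem_map_of_mem (f := θ) hx
    rwa [hθ0, Submodule.mem_bot] at this
  rw [Matrix.add_mulVec, Matrix.add_mulVec, Matrix.one_mulVec, ← Matrix.mulVec_mulVec, tens_sl, tens_sl] at h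
  have h1 := congrArg (fun z => slant (ι := Rest a → Fin k) θ (z ∘ (Equiv.funSplitAt a (Fin k)).symm)) h
  simp only [show ∀ y z : (κ → Fin k) → F, (y + z) ∘ (Equiv.funSplitAt a (Fin k)).symm =
      y ∘ (Equiv.funSplitAt a (Fin k)).symm + z ∘ (Equiv.funSplitAt a (Fin k)).symm from fun y z => rfl,
    sl_symm, map_add, slant_tv, hz _ (Submodule.subset_span (Set.mem_insert _ _)),
    hz _ (Submodule.subset_span (Set.mem_insert_of_mem _ rfl)), zero_smul, add_zero] at h1
  exact (smul_eq_zero.1 (h1.trans (map_zero _))).resolve_left hθ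

/-- The norm of a tensor map of order three with two non-trivial factors in dimension four has large rank. -/
theorem rank_norm_two {R : κ → Matrix (Fin 4) (Fin 4) F} {a c : κ} (hac : a ≠ c) (ha3 : (R a - 1) ^ 3 = 0)
    (hc3 : (R c - 1) ^ 3 = 0) {f : Fin 4 → F} (hf : ((R a - 1) * (R a - 1)) *ᵥ f ≠ 0) {f' : Fin 4 → F}
    (hf' : ((R c - 1) * (R c - 1)) *ᵥ f' ≠ 0) :
    Fintype.card (Rest a → Fin 4) < (1 + tens R + tens R * tens R : TMat F κ 4).rank := by
  classical
  set X := R a - 1 with hX
  have hR : R a = 1 + X := by rw [hX]; abel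
  set V₃ := Submodule.span F (Set.range ![f, X *ᵥ f, (X * X) *ᵥ f]) with hV₃
  have hmem : ∀ j, ![f, X *ᵥ f, (X * X) *ᵥ f] j ∈ V₃ := fun j => Submodule.subset_span ⟨j, rfl⟩
  have hinv : ∀ y ∈ V₃, X *ᵥ y ∈ V₃ := by
    intro y hy
    have : V₃ ≤ V₃.comap X.mulVecLin := by
      rw [hV₃, Submodule.span_le]
      rintro _ ⟨j, rfl⟩
      fin_cases j
      · exact hmem 1
      · show X *ᵥ (X *ᵥ f) ∈ V₃
        rw [Matrix.mulVec_mulVec]
        exact hmem 2
      · show X *ᵥ ((X * X) *ᵥ f) ∈ V₃
        rw [Matrix.mulVec_mulVec, show X * (X * X) = X ^ 3 from (pow_three X).symm, ha3, Matrix.zero_mulVec]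
        exact zero_mem _
    exact this hy
  have hV₃ne : V₃ ≠ ⊤ := fun htop => by
    have h1 : finrank F V₃ ≤ Fintype.card (Fin 3) := finrank_range_le_card ![f, X *ᵥ f, (X * X) *ᵥ f]
    rw [htop, finrank_top, finrank_fin_fun, Fintype.card_fin] at h1
    omega
  obtain ⟨x, -, hx⟩ := SetLike.exists_of_lt hV₃ne.lt_top
  obtain ⟨θ, hθ, hθ0⟩ := Submodule.exists_dual_map_eq_bot_of_notMem hx inferInstance
  have hz : ∀ y ∈ V₃, θ y = 0 := fun y hy => by
    have := Submodule.mem_map_of_mem (f := θ) hy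
    rwa [hθ0, Submodule.mem_bot] at this
  have h34 : finrank F V₃ = 3 := by
    have hli : LinearIndependent F ![f, X *ᵥ f, (X * X) *ᵥ f] := by
      rw [Fintype.linearIndependent_iff]
      intro c hc
      rw [Fin.sum_univ_three] at hc
      obtain ⟨h0, h1, h2⟩ := nilp_indep ha3 hf hc
      intro j; fin_cases j <;> assumption
    rw [hV₃, finrank_span_eq_card hli, Fintype.card_fin]
  have hθX : θ (X *ᵥ x) = 0 := by
    have htop : V₃ ⊔ F ∙ x = ⊤ := Submodule.eq_top_of_finrank_eq (le_antisymm (Submodule.finrank_le _) (by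
      have h1 : V₃ < V₃ ⊔ F ∙ x := lt_of_le_of_ne le_sup_left fun e =>
        hx (e ▸ Submodule.mem_sup_right (Submodule.mem_span_singleton_self x))
      have := Submodule.finrank_lt_finrank_of_lt h1
      rw [finrank_fin_fun]; omega))
    obtain ⟨w, hw, _, hcx, e⟩ := Submodule.mem_sup.1 (htop ▸ Submodule.mem_top : X *ᵥ x ∈ V₃ ⊔ F ∙ x)
    obtain ⟨d, rfl⟩ := Submodule.mem_span_singleton.1 hcx
    have hx1 : θ (X *ᵥ x) = d * θ x := by rw [← e, map_add, map_smul, hz w hw, zero_add, smul_eq_mul]
    have hx2 : ∀ y, θ (X *ᵥ y) = d * θ y := fun y => by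
      obtain ⟨u, hu, _, hcy, rfl⟩ := Submodule.mem_sup.1 (htop ▸ Submodule.mem_top : y ∈ V₃ ⊔ F ∙ x)
      obtain ⟨t, rfl⟩ := Submodule.mem_span_singleton.1 hcy
      rw [Matrix.mulVec_add, Matrix.mulVec_smul, map_add, map_add, map_smul, map_smul, hz u hu, hz _ (hinv u hu), hx1]
      simp only [smul_eq_mul]; ring
    have h3 : θ ((X ^ 3) *ᵥ x) = d * (d * (d * θ x)) := by
      rw [pow_three, ← Matrix.mulVec_mulVec, ← Matrix.mulVec_mulVec, hx2, hx2, hx2]
    rw [ha3, Matrix.zero_mulVec, map_zero] at h3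
    have : d = 0 := by simpa [hθ] using h3.symm
    rw [hx1, this, zero_mul]
  have hθR : θ (R a *ᵥ x) = θ x := by rw [hR, Matrix.add_mulVec, Matrix.one_mulVec, map_add, hθX, add_zero]
  have hθRR : θ (R a *ᵥ (R a *ᵥ x)) = θ x := by
    rw [hR, Matrix.mulVec_mulVec, show (1 + X) * (1 + X) = 1 + (X + X) + X * X by noncomm_ring, Matrix.add_mulVec,
      Matrix.add_mulVec, Matrix.add_mulVec, Matrix.one_mulVec, map_add, map_add, map_add, hθX, ← Matrix.mulVec_mulVec]
    have : θ (X *ᵥ (X *ᵥ x)) = 0 := by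
      have htop : V₃ ⊔ F ∙ x = ⊤ := Submodule.eq_top_of_finrank_eq (le_antisymm (Submodule.finrank_le _) (by
        have h1 : V₃ < V₃ ⊔ F ∙ x := lt_of_le_of_ne le_sup_left fun e =>
          hx (e ▸ Submodule.mem_sup_right (Submodule.mem_span_singleton_self x))
        have := Submodule.finrank_lt_finrank_of_lt h1
        rw [finrank_fin_fun]; omega))
      obtain ⟨w, hw, _, hcx, e⟩ := Submodule.mem_sup.1 (htop ▸ Submodule.mem_top : X *ᵥ x ∈ V₃ ⊔ F ∙ x)
      obtain ⟨d, rfl⟩ := Submodule.mem_span_singleton.1 hcx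
      rw [← e, Matrix.mulVec_add, Matrix.mulVec_smul, map_add, map_smul, hz _ (hinv w hw), hθX, smul_zero, add_zero]
    rw [this]; ring
  set R' : Rest a → Matrix (Fin 4) (Fin 4) F := fun l => R l with hR'
  obtain ⟨w₀, hw₀⟩ : ∃ w₀, (1 + tens R' + tens R' * tens R' : TMat F (Rest a) 4) *ᵥ w₀ ≠ 0 := by
    haveI : Nonempty (Fin 4) := ⟨0⟩
    obtain ⟨u, hu⟩ := exists_ne (0 : (Rest (⟨c, hac.symm⟩ : Rest a) → Fin 4) → F)
    exact ⟨sl (⟨c, hac.symm⟩ : Rest a) f' u, fun h => hu (norm_injective (R := R') ⟨c, hac.symm⟩ hc3 hf' h)⟩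
  set Y : TMat F κ 4 := 1 + tens R + tens R * tens R with hY
  let Φ : ((Rest a → Fin 4) → F) × F →ₗ[F] ((κ → Fin 4) → F) :=
    Y.mulVecLin ∘ₗ ((sl a f).coprod ((LinearMap.id : F →ₗ[F] F).smulRight (sl a x w₀)))
  have hinj : Function.Injective Φ := by
    rw [injective_iff_map_eq_zero]
    rintro ⟨w, t⟩ h0
    change Y *ᵥ (sl a f w + t • sl a x w₀) = 0 at h0
    have hθf : ∀ y ∈ V₃, θ y = 0 := hz
    have h1 := congrArg (fun z => slant (ι := Rest a → Fin 4) θ (z ∘ (Equiv.funSplitAt a (Fin 4)).symm)) h0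
    simp only [hY, Matrix.add_mulVec, Matrix.one_mulVec, Matrix.mulVec_add, Matrix.mulVec_smul,
      ← Matrix.mulVec_mulVec, tens_sl] at h1
    simp only [show ∀ y z : (κ → Fin 4) → F, (y + z) ∘ (Equiv.funSplitAt a (Fin 4)).symm =
      y ∘ (Equiv.funSplitAt a (Fin 4)).symm + z ∘ (Equiv.funSplitAt a (Fin 4)).symm from fun y z => rfl,
      show ∀ (c : F) (y : (κ → Fin 4) → F), (c • y) ∘ (Equiv.funSplitAt a (Fin 4)).symm =
        c • (y ∘ (Equiv.funSplitAt a (Fin 4)).symm) from fun c y => rfl,
      sl_symm, map_add, map_smul, slant_tv, hθR, hθRR] at h1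
    have f0 : θ f = 0 := hz _ (hmem 0)
    have f1 : θ (R a *ᵥ f) = 0 := by
      rw [hR, Matrix.add_mulVec, Matrix.one_mulVec, map_add, f0, hz (X *ᵥ f) (hmem 1), add_zero]
    have f2 : θ (R a *ᵥ (R a *ᵥ f)) = 0 := by
      rw [hR, Matrix.mulVec_mulVec, show (1 + X) * (1 + X) = 1 + (X + X) + X * X by noncomm_ring, Matrix.add_mulVec,
        Matrix.add_mulVec, Matrix.add_mulVec, Matrix.one_mulVec, map_add, map_add, map_add, f0,
        hz (X *ᵥ f) (hmem 1), hz ((X * X) *ᵥ f) (hmem 2)]
      simp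
    rw [f0, f1, f2, show slant θ ((0 : (κ → Fin 4) → F) ∘ (Equiv.funSplitAt a (Fin 4)).symm) =
      (0 : (Rest a → Fin 4) → F) from map_zero _] at h1
    have ht : t = 0 := by
      by_contra ht
      refine hw₀ ((smul_eq_zero.1 (show (t * θ x) • ((1 + tens R' + tens R' * tens R') *ᵥ w₀) = 0 from ?_)).resolve_left
        (mul_ne_zero ht hθ))
      rw [← h1, Matrix.add_mulVec, Matrix.add_mulVec, Matrix.one_mulVec, ← Matrix.mulVec_mulVec]
      module
    rw [ht, zero_smul, add_zero] at h0
    exact Prod.ext (norm_injective a ha3 hf h0) ht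
  have hle : LinearMap.range Φ ≤ LinearMap.range Y.mulVecLin := LinearMap.range_comp_le_range _ _
  have h2 := Submodule.finrank_mono hle
  rw [LinearMap.finrank_range_of_inj hinj, finrank_prod, Module.finrank_fintype_fun_eq_card, finrank_self] at h2
  rw [Matrix.rank]
  omega

/-- A norm of order three that cycles three factors in dimension four has large rank. -/
theorem rank_norm_cycle {h : TMat F κ 4} {D : κ → GL (Fin 4) F} {σ : Equiv.Perm κ} {E : κ → Matrix (Fin 4) (Fin 4) F}
    {a b c : κ} (hab : a ≠ b) (hσa : σ a = b) (hσb : σ b = c) (hσc : σ c = a) (hbc : b ≠ c) (hca : c ≠ a)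
    (hD : (tensU D)⁻¹.1 * h * (tensU D).1 = tens E * permM σ) (hb : E b = 1) (hc : E c = 1)
    (ha : ∃ t : F, E a = t • 1) : Fintype.card (Rest b → Fin 4) < (1 + h + h * h : TMat F κ 4).rank := by
  classical
  obtain ⟨t, ha⟩ := ha
  have ia : σ⁻¹ a = c := by rw [Equiv.Perm.inv_eq_iff_eq, hσc]
  have ib : σ⁻¹ b = a := by rw [Equiv.Perm.inv_eq_iff_eq, hσa]
  have ic : σ⁻¹ c = b := by rw [Equiv.Perm.inv_eq_iff_eq, hσb]
  set h' := tens E * permM σ with hh'
  have hsq : h' * h' = tens (fun l => E l * E (σ⁻¹ l)) * permM (σ * σ) := by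
    rw [hh', ← Matrix.mul_assoc, Matrix.mul_assoc (tens E) (permM σ), permM_mul_tens, ← Matrix.mul_assoc,
      tens_mul_tens, Matrix.mul_assoc, ← map_mul]
  have entry : ∀ (E' : κ → Matrix (Fin 4) (Fin 4) F) (τ : Equiv.Perm κ) (x y : κ → Fin 4),
      (tens E' * permM τ : TMat F κ 4) x y = tens E' x (fun l => y (τ⁻¹ l)) := fun E' τ x y => by
    rw [Matrix.mul_apply, Finset.sum_eq_single (fun l => y (τ⁻¹ l))]
    · rw [permM_apply, if_pos (funext fun l => by simp), mul_one]
    · intro z _ hz
      rw [permM_apply, if_neg, mul_zero]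
      rintro rfl
      exact hz (funext fun l => by simp)
    · simp
  have z1 : ∀ x y : κ → Fin 4, h' x y ≠ 0 → y c = x a ∧ y a = x b ∧ y b = x c := by
    intro x y hne
    rw [hh', entry, tens_apply, Finset.prod_ne_zero_iff] at hne
    refine ⟨?_, ?_, ?_⟩
    · have := hne a (Finset.mem_univ a)
      rw [ha, ia, Matrix.smul_apply] at this
      by_contra hn
      exact this (by rw [Matrix.one_apply_ne (Ne.symm hn), smul_zero])
    · have := hne b (Finset.mem_univ b)
      rw [hb, ib] at this
      by_contra hn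
      exact this (Matrix.one_apply_ne (Ne.symm hn))
    · have := hne c (Finset.mem_univ c)
      rw [hc, ic] at this
      by_contra hn
      exact this (Matrix.one_apply_ne (Ne.symm hn))
  have z2 : ∀ x y : κ → Fin 4, (h' * h') x y ≠ 0 → x c = y a ∧ x a = y b ∧ x b = y c := by
    intro x y hne
    rw [hsq, entry, tens_apply, Finset.prod_ne_zero_iff] at hne
    refine ⟨?_, ?_, ?_⟩
    · have := hne c (Finset.mem_univ c)
      rw [_root_.mul_inv_rev, Equiv.Perm.mul_apply, ic, ib, hc, hb, Matrix.one_mul] at this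
      by_contra hn
      exact this (Matrix.one_apply_ne hn)
    · have := hne a (Finset.mem_univ a)
      rw [_root_.mul_inv_rev, Equiv.Perm.mul_apply, ia, ic, ha, hc, Matrix.mul_one, Matrix.smul_apply] at this
      by_contra hn
      exact this (by rw [Matrix.one_apply_ne hn, smul_zero])
    · have := hne b (Finset.mem_univ b)
      rw [_root_.mul_inv_rev, Equiv.Perm.mul_apply, ib, ia, hb, ha, Matrix.one_mul, Matrix.smul_apply] at this
      by_contra hn
      exact this (by rw [Matrix.one_apply_ne hn, smul_zero])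
  let o : Fin 4 := 0
  let box : (Rest b → Fin 4) → κ → Fin 4 := fun u l =>
    if hl : l = b then ⟨2 + (u ⟨a, hab⟩).val / 2, by have := (u ⟨a, hab⟩).isLt; omega⟩
    else if l = a then ⟨(u ⟨a, hab⟩).val % 2, by omega⟩ else u ⟨l, hl⟩
  let x₀ : κ → Fin 4 := fun l => if l = c then 3 else 2
  let f : (Rest b → Fin 4) ⊕ Unit → κ → Fin 4 := Sum.elim box fun _ => x₀
  have hbox : ∀ u, ((box u a : Fin 4) : ℕ) < 2 ∧ 2 ≤ ((box u b : Fin 4) : ℕ) := fun u => by
    simp only [box, dif_neg hab, if_true, dif_pos]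
    constructor <;> omega
  have hx₀ : x₀ a = 2 ∧ x₀ b = 2 ∧ x₀ c = 3 := by simp [x₀, Ne.symm hca, hbc]
  have hf : Function.Injective f := by
    rintro (u | _) (v | _) h
    · refine congrArg Sum.inl (funext fun l => ?_)
      have e1 := congrArg Fin.val (congrFun h a)
      have e2 := congrArg Fin.val (congrFun h b)
      simp only [f, Sum.elim_inl, box, dif_neg hab, if_true, dif_pos] at e1 e2
      by_cases hl : l.1 = a
      · have : l = ⟨a, hab⟩ := Subtype.ext hl
        subst this
        exact Fin.ext (by omega)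
      · have e3 := congrFun h l.1
        simpa [f, box, l.2, hl] using e3
    · have e1 := congrArg Fin.val (congrFun h a)
      have := (hbox u).1
      simp only [f, Sum.elim_inl, Sum.elim_inr, hx₀.1] at e1
      rw [e1] at this
      exact absurd this (by decide)
    · have e1 := congrArg Fin.val (congrFun h a)
      have := (hbox v).1
      simp only [f, Sum.elim_inl, Sum.elim_inr, hx₀.1] at e1
      rw [← e1] at this
      exact absurd this (by decide)
    · rfl
  have hno : ∀ p q, ¬ (f q c = f p a ∧ f q a = f p b ∧ f q b = f p c) := by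
    rintro (u | _) (v | _) ⟨h1, h2, h3⟩ <;> simp only [f, Sum.elim_inl, Sum.elim_inr, hx₀] at h1 h2 h3
    · have := (hbox v).1; have := (hbox u).2; rw [h2] at *; omega
    · have := (hbox u).1; rw [← h1] at this; exact absurd this (by decide)
    · have := (hbox v).1; rw [h2] at this; exact absurd this (by decide)
    · exact absurd h1 (by decide)
  have hsub : (1 + h' + h' * h').submatrix f f = 1 := by
    ext p q
    rw [Matrix.submatrix_apply, Matrix.add_apply, Matrix.add_apply,
      show h' (f p) (f q) = 0 from by_contra fun hne => hno p q (z1 _ _ hne),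
      show (h' * h') (f p) (f q) = 0 from by_contra fun hne => hno q p (z2 _ _ hne), add_zero, add_zero,
      Matrix.one_apply, Matrix.one_apply]
    exact if_congr hf.eq_iff rfl rfl
  have hrank : ((1 + h' + h' * h').submatrix f f).rank ≤ (1 + h' + h' * h').rank := by
    have e : (1 + h' + h' * h').submatrix f f = (1 : TMat F κ 4).submatrix f id * (1 + h' + h' * h') *
        (1 : TMat F κ 4).submatrix id f := by
      ext p q
      simp [Matrix.mul_apply, Matrix.one_apply]
    rw [e]
    exact (Matrix.rank_mul_le_left _ _).trans (Matrix.rank_mul_le_right _ _)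
  rw [hsub, Matrix.rank_one, Fintype.card_sum, Fintype.card_unit] at hrank
  have hconj : 1 + h' + h' * h' = (tensU D)⁻¹.1 * (1 + h + h * h) * (tensU D).1 := by
    rw [← hD, Matrix.mul_add, Matrix.mul_add, Matrix.mul_one, Matrix.add_mul, Matrix.add_mul, ← Units.val_mul,
      inv_mul_cancel, Units.val_one,
      show (tensU D)⁻¹.1 * h * (tensU D).1 * ((tensU D)⁻¹.1 * h * (tensU D).1) =
        (tensU D)⁻¹.1 * h * ((tensU D).1 * (tensU D)⁻¹.1) * h * (tensU D).1 by simp only [Matrix.mul_assoc],
      ← Units.val_mul, mul_inv_cancel, Units.val_one, Matrix.mul_one]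
    simp only [Matrix.mul_assoc]
  rw [hconj] at hrank
  exact lt_of_lt_of_le (lt_of_lt_of_le (Nat.lt_succ_self _) hrank)
    ((Matrix.rank_mul_le_left _ _).trans (Matrix.rank_mul_le_right _ _))

/-- A conjugated root group inside the stabiliser lives on one factor. -/
theorem classify_op (hG : GoodF J) (hg : SimG J g) (h : Root J e b) (hb : 5 ≤ k → bJ J b b = 0)
    (hall : ∀ s, imgU hG.og g i h s ∈ wreathT F κ k) :
    ∃ (j : κ) (C : Matrix (Fin k) (Fin k) F), (imgU hG.og g i h 1).1 = op j C := by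
  classical
  have hJ := hG.og
  have hk := hG.three
  obtain ⟨p, hp⟩ := CharP.exists F
  haveI := hp
  haveI : Fact p.Prime := ⟨(CharP.char_is_prime_or_zero F p).resolve_right (CharP.char_ne_zero_of_finite F p)⟩
  obtain ⟨σ, C, hC⟩ := hall 1
  set h1 := imgU hJ g i h 1 with hh1
  have hpow : h1 ^ p = 1 := by
    rw [hh1, imgU_pow, CharP.cast_eq_zero, zero_mul, imgU_zero]
  have hinv : h1⁻¹.1 = (imgU hJ g i h (-1)).1 := by rw [hh1, imgU_inv]
  obtain ⟨v₀, hv₀⟩ : ∃ v : Fin k → F, v ≠ 0 := ⟨e, h.e0⟩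
  have hσp : ∀ l, (σ ^ p) l = l := fun l => by
    obtain ⟨A', hA', hns⟩ := conj_pow_op hC p l (Matrix.single ⟨0, by omega⟩ ⟨0, by omega⟩ 1)
    rw [hpow, Units.val_one, Matrix.one_mul, Matrix.mul_one] at hA'
    by_contra hne
    obtain ⟨c, hc⟩ := eq_of_op_eq_op (Ne.symm hne) hA'
    exact single_ne_smul_one (by omega) _ _ c hc
  have hodd : ∀ l, σ (σ l) = l → σ l = l := fun l hl => by
    have h2 : p ≠ 2 := fun e2 => hJ.two (by subst e2; exact_mod_cast CharP.cast_eq_zero F 2)
    obtain ⟨r, hr⟩ := (Fact.out : p.Prime).odd_of_ne_two h2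
    have h2r : ∀ n : ℕ, (σ ^ (2 * n)) l = l := fun n => by
      induction n with
      | zero => rfl
      | succ n ih => rw [Nat.mul_succ, pow_add, Equiv.Perm.mul_apply, pow_two, Equiv.Perm.mul_apply, hl, ih]
    have := hσp l
    rwa [hr, pow_succ', Equiv.Perm.mul_apply, h2r] at this
  have hcyc : σ ≠ 1 → ∃ a, σ a ≠ a := fun hσ => by
    by_contra hc
    push Not at hc
    exact hσ (Equiv.ext hc)
  by_cases h5 : 5 ≤ k
  · -- long roots
    have hA2 : imgN J g i e b * imgN J g i e b = 0 := by rw [imgN_sq h hJ, hb h5, neg_zero, zero_smul]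
    have key : ∀ u : κ → Fin k → F, (∀ l, u l ≠ 0) → ∀ a c, a ≠ c → u a ∉ F ∙ ((C a).1 *ᵥ u (σ⁻¹ a)) →
        u c ∉ F ∙ ((C c).1 *ᵥ u (σ⁻¹ c)) → False := by
      intro u hu a c hac hua huc
      have e3 : (-1 : F) • pv u + (2 : F) • (h1.1 *ᵥ pv u) = h1.1 *ᵥ (h1.1 *ᵥ pv u) := by
        have hm : h1.1 * h1.1 = (-1 : F) • (1 : TMat F κ k) + (2 : F) • h1.1 := by
          rw [hh1, ← Units.val_mul, imgU_mul, imgU_val, imgU_val, hA2]
          match_scalars <;> ring
        rw [Matrix.mulVec_mulVec, hm, Matrix.add_mulVec, Matrix.smul_mulVec, Matrix.smul_mulVec, Matrix.one_mulVec]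
      rw [wr_pv hC, wr_pv hC] at e3
      exact not_two_differ (neg_ne_zero.2 one_ne_zero) hJ.two e3 hu (fun l => gl_mulVec_ne (hu _)) hac hua huc
    by_cases hσ : σ = 1
    · subst hσ
      obtain ⟨C', hC', hN, -⟩ := exists_norm1 hJ (by omega) (p := p) (C := fun l => (C l).1)
        (by
          have := congrArg Units.val hpow
          rw [Units.val_pow_eq_pow_val, hC, map_one, mul_one, tensU_coe] at this
          exact this)
        (by
          have := (mem_IsoG_iff (gT_og hJ)).1 (imgU_iso (g := g) (i := i) hJ hg h 1)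
          rw [← hh1, hC, map_one, mul_one, tensU_coe] at this
          exact this)
      have hv : h1.1 = tens C' := by rw [hC', hC, map_one, mul_one, tensU_coe]
      by_cases hone : ∃ a c, a ≠ c ∧ C' a ≠ 1 ∧ C' c ≠ 1
      · obtain ⟨a, c, hac, ha, hc⟩ := hone
        exfalso
        have hns : ∀ l, C' l ≠ 1 → ∀ t : F, C' l ≠ t • 1 := fun l hl t ht => hl ((hN l).eq_one (by omega) ht)
        obtain ⟨ua, hua⟩ := exists_not_eigen (hns a ha)
        obtain ⟨uc, huc⟩ := exists_not_eigen (hns c hc)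
        have hua0 : ua ≠ 0 := fun e0 => hua (by rw [e0, Matrix.mulVec_zero]; exact Submodule.zero_mem _)
        have huc0 : uc ≠ 0 := fun e0 => huc (by rw [e0, Matrix.mulVec_zero]; exact Submodule.zero_mem _)
        set u : κ → Fin k → F := fun l => if l = a then ua else uc
        have e3 : (-1 : F) • pv u + (2 : F) • (h1.1 *ᵥ pv u) = h1.1 *ᵥ (h1.1 *ᵥ pv u) := by
          have hm : h1.1 * h1.1 = (-1 : F) • (1 : TMat F κ k) + (2 : F) • h1.1 := by
            rw [hh1, ← Units.val_mul, imgU_mul, imgU_val, imgU_val, hA2]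
            match_scalars <;> ring
          rw [Matrix.mulVec_mulVec, hm, Matrix.add_mulVec, Matrix.smul_mulVec, Matrix.smul_mulVec, Matrix.one_mulVec]
        rw [hv, tens_mulVec_pv, tens_mulVec_pv] at e3
        have hunit : ∀ (l : κ) (v : Fin k → F), v ≠ 0 → C' l *ᵥ v ≠ 0 := fun l v hv h0 => hv (by
          have := congrArg (adjJ J (C' l) *ᵥ ·) h0
          simpa [Matrix.mulVec_mulVec, (hN l).iso] using this)
        refine not_two_differ (neg_ne_zero.2 one_ne_zero) hJ.two e3 (fun l => by simp only [u]; split_ifs <;> assumption)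
          (fun l => hunit l _ (by simp only [u]; split_ifs <;> assumption)) hac ?_ ?_
        · simp only [u, if_true]
          exact mem_span_pair_flip hua0 hua
        · simp only [u, if_neg hac.symm]
          exact mem_span_pair_flip huc0 huc
      · obtain ⟨j, hj⟩ : ∃ j, ∀ l, l ≠ j → C' l = 1 := by
          push Not at hone
          by_cases hex : ∃ j, C' j ≠ 1
          · obtain ⟨j, hj⟩ := hex
            exact ⟨j, fun l hl => hone j l (Ne.symm hl) hj⟩
          · push Not at hex
            exact ⟨i, fun l _ => hex l⟩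
        exact ⟨j, C' j, by rw [hv, tens_eq_op j hj]⟩
    · obtain ⟨a, ha⟩ := hcyc hσ
      exfalso
      have hb' : σ⁻¹ a ≠ a := fun e' => ha (by rw [Equiv.Perm.inv_eq_iff_eq] at e'; exact e'.symm)
      obtain ⟨y, hy1, hy2⟩ := exists_avoid (span_ne_top (by omega) ((C a).1 *ᵥ v₀))
        (span_ne_top (by omega) (((C (σ a))⁻¹ : GL (Fin k) F).1 *ᵥ v₀))
      have hy0 : y ≠ 0 := fun e0 => hy1 (e0 ▸ Submodule.zero_mem _)
      refine key (fun l => if l = a then y else v₀) (fun l => by by_cases hl : l = a <;> simp [hl, hy0, hv₀]) a (σ a)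
        (Ne.symm ha) ?_ ?_
      · simpa only [if_true, if_pos, if_neg hb'] using hy1
      · simp only [if_neg ha, show σ⁻¹ (σ a) = a by simp, if_true]
        intro hc
        obtain ⟨c, hc⟩ := Submodule.mem_span_singleton.1 hc
        refine hy2 (Submodule.mem_span_singleton.2 ⟨c⁻¹, ?_⟩)
        have hc0 : c ≠ 0 := fun e0 => hv₀ (by rw [← hc, e0, zero_smul])
        rw [← hc, Matrix.mulVec_smul, Matrix.mulVec_mulVec, ← Units.val_mul, inv_mul_cancel, Units.val_one,
          Matrix.one_mulVec, smul_smul, inv_mul_cancel₀ hc0, one_smul]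
  · -- short roots
    have hk4 : k ≤ 4 := by omega
    have hodd' : Odd (Fintype.card F) := Nat.odd_iff.2 (FiniteField.odd_card_of_char_ne_two fun hc => hJ.two (by
      haveI := ringChar.of_eq hc; exact CharTwo.two_eq_zero))
    by_cases hq : Fintype.card F = 3
    · -- three elements
      have hk4' : k = 4 := by
        have := hG.ex (by rw [Nat.card_eq_fintype_card, hq])
        omega
      subst hk4'
      have hp3 : p = 3 := by
        haveI := charP_of_card_eq_prime_pow (R := F) (p := 3) (f := 1) (hp := ⟨by norm_num⟩) (by rw [hq]; rfl)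
        exact CharP.eq F hp this
      subst hp3
      have hY : (imgN J g i e b * imgN J g i e b) = 1 + h1.1 + h1.1 * h1.1 := by
        have h3 : (3 : F) = 0 := by exact_mod_cast CharP.cast_eq_zero F 3
        have hsq : h1.1 * h1.1 = (imgU hJ g i h (-1)).1 := by
          rw [hh1, ← Units.val_mul, imgU_mul, show (1 : F) + 1 = -1 by linear_combination h3]
        rw [hsq, imgN_sq_eq hJ h]
        rw [show (2 : F) = -1 by linear_combination h3, neg_one_smul, ← hh1]
        abel
      have hrk : (1 + h1.1 + h1.1 * h1.1 : TMat F κ 4).rank ≤ Fintype.card (Rest i → Fin 4) := by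
        rw [← hY]; exact rank_imgN_sq_le hJ h
      by_cases hσ : σ = 1
      · subst hσ
        obtain ⟨C', hC', hN, hN3⟩ := exists_norm1 hJ (by omega) (p := 3) (C := fun l => (C l).1)
          (by
            have := congrArg Units.val hpow
            rw [Units.val_pow_eq_pow_val, hC, map_one, mul_one, tensU_coe] at this
            exact this)
          (by
            have := (mem_IsoG_iff (gT_og hJ)).1 (imgU_iso (g := g) (i := i) hJ hg h 1)
            rw [← hh1, hC, map_one, mul_one, tensU_coe] at this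
            exact this)
        have hv : h1.1 = tens C' := by rw [hC', hC, map_one, mul_one, tensU_coe]
        by_cases hone : ∃ a c, a ≠ c ∧ C' a ≠ 1 ∧ C' c ≠ 1
        · obtain ⟨a, c, hac, ha, hc⟩ := hone
          exfalso
          have hex : ∀ l, C' l ≠ 1 → ∃ f, ((C' l - 1) * (C' l - 1)) *ᵥ f ≠ 0 := fun l hl => by
            by_contra! hall
            exact (hN l).sq_ne hG le_rfl hl (Matrix.ext_iff_mulVec.2 fun v => by rw [hall, Matrix.zero_mulVec])
          obtain ⟨f, hf⟩ := hex a ha
          obtain ⟨f', hf'⟩ := hex c hc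
          have := rank_norm_two hac (hN3 a) (hN3 c) hf hf'
          rw [hv] at hrk
          rw [card_rest a i] at this
          omega
        · obtain ⟨j, hj⟩ : ∃ j, ∀ l, l ≠ j → C' l = 1 := by
            push Not at hone
            by_cases hex : ∃ j, C' j ≠ 1
            · obtain ⟨j, hj⟩ := hex
              exact ⟨j, fun l hl => hone j l (Ne.symm hl) hj⟩
            · push Not at hex
              exact ⟨i, fun l _ => hex l⟩
          exact ⟨j, C' j, by rw [hv, tens_eq_op j hj]⟩
      · obtain ⟨a, ha⟩ := hcyc hσ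
        exfalso
        set b' := σ a with hb'def
        set c' := σ b' with hc'def
        have hσc : σ c' = a := by
          have := hσp a
          rwa [pow_three, Equiv.Perm.mul_apply, Equiv.Perm.mul_apply] at this
        have hbc : b' ≠ c' := fun e' => ha (σ.injective e'.symm)
        have hca : c' ≠ a := fun e' => ha (hodd a e')
        have hscal : ∃ t : F, t ≠ 0 ∧ (C a).1 * ((C c').1 * (C b').1) = t • 1 := by
          have h3 : h1 * h1 * h1 = 1 := by rw [← hpow, pow_succ, pow_two]
          rw [hC, wr_mul, wr_mul, show σ * σ * σ = 1 from Equiv.ext fun l => by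
            have := hσp l
            rwa [pow_succ, pow_two] at this, map_one, mul_one] at h3
          have h4 := congrArg Units.val h3
          rw [tensU_coe, Units.val_one] at h4
          obtain ⟨t, ht0, ht⟩ := tens_eq_one_scalar (by omega) h4 a
          refine ⟨t, ht0, ?_⟩
          rw [← ht, Units.val_mul, Units.val_mul, Matrix.mul_assoc, _root_.mul_inv_rev, Equiv.Perm.mul_apply,
            show σ⁻¹ a = c' by rw [Equiv.Perm.inv_eq_iff_eq, hσc],
            show σ⁻¹ c' = b' by rw [Equiv.Perm.inv_eq_iff_eq]]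
        obtain ⟨t, -, ht⟩ := hscal
        let D : κ → GL (Fin 4) F := fun l => if l = b' then C b' else if l = c' then C c' * C b' else 1
        have ia : σ⁻¹ a = c' := by rw [Equiv.Perm.inv_eq_iff_eq, hσc]
        have ib : σ⁻¹ b' = a := by rw [Equiv.Perm.inv_eq_iff_eq]
        have ic : σ⁻¹ c' = b' := by rw [Equiv.Perm.inv_eq_iff_eq]
        have hDa : D a = 1 := by simp only [D, if_neg (Ne.symm ha), if_neg hca.symm]
        have hDb : D b' = C b' := by simp only [D, if_true]
        have hDc : D c' = C c' * C b' := by simp only [D, if_neg hbc.symm, if_true]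
        have hconj : (tensU D)⁻¹.1 * h1.1 * (tensU D).1 =
            tens (fun l => ((D l)⁻¹ * C l * D (σ⁻¹ l)).1) * permM σ := by
          have hu : (tensU D)⁻¹ * h1 * tensU D = tensU (fun l => (D l)⁻¹ * C l * D (σ⁻¹ l)) * permU σ := by
            rw [hC, mul_assoc ((tensU D)⁻¹), mul_assoc (tensU C), permU_mul_tensU, tensU_inv, ← mul_assoc,
              ← mul_assoc, tensU_mul, tensU_mul]
          have := congrArg Units.val hu
          rwa [Units.val_mul, Units.val_mul, Units.val_mul, tensU_coe (fun l => (D l)⁻¹ * C l * D (σ⁻¹ l)),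
            permU_coe] at this
        have := rank_norm_cycle (a := a) (b := b') (c := c') (Ne.symm ha) rfl rfl hσc hbc hca hconj
          (by simp only [ib, hDa, hDb, mul_one, inv_mul_cancel, Units.val_one])
          (by simp only [ic, hDb, hDc, mul_assoc, inv_mul_cancel, Units.val_one])
          ⟨t, by simp only [ia, hDa, hDc, inv_one, one_mul, Units.val_mul, ht]⟩
        rw [card_rest b' i] at this
        omega
    · -- at least five elements
      have hq5 : 5 ≤ Fintype.card F := by
        obtain ⟨r, hr⟩ := hodd'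
        have := Fintype.one_lt_card (α := F)
        omega
      obtain ⟨s, hs0, hs1, hs2⟩ : ∃ s : F, s ≠ 0 ∧ 1 - s * s ≠ 0 ∧ (s + s * s) / 2 ≠ 0 := by
        obtain ⟨s, hs⟩ : ∃ s : F, s ∉ ({0, 1, -1} : Finset F) := by
          by_contra hc
          push Not at hc
          have h1 : Fintype.card F ≤ ({0, 1, -1} : Finset F).card :=
            Finset.card_le_card fun x _ => hc x
          exact absurd (h1.trans Finset.card_le_three) (by omega)
        simp only [Finset.mem_insert, Finset.mem_singleton, not_or] at hs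
        refine ⟨s, hs.1, fun e0 => ?_, div_ne_zero (fun e0 => ?_) hJ.two⟩
        · rcases mul_self_eq_one_iff.1 (sub_eq_zero.1 e0).symm with e1 | e1
          exacts [hs.2.1 e1, hs.2.2 e1]
        · have : s * (1 + s) = 0 := by linear_combination e0
          exact hs.2.2 (eq_neg_of_add_eq_zero_right ((mul_eq_zero.1 this).resolve_left hs.1))
      obtain ⟨τ, Ds, hDs⟩ := hall s
      have key : ∀ u : κ → Fin k → F, (∀ l, u l ≠ 0) → ∀ a c, a ≠ c → u a ∉ F ∙ ((C a).1 *ᵥ u (σ⁻¹ a)) →
          u c ∉ F ∙ ((C c).1 *ᵥ u (σ⁻¹ c)) →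
          (C (σ a))⁻¹.1 *ᵥ u (σ a) ∉ Submodule.span F {u a, (C a).1 *ᵥ u (σ⁻¹ a)} → False := by
        intro u hu a c hac hua huc htr
        have e3 := congrArg (· *ᵥ pv u) (imgU_relation (g := g) (i := i) hJ h s)
        simp only [Matrix.add_mulVec, Matrix.smul_mulVec, Matrix.one_mulVec] at e3
        rw [← hh1, ← hinv, wr_pv hC, wr_inv_pv hC, wr_pv hDs] at e3
        exact not_three_differ hs1 hs2 e3.symm hu (fun l => gl_mulVec_ne (hu _)) hac hua huc htr
      by_cases hσ : σ = 1
      · subst hσ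
        obtain ⟨C', hC', hN, -⟩ := exists_norm1 hJ (by omega) (p := p) (C := fun l => (C l).1)
          (by
            have := congrArg Units.val hpow
            rw [Units.val_pow_eq_pow_val, hC, map_one, mul_one, tensU_coe] at this
            exact this)
          (by
            have := (mem_IsoG_iff (gT_og hJ)).1 (imgU_iso (g := g) (i := i) hJ hg h 1)
            rw [← hh1, hC, map_one, mul_one, tensU_coe] at this
            exact this)
        let C'' : κ → GL (Fin k) F := fun l => ⟨C' l, adjJ J (C' l), mul_eq_one_comm.1 (hN l).iso, (hN l).iso⟩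
        have hv : h1 = tensU C'' * permU 1 := by
          refine Units.ext ?_
          rw [map_one, mul_one, tensU_coe, hC, map_one, mul_one, tensU_coe, ← hC']
        by_cases hone : ∃ a c, a ≠ c ∧ C' a ≠ 1 ∧ C' c ≠ 1
        · obtain ⟨a, c, hac, ha, hc⟩ := hone
          exfalso
          obtain ⟨f, hf⟩ : ∃ f, ((C' a - 1) * (C' a - 1)) *ᵥ f ≠ 0 := by
            by_contra! hall
            exact (hN a).sq_ne hG hk4 ha (Matrix.ext_iff_mulVec.2 fun v => by rw [hall, Matrix.zero_mulVec])
          obtain ⟨uc, huc⟩ := exists_not_eigen (fun t ht => hc ((hN c).eq_one (by omega) (c := t) ht))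
          have huc0 : uc ≠ 0 := fun e0 => huc (by rw [e0, Matrix.mulVec_zero]; exact Submodule.zero_mem _)
          have hf0 : f ≠ 0 := fun e0 => hf (by rw [e0, Matrix.mulVec_zero])
          obtain ⟨r, hr⟩ := (hN a).unip
          obtain ⟨t1, t2⟩ := unipotent_triple (mul_eq_one_comm.1 (hN a).iso) hr hf
          set u : κ → Fin k → F := fun l => if l = a then f else uc
          have hu : ∀ l, u l ≠ 0 := fun l => by simp only [u]; split_ifs <;> assumption
          have e3 := congrArg (· *ᵥ pv u) (imgU_relation (g := g) (i := i) hJ h s)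
          simp only [Matrix.add_mulVec, Matrix.smul_mulVec, Matrix.one_mulVec] at e3
          rw [← hh1, ← hinv, wr_pv hv, wr_inv_pv hv, wr_pv hDs] at e3
          refine not_three_differ hs1 hs2 e3.symm hu (fun l => gl_mulVec_ne (hu _)) hac ?_ ?_ ?_
          · simpa [u, C''] using t1
          · simp only [u, inv_one, Equiv.Perm.one_apply, if_neg hac.symm]
            exact mem_span_pair_flip huc0 huc
          · simpa [u, C'', Units.inv_mk] using t2
        · obtain ⟨j, hj⟩ : ∃ j, ∀ l, l ≠ j → C' l = 1 := by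
            push Not at hone
            by_cases hex : ∃ j, C' j ≠ 1
            · obtain ⟨j, hj⟩ := hex
              exact ⟨j, fun l hl => hone j l (Ne.symm hl) hj⟩
            · push Not at hex
              exact ⟨i, fun l _ => hex l⟩
          refine ⟨j, C' j, ?_⟩
          rw [hC, map_one, mul_one, tensU_coe, ← hC', tens_eq_op j hj]
      · obtain ⟨l, hl⟩ := hcyc hσ
        exfalso
        set m := σ l with hm
        have hil : σ⁻¹ l ≠ l := fun e' => hl (by rw [Equiv.Perm.inv_eq_iff_eq] at e'; exact e'.symm)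
        have hilm : σ⁻¹ l ≠ m := fun e' => hl (hodd l (by
          rw [Equiv.Perm.inv_eq_iff_eq] at e'; exact e'.symm))
        have hmm : σ m ≠ l := fun e' => hl (hodd l e')
        set c₀ := (C m)⁻¹.1 *ᵥ v₀ with hc₀
        have hc0 : c₀ ≠ 0 := gl_mulVec_ne hv₀
        obtain ⟨y, hy⟩ : ∃ y, (C l).1 *ᵥ y ∉ F ∙ c₀ := by
          by_contra! hall
          exact span_ne_top (by omega) c₀ (Submodule.eq_top_iff'.2 fun z => by
            have := hall ((C l)⁻¹.1 *ᵥ z)
            rwa [Matrix.mulVec_mulVec, ← Units.val_mul, mul_inv_cancel, Units.val_one, Matrix.one_mulVec] at this)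
        have hy0 : y ≠ 0 := fun e0 => hy (by rw [e0, Matrix.mulVec_zero]; exact Submodule.zero_mem _)
        obtain ⟨z, hz1, hz2⟩ := exists_avoid (span_pair_ne_top hk ((C l).1 *ᵥ y) c₀)
          (span_ne_top (by omega) ((C m)⁻¹.1 *ᵥ v₀))
        have hz0 : z ≠ 0 := fun e0 => hz1 (e0 ▸ Submodule.zero_mem _)
        refine key (fun q => if q = l then z else if q = m then v₀ else y)
          (fun q => by split_ifs <;> assumption) l m (Ne.symm hl) ?_ ?_ ?_
        · simp only [if_true, if_neg hil, if_neg hilm]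
          exact fun hmem => hz1 (Submodule.span_mono (by simp) hmem)
        · simp only [if_neg hl, if_true, show σ⁻¹ m = l by simp [hm]]
          intro hmem
          obtain ⟨t, ht⟩ := Submodule.mem_span_singleton.1 hmem
          refine hz2 (Submodule.mem_span_singleton.2 ⟨t⁻¹, ?_⟩)
          have ht0 : t ≠ 0 := fun e0 => hv₀ (by rw [← ht, e0, zero_smul])
          rw [← ht, Matrix.mulVec_smul, Matrix.mulVec_mulVec, ← Units.val_mul, inv_mul_cancel, Units.val_one,
            Matrix.one_mulVec, smul_smul, inv_mul_cancel₀ ht0, one_smul]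
        · simp only [if_true, if_neg hil, if_neg hilm, ← hm, if_neg hl]
          exact notMem_span_pair hc0 hy hz1

end CfsgLib.Classical.WreathMaxO
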