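import Cfsg.Agent.Lib.Classical.WreathMaxO.Levi
import Cfsg.Agent.Lib.Classical.TensorMaxO.Axes

/-!
# From a pure element to a big group on the other factors, and back
-/

set_option autoImplicit false
set_option linter.unusedSectionVars false

open Matrix Module
open scoped Kronecker

namespace CfsgLib.Classical.WreathMaxO

open CfsgLib.Orth CfsgLib.Classical.WreathMax
open CfsgLib.Classical.WreathMaxSp (pv tens_mulVec_pv permM_mulVec_pv pv_ne_zero not_two_differ)

variable {F : Type*} [Field F] [Fintype F] {κ : Type} [Fintype κ] [DecidableEq κ] {k : ℕ}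
  {J : Matrix (Fin k) (Fin k) F} {M : Subgroup (GL (κ → Fin k) F)} {e f x : Fin k → F}

/-- An element of `Ω` moving one singular line to another. -/
theorem OG.exists_omega_move {n : Type} [Fintype n] [DecidableEq n] {K : Matrix n n F} (hK : OG K)
    (hn : 3 ≤ Fintype.card n) {u v : n → F} (hu : u ≠ 0) (hv : v ≠ 0) (huu : bJ K u u = 0) (hvv : bJ K v v = 0) :
    ∃ C ∈ OmG K, ∃ t : F, t ≠ 0 ∧ C.1 *ᵥ u = t • v := by
  obtain ⟨g, hg, t, ht, hgu⟩ := TensorMaxO.exists_move (nondeg_qf hK)
    (by rwa [Module.finrank_fintype_fun_eq_card]) hK.two ((qf_eq_zero hK).2 huu) ((qf_eq_zero hK).2 hvv) hu hv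
  refine ⟨_, Subgroup.mem_map_of_mem _ hg, t, ht, ?_⟩
  rw [← Matrix.toLin'_apply, toLin'_orthToGL]
  exact hgu

theorem exists_sq_move (h3 : 3 ≤ Fintype.card κ) {m m' : κ} (h : m ≠ m') : ∃ σ : Equiv.Perm κ, (σ * σ) m = m' := by
  obtain ⟨o, ho⟩ : ∃ o, o ∉ ({m, m'} : Finset κ) := by
    by_contra! hc
    have := (Finset.card_le_card (s := (Finset.univ : Finset κ)) fun z _ => hc z).trans Finset.card_le_two
    rw [Finset.card_univ] at this
    omega
  simp only [Finset.mem_insert, Finset.mem_singleton, not_or] at ho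
  refine ⟨Equiv.swap m m' * Equiv.swap m o, ?_⟩
  simp only [Equiv.Perm.mul_apply, Equiv.swap_apply_left, Equiv.swap_apply_of_ne_of_ne ho.1 ho.2,
    Equiv.swap_apply_right]

theorem exists_third (h3 : 3 ≤ Fintype.card κ) (a b : κ) : ∃ o, o ≠ a ∧ o ≠ b := by
  by_contra! hc
  have := (Finset.card_le_card (s := (Finset.univ : Finset κ)) (t := {a, b}) fun z _ => by
    by_cases hz : z = a
    · simp [hz]
    · simp [hc z hz]).trans Finset.card_le_two
  rw [Finset.card_univ] at this
  omega

/-! ### Moving a pure element -/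

theorem PureAt.move (hM : Over J M) {u : κ → Fin k → F} {m : κ} {a : Fin k → F} (h : PureAt J M u m a)
    (l : κ) {C : GL (Fin k) F} (hC : C ∈ OmG J) {t s : F} (ht : t ≠ 0) (hs : s ≠ 0) {v : Fin k → F}
    (hu : C.1 *ᵥ u l = t • v) (ha : l = m → C.1 *ᵥ a = s • a) : PureAt J M (Function.update u l v) m a := by
  obtain ⟨c, hc, h⟩ := h
  have h1 := HasM.adO h (hM.opU_mem l hC)
  rw [map_smul, conj_op_nP hM.og (OmG_le hC), hu] at h1
  have e1 : pv (Function.update u l (t • v)) = t • pv (Function.update u l v) := (pvL u l).map_smul t v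
  by_cases hlm : l = m
  · subst hlm
    have e2 : pv (Function.update (Function.update u l a) l (C.1 *ᵥ Function.update u l a l)) =
        s • pv (Function.update (Function.update u l v) l a) := by
      rw [Function.update_self, ha rfl, Function.update_idem, Function.update_idem]
      exact (pvL u l).map_smul s a
    rw [e1, e2, nP_smul_left, nP_smul, smul_smul, smul_smul] at h1
    exact ⟨_, mul_ne_zero (mul_ne_zero hc ht) hs, h1⟩
  · have e2 : pv (Function.update (Function.update u m a) l (C.1 *ᵥ Function.update u m a l)) =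
        t • pv (Function.update (Function.update u l v) m a) := by
      rw [Function.update_of_ne hlm, hu, Function.update_comm hlm]
      exact (pvL (Function.update u m a) l).map_smul t v
    rw [e1, e2, nP_smul_left, nP_smul, smul_smul, smul_smul] at h1
    exact ⟨_, mul_ne_zero (mul_ne_zero hc ht) ht, h1⟩

theorem PureAt.perm (hM : Over J M) {u : κ → Fin k → F} {m : κ} {a : Fin k → F} (h : PureAt J M u m a)
    (σ : Equiv.Perm κ) : PureAt J M (fun l => u ((σ * σ)⁻¹ l)) ((σ * σ) m) a := by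
  obtain ⟨c, hc, h⟩ := h
  set ρ := σ * σ with hρ
  have h1 := HasM.adO h (hM.perm_sq_mem σ)
  rw [← hρ, map_smul, Ad_apply, conj_nP (gT_og hM.og) (permU_mem_IsoG hM.og ρ), permU_coe, permM_mulVec_pv,
    permM_mulVec_pv] at h1
  refine ⟨c, hc, ?_⟩
  convert h1 using 4
  funext l
  by_cases hl : l = ρ m
  · subst hl; simp
  · rw [Function.update_of_ne hl, Function.update_of_ne fun e => hl (by rw [← e]; simp)]

/-- The pure elements in normal form. -/
def PureAll (J : Matrix (Fin k) (Fin k) F) (M : Subgroup (GL (κ → Fin k) F)) (e f x : Fin k → F) : Prop :=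
  ∀ (m : κ) (s : κ → Fin k → F), (∀ l, s l = e ∨ s l = f) → PureAt J M s m x

theorem Over.pureAll (hM : Over J M) (h3 : 3 ≤ Fintype.card κ) (h : PureM J M) :
    ∃ e f x : Fin k → F, Pair J e f ∧ x ∈ Hyp J e f ∧ bJ J x x ≠ 0 ∧ PureAll J M e f x := by
  classical
  have hJ := hM.og
  have hk := hM.good.three
  obtain ⟨u, m, a, hu, hea, haa, c, hc, h⟩ := h
  set e := u m with he
  obtain ⟨f, hp⟩ := hJ.exists_pair_of (hu m).1 (hu m).2
  obtain ⟨α, x, hx, hax⟩ := hp.decomp hJ hea
  have hxe : bJ J x e = 0 := by rw [hJ.swap]; exact (mem_Hyp.1 hx).1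
  have hxx : bJ J x x ≠ 0 := fun h0 => haa (by
    simp only [hax, bJ_add_left, bJ_add_right, bJ_smul_left, bJ_smul_right, hp.ee, (mem_Hyp.1 hx).1, h0, mul_zero,
      add_zero, zero_add]
    rw [show bJ J x (u m) = 0 from hxe, mul_zero])
  -- the start: replace `a` by its part in the complement
  have h0 : PureAt J M u m x := by
    refine ⟨c, hc, ?_⟩
    convert h using 2
    rw [← pvL_apply, ← pvL_apply, hax, map_add, map_smul, pvL_apply u m e, he, Function.update_eq_self, nP_add,
      nP_smul, nP_self, smul_zero, zero_add]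
  have h1 : PureAt J M (fun _ => e) m x := by
    have key : ∀ s : Finset κ, PureAt J M (fun l => if l ∈ s then e else u l) m x := by
      intro s
      induction s using Finset.induction with
      | empty => simpa using h0
      | @insert l s hls ih =>
        have hfun : (fun z => if z ∈ insert l s then e else u z) =
            Function.update (fun z => if z ∈ s then e else u z) l e := by
          funext z
          by_cases hz : z = l
          · subst hz; simp
          · simp [hz]
        rw [hfun]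
        by_cases hlm : l = m
        · rw [show Function.update (fun z => if z ∈ s then e else u z) l e = fun z => if z ∈ s then e else u z by
            rw [Function.update_eq_self_iff]; simp [hls, hlm, he]]
          exact ih
        obtain ⟨C, hC, t, ht, hCu⟩ := hJ.exists_omega_move (by rw [Fintype.card_fin]; exact hk) (hu l).1 hp.left_ne
          (hu l).2 hp.ee
        exact ih.move hM l hC ht one_ne_zero (by simp only [hls, if_false]; exact hCu) fun h => absurd h hlm
    simpa using key Finset.univ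
  have h2 : ∀ m', PureAt J M (fun _ => e) m' x := fun m' => by
    by_cases hmm : m = m'
    · exact hmm ▸ h1
    · obtain ⟨σ, hσ⟩ := exists_sq_move h3 hmm
      exact hσ ▸ h1.perm hM σ
  refine ⟨e, f, x, hp, hx, hxx, fun m' s hs => ?_⟩
  obtain ⟨C, hC, hCe, -, hCx, -⟩ := hp.exists_swap hJ hx hxx
  have key : ∀ S : Finset κ, PureAt J M (fun l => if l ∈ S then s l else e) m' x := by
    intro S
    induction S using Finset.induction with
    | empty => simpa using h2 m'
    | @insert l S hlS ih =>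
      have hfun : (fun z => if z ∈ insert l S then s z else e) =
          Function.update (fun z => if z ∈ S then s z else e) l (s l) := by
        funext z
        by_cases hz : z = l
        · subst hz; simp
        · simp [hz]
      rw [hfun]
      rcases hs l with hl | hl
      · rw [show Function.update (fun z => if z ∈ S then s z else e) l (s l) = fun z => if z ∈ S then s z else e by
          rw [Function.update_eq_self_iff]; simp [hlS, hl]]
        exact ih
      · exact ih.move hM l hC (div_ne_zero (neg_ne_zero.2 hxx) hJ.two) (neg_ne_zero.2 one_ne_zero)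
          (by simp only [hlS, if_false]; rw [hCe, hl]) fun _ => by rw [hCx, neg_one_smul]
  simpa using key Finset.univ

/-! ### A pure element gives a big group on the other factors -/

/-- The pure tensors `op l X * W` of an overgroup, by their factor. -/
def facX (M : Subgroup (GL (κ → Fin k) F)) (l : κ) {W : TMat F (Rest l) k} (hW : W * W = 0) :
    AddSubgroup (Matrix (Fin k) (Fin k) F) where
  carrier := {X | HasM M (op l X * liftRest l W)}
  zero_mem' := by
    show HasM M _
    rw [op_zero, Matrix.zero_mul]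
    exact HasM.zero
  add_mem' := fun {X Y} hX hY => by
    show HasM M _
    rw [op_add, Matrix.add_mul]
    exact HasM.add hX hY (by rw [op_lift_mul, hW, liftRest_zero, Matrix.mul_zero])
  neg_mem' := fun {X} hX => by
    show HasM M _
    rw [← neg_one_smul F X, op_smul, neg_one_smul, Matrix.neg_mul]
    exact HasM.neg hX (by rw [op_lift_mul, hW, liftRest_zero, Matrix.mul_zero])

theorem Over.restBig_of_pure (hM : Over J M) (h3 : 3 ≤ Fintype.card κ) (h : PureM J M) : RestBig M := by
  classical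
  have hJ := hM.og
  have hk := hM.good.three
  have hn : 3 ≤ Fintype.card (Fin k) := by rw [Fintype.card_fin]; exact hk
  have hG := gT_og (κ := κ) hJ
  obtain ⟨e, f, x, hp, hx, hxx, hall⟩ := hM.pureAll h3 h
  have hex := (mem_Hyp.1 hx).1
  have hfx := (mem_Hyp.1 hx).2
  have hxe : bJ J x e = 0 := by rw [hJ.swap, hex]
  have hxf : bJ J x f = 0 := by rw [hJ.swap, hfx]
  obtain ⟨l₁⟩ : Nonempty κ := Fintype.card_pos_iff.1 (by omega)
  obtain ⟨l₂, hl₂⟩ := Fintype.exists_ne_of_one_lt_card (by omega : 1 < Fintype.card κ) l₁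
  obtain ⟨n, hn₁, hn₂⟩ := exists_third h3 l₁ l₂
  set P : (κ → Fin k) → F := pv fun _ => f with hP
  have hPP : bJ (gT κ J) P P = 0 := bJ_pv_zero n hp.ff
  -- the first element: everything at `f` against `f` at `n` and `e` elsewhere
  set Q₀ : κ → Fin k → F := Function.update (fun _ => e) n f with hQ₀
  have hW₀ : ∃ c : F, c ≠ 0 ∧ HasM M (c • nP (gT κ J) P (pv Q₀)) := by
    obtain ⟨c, hc, h1⟩ := hall n (fun _ => f) fun _ => Or.inr rfl
    obtain ⟨d, hd, h2⟩ := hall n Q₀ fun l => by
      by_cases hl : l = n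
      · subst hl; exact Or.inr (by simp [hQ₀])
      · exact Or.inl (by simp [hQ₀, hl])
    have h2' : HasM M ((-d) • nP (gT κ J) (pv (Function.update Q₀ n x)) (pv Q₀)) := by
      rw [nP_swap (pv Q₀) (pv (Function.update Q₀ n x)), smul_neg, neg_smul, neg_neg]
      exact h2
    have hl₁ : l₁ ≠ n := Ne.symm hn₁
    have h4 := HasM.nP_commO hG h1 h2' hPP
      (bJ_pv_zero l₁ (by simp [hl₁, hp.ff])) (bJ_pv_zero l₁ (by simp [hl₁, hp.ff]))
      (bJ_pv_zero l₁ (by simp [hQ₀, hl₁, hp.ee])) (bJ_pv_zero l₁ (by simp [hQ₀, hl₁, hp.ee]))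
      (bJ_pv_zero n (by simp [hQ₀, hp.ff])) (bJ_pv_zero n (by simp [hfx]))
      (bJ_pv_zero n (by simp [hQ₀, hp.ff])) (bJ_pv_zero n (by simp [hQ₀, hxf]))
    refine ⟨_, mul_ne_zero (mul_ne_zero hc (neg_ne_zero.2 hd)) ?_, h4⟩
    rw [bJ_pv]
    refine Finset.prod_ne_zero_iff.2 fun l _ => ?_
    by_cases hl : l = n
    · subst hl; simpa using hxx
    · simp [hQ₀, hl, hp.fe hJ]
  -- one factor after another is moved to `f` or `x`
  set T : κ → Fin k → F := fun l => if l = l₁ ∨ l = l₂ then x else f with hT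
  have hW₁ : ∃ c : F, c ≠ 0 ∧ HasM M (c • nP (gT κ J) P (pv T)) := by
    have key : ∀ S : Finset κ, ∃ c : F, c ≠ 0 ∧
        HasM M (c • nP (gT κ J) P (pv fun l => if l = n then f else if l ∈ S then T l else e)) := by
      intro S
      induction S using Finset.induction with
      | empty =>
        convert hW₀ using 7
        funext l
        by_cases hl : l = n
        · subst hl; simp [hQ₀]
        · simp [hQ₀, hl]
      | @insert l S hlS ih =>
        by_cases hln : l = n
        · subst hln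
          convert ih using 7
          funext z
          by_cases hz : z = l <;> simp [hz]
        obtain ⟨c, hc, h0⟩ := ih
        set Qs : κ → Fin k → F := fun z => if z = n then f else if z ∈ S then T z else e with hQs
        have hQl : Qs l = e := by simp [hQs, hln, hlS]
        have hins : (fun z => if z = n then f else if z ∈ insert l S then T z else e) =
            Function.update Qs l (T l) := by
          funext z
          by_cases hz : z = l
          · subst hz; simp [hln]
          · simp [hQs, hz]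
        rw [hins]
        let q := pvL Qs l
        have hpq : ∀ r, bJ (gT κ J) P (q r) = 0 := fun r => by
          rw [hP, pvL_apply]; exact bJ_pv_zero n (by simp [hQs, Ne.symm hln, hp.ff])
        have hqq : ∀ r r', bJ (gT κ J) (q r) (q r') = 0 := fun r r' => by
          rw [pvL_apply, pvL_apply]; exact bJ_pv_zero n (by simp [hQs, Ne.symm hln, hp.ff])
        have hq0 : HasM M (c • nP (gT κ J) P (q e)) := by
          rw [pvL_apply, ← hQl, Function.update_eq_self]; exact h0
        have hmove : ∀ {b : Fin k → F} (hb : bJ J f b = 0),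
            HasM M (c • nP (gT κ J) P (q (uP J f b 1 *ᵥ e))) := fun {b} hb => by
          have h1 := HasM.adO hq0 (hM.opU_mem l (uH_mem_OmG hJ hp.ff hb))
          rw [map_smul, pvL_apply, hP, conj_op_nP hJ (uH_mem_IsoG hJ hp.ff hb)] at h1
          convert h1 using 4
          · congr 1
            rw [eq_comm, Function.update_eq_self_iff]
            show uP J f b 1 *ᵥ f = f
            rw [uP_mulVec hJ hp.ff hb, hJ.swap b f, hb, hp.ff]
            simp
          · rw [pvL_apply, Function.update_self, Function.update_idem]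
            rfl
        have hfx' : bJ J f (-x) = 0 := by rw [bJ_neg_right, hfx, neg_zero]
        rcases (show T l = x ∨ T l = f by simp only [hT]; split_ifs <;> simp) with hTl | hTl
        · refine ⟨c * 2, mul_ne_zero hc hJ.two, ?_⟩
          have h1 := (HasM.pvL_sum hJ hPP hpq hqq (hmove hfx') (hmove hfx)).2
          have hval : uP J f (-x) 1 *ᵥ e - uP J f x 1 *ᵥ e = (2 : F) • x := by
            rw [uP_mulVec hJ hp.ff hfx', uP_mulVec hJ hp.ff hfx]
            simp only [bJ_neg_left, bJ_neg_right, hxe, hp.fe hJ, neg_zero, zero_smul, one_smul, mul_one, neg_neg]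
            module
          rw [hval, map_smul, nP_smul, smul_smul, pvL_apply, ← hTl] at h1
          exact h1
        · refine ⟨c * (-bJ J x x), mul_ne_zero hc (neg_ne_zero.2 hxx), ?_⟩
          have h1 := (HasM.pvL_sum hJ hPP hpq hqq
            (HasM.pvL_sum hJ hPP hpq hqq (hmove hfx') (hmove hfx)).1 (HasM.pvL_sum hJ hPP hpq hqq hq0 hq0).1).2
          have hval : uP J f (-x) 1 *ᵥ e + uP J f x 1 *ᵥ e - (e + e) = (-bJ J x x) • f := by
            rw [uP_mulVec hJ hp.ff hfx', uP_mulVec hJ hp.ff hfx]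
            simp only [bJ_neg_left, bJ_neg_right, hxe, hp.fe hJ, neg_zero, zero_smul, one_smul, mul_one, neg_neg]
            match_scalars <;> field_simp [hJ.two] <;> ring
          rw [hval, map_smul, nP_smul, smul_smul, pvL_apply, ← hTl] at h1
          exact h1
    obtain ⟨c, hc, h1⟩ := key Finset.univ
    refine ⟨c, hc, ?_⟩
    convert h1 using 5 with l
    by_cases hl : l = n
    · subst hl; simp [hT, hn₁, hn₂]
    · simp [hl]
  -- the second commutator splits off the factor `l₁`
  obtain ⟨c, hc, h1⟩ := hW₁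
  obtain ⟨d, hd, h2⟩ := hall l₁ (fun _ => e) fun _ => Or.inl rfl
  set U : κ → Fin k → F := Function.update (fun _ => e) l₁ x with hU
  have h2' : HasM M ((-d) • nP (gT κ J) (pv U) (pv fun _ : κ => e)) := by
    rw [nP_swap (pv fun _ : κ => e) (pv U), smul_neg, neg_smul, neg_neg]
    exact h2
  have h5 := HasM.nP_commO hG h2' h1
    (bJ_pv_zero l₂ (by simp [hU, hl₂, hp.ee])) (bJ_pv_zero l₂ (by simp [hU, hl₂, hp.ee]))
    (bJ_pv_zero l₂ hp.ee) hPP (bJ_pv_zero l₁ (by simp [hT, hfx]))
    (bJ_pv_zero n (by simp [hT, hn₁, hn₂, hp.ff])) (bJ_pv_zero l₁ (by simp [hU, hxf]))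
    (bJ_pv_zero l₂ (by simp [hT, hU, hl₂, hex])) (bJ_pv_zero l₁ (by simp [hT, hex]))
  set a : F := -d * c * bJ (gT κ J) (pv fun _ : κ => e) P with ha
  have ha0 : a ≠ 0 := mul_ne_zero (mul_ne_zero (neg_ne_zero.2 hd) hc) (by
    rw [hP, bJ_pv]; exact Finset.prod_ne_zero_iff.2 fun l _ => by rw [hp.ef]; exact one_ne_zero)
  set p' : (Rest l₁ → Fin k) → F := pv fun _ => e
  set s' : (Rest l₁ → Fin k) → F := pv fun z => T z
  set W : TMat F (Rest l₁) k := a • nP (gT (Rest l₁) J) p' s' with hWdef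
  have hWX : HasM M (op l₁ (eP J x) * liftRest l₁ W) := by
    convert h5 using 1
    rw [hWdef, liftRest_smul, Matrix.mul_smul, nP, nP, liftRest_sub, Matrix.mul_sub, dyad_pv, dyad_pv, dyad_pv,
      dyad_pv, op_lift_tens, op_lift_tens]
    congr 2 <;>
    · congr 1
      funext z
      by_cases hz : z = l₁
      · subst hz; simp [hU, hT, eP]
      · simp [hU, hz]
  have hR := gT_og (κ := Rest l₁) hJ
  have hp'p' : bJ (gT (Rest l₁) J) p' p' = 0 := bJ_pv_zero ⟨l₂, hl₂⟩ hp.ee
  have hp's' : bJ (gT (Rest l₁) J) p' s' = 0 := bJ_pv_zero ⟨l₂, hl₂⟩ (by simp [hT, hex])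
  have hs's' : bJ (gT (Rest l₁) J) s' s' = 0 :=
    bJ_pv_zero ⟨n, hn₁⟩ (by simp [hT, hn₁, hn₂, hp.ff])
  have hW : W * W = 0 := by
    rw [hWdef, Matrix.smul_mul, Matrix.mul_smul,
      nP_mul_zero hR hp'p' hp's' (by rw [hR.swap, hp's']) hs's', smul_zero, smul_zero]
  set X := facX M l₁ hW with hX
  have hXad : ∀ A ∈ OmG J, ∀ Z ∈ X, Ad A Z ∈ X := fun A hA Z hZ => by
    show HasM M _
    rw [← Ad_opU_op_lift]
    exact HasM.adO hZ (hM.opU_mem l₁ hA)
  let Xm : Submodule F (Matrix (Fin k) (Fin k) F) :=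
    { carrier := X
      add_mem' := X.add_mem
      zero_mem' := X.zero_mem
      smul_mem' := fun c Z hZ => smul_mem_of_sq hJ.two X (fun r hr Z hZ => by
        show HasM M _
        have h := HasM.adO hZ (hM.opU_mem l₂ (tG_sq_mem_OmG hJ hp hr))
        rw [Ad_opU_other hl₂] at h
        have e1 : (tG hJ hp (mul_ne_zero hr hr)).1 *ᵥ e = (r * r) • e := tM_left hJ hp _
        have e2 : (tG hJ hp (mul_ne_zero hr hr)).1 *ᵥ T l₂ = T l₂ := by
          rw [show T l₂ = x by simp [hT]]; exact tM_fix hx _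
        have e3 : Ad (opU (⟨l₂, hl₂⟩ : Rest l₁) (tG hJ hp (mul_ne_zero hr hr))) W = (r * r) • W := by
          simp only [W, p', s']
          rw [map_smul (Ad _), conj_op_nP hJ (tG_mem_IsoG hJ hp _), e1, e2, ← pvL_apply, map_smul, pvL_apply,
            Function.update_eq_self, Function.update_eq_self, nP_smul_left, smul_comm]
        rw [e3, liftRest_smul, Matrix.mul_smul, ← Matrix.smul_mul, ← op_smul] at h
        exact h) c hZ }
  have hmemX : eP J x ∈ Xm := hWX
  -- all singular squares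
  have hsand : ∀ u : Fin k → F, u ≠ 0 → bJ J u u = 0 → bJ J u x ≠ 0 → eP J u ∈ Xm := fun u hu0 huu hux => by
    let Z₀ : TMat F κ k := op l₁ (eP J x)
    let Q : AddSubgroup (Module.End F (TMat F κ k)) :=
      { carrier := {Φ | ∃ V, V ∈ Xm ∧ Φ Z₀ = op l₁ V}
        zero_mem' := ⟨0, Xm.zero_mem, (op_zero l₁).symm⟩
        add_mem' := by
          rintro Φ Φ' ⟨V, hV, e1⟩ ⟨V', hV', e2⟩
          exact ⟨V + V', Xm.add_mem hV hV', by rw [LinearMap.add_apply, e1, e2, op_add]⟩
        neg_mem' := by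
          rintro Φ ⟨V, hV, e1⟩
          exact ⟨-V, Xm.neg_mem hV, by rw [LinearMap.neg_apply, e1, ← neg_one_smul F V, op_smul, neg_one_smul]⟩ }
    have hQ : ∀ A ∈ OmG J, ∀ Φ ∈ Q, (Ad (opU l₁ A) : Module.End F (TMat F κ k)) * Φ ∈ Q := by
      rintro A hA Φ ⟨V, hV, e1⟩
      exact ⟨Ad A V, hXad A hA V hV, by rw [Module.End.mul_apply, e1, Ad_opU_op]⟩
    obtain ⟨r, hr, V, hV, eV⟩ := sandwich_op hM.good l₁ (P := Q) hQ hu0 huu (Φ := 1) ⟨_, hmemX, rfl⟩
    have hval : op l₁ V = (r * (bJ J u x * bJ J u x)) • (op l₁ (eP J u) : TMat F κ k) := by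
      rw [← eV]
      show r • (op l₁ (eP J u) * (op l₁ (eP J x) * op l₁ (eP J u))) = _
      rw [← map_mul, ← map_mul, ← Matrix.mul_assoc, eP_sandwich, eP_mulVec, bJ_smul_right, hJ.swap x u, op_smul,
        smul_smul]
    rw [← op_smul] at hval
    rw [← inv_smul_smul₀ (mul_ne_zero hr (mul_ne_zero hux hux)) (eP J u), ← op_injective l₁ hval]
    exact Xm.smul_mem _ hV
  have hsing : ∀ u : Fin k → F, bJ J u u = 0 → eP J u ∈ Xm := fun u huu => by
    rcases eq_or_ne u 0 with rfl | hu0
    · simp [eP, dyad]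
    set e₁ := uP J f x 1 *ᵥ e with he₁
    have hI := (mem_IsoG_iff_bJ hJ).1 (uH_mem_IsoG hJ hp.ff hfx)
    have he₁e₁ : bJ J e₁ e₁ = 0 := (hI e e).trans hp.ee
    have he₁x : bJ J e₁ x ≠ 0 := by
      rw [he₁, uP_mulVec hJ hp.ff hfx]
      simp [hxe, hp.fe hJ, hex, hfx, hxx]
    have he₁0 : e₁ ≠ 0 := fun h0 => he₁x (by rw [h0, bJ_zero_left])
    obtain ⟨C, hC, t, ht, hCe⟩ := hJ.exists_omega_move hn he₁0 hu0 he₁e₁ huu
    have h := hXad C hC _ (hsand e₁ he₁0 he₁e₁ he₁x)
    rw [Ad_apply, conj_eP hJ (OmG_le hC), hCe, eP, dyad_smul_left, dyad_smul_right, smul_smul] at h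
    exact (Xm.smul_mem_iff (mul_ne_zero ht ht)).1 h
  have hone : (1 : Matrix (Fin k) (Fin k) F) ∈ Xm := by
    by_contra hno
    obtain ⟨φ, hφ1, hφ⟩ := Submodule.exists_dual_map_eq_bot_of_notMem hno inferInstance
    have hφ0 : ∀ Z ∈ Xm, φ Z = 0 := fun Z hZ => by
      have : φ Z ∈ Xm.map φ := Submodule.mem_map_of_mem hZ
      rwa [hφ, Submodule.mem_bot] at this
    set S : Matrix (Fin k) (Fin k) F := Matrix.of fun i j => φ (Matrix.single j i 1) with hS
    have hdual : ∀ Z, φ Z = (S * Z).trace := fun Z => by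
      conv_lhs => rw [Matrix.matrix_eq_sum_single Z]
      simp only [map_sum, Matrix.trace, Matrix.diag_apply, Matrix.mul_apply, hS, Matrix.of_apply]
      rw [Finset.sum_comm]
      refine Finset.sum_congr rfl fun i _ => Finset.sum_congr rfl fun j _ => ?_
      rw [← mul_one (Z j i), ← smul_eq_mul, ← Matrix.smul_single, map_smul, smul_eq_mul, smul_eq_mul, mul_comm, mul_one]
    have hdy : ∀ u, φ (eP J u) = bJ J u (S *ᵥ u) := fun u => by
      rw [hdual, eP, dyad, Matrix.mul_vecMulVec, Matrix.trace_vecMulVec, dotProduct_comm, bt_dot]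
    obtain ⟨r, hr⟩ := hJ.sym_scalar hn (fun hc3 => by
      rw [Fintype.card_fin]
      have := hM.good.ex (by rw [Nat.card_eq_fintype_card, hc3])
      exact ⟨by omega, fun h4 => hM.good.plane h4⟩) (T := S) fun u huu => by
        rw [← hdy]; exact hφ0 _ (hsing u huu)
    have hr0 : r = 0 := by
      have h1 : bJ J x ((S + adjJ J S) *ᵥ x) = r * bJ J x x := by
        rw [hr, Matrix.smul_mulVec, Matrix.one_mulVec, bJ_smul_right]
      rw [Matrix.add_mulVec, bJ_add_right, ← bJ_mulVec hJ, hJ.swap (S *ᵥ x), ← hdy, hφ0 _ hmemX, add_zero] at h1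
      exact (mul_eq_zero.1 h1.symm).resolve_right hxx
    refine hφ1 ?_
    rw [hdual, Matrix.mul_one]
    have h1 := congrArg Matrix.trace hr
    rw [hr0, zero_smul, Matrix.trace_zero, Matrix.trace_add, adjJ, Matrix.trace_mul_cycle,
      Matrix.mul_nonsing_inv J hJ.unit, Matrix.one_mul, Matrix.trace_transpose, ← two_mul] at h1
    exact (mul_eq_zero.1 h1).resolve_left hJ.two
  have hWM : HasM M (op l₁ (1 : Matrix (Fin k) (Fin k) F) * liftRest l₁ W) := hone
  rw [map_one, Matrix.one_mul] at hWM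
  refine ⟨l₁, fun hle => ?_⟩
  obtain ⟨g, hg, eg⟩ := hWM
  let G : GL (Rest l₁ → Fin k) F := ⟨1 + W, 1 - W, by
    rw [Matrix.mul_sub, Matrix.mul_one, Matrix.add_mul, Matrix.one_mul, hW]; abel, by
    rw [Matrix.sub_mul, Matrix.one_mul, Matrix.mul_add, Matrix.mul_one, hW]; abel⟩
  have hGT : G ∈ wreathT F (Rest l₁) k := hle (Subgroup.mem_comap.2 (by
    convert hg using 1
    refine Units.ext ?_
    rw [eg, Units.coe_map]
    show liftRest l₁ (1 + W) = _
    rw [liftRest_add, map_one]))
  obtain ⟨σ, C, hC⟩ := hGT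
  set v : Rest l₁ → Fin k → F := fun z => if z.1 = n then e + x else if z.1 = l₂ then x else e with hv
  have he := wr_pv hC v
  have hWv : (1 + W) *ᵥ pv v = pv v + (a * bJ (gT (Rest l₁) J) s' (pv v)) • p' := by
    rw [Matrix.add_mulVec, Matrix.one_mulVec, hWdef, Matrix.smul_mulVec, nP_mulVec,
      bJ_pv_zero (u := fun _ => e) (v := v) ⟨l₂, hl₂⟩ (by simp [hv, Ne.symm hn₂, hex]), zero_smul, sub_zero,
      smul_smul]
  change (1 + W) *ᵥ pv v = _ at he
  rw [hWv] at he
  have hex_ne : x ∉ F ∙ e := Pair.notMem_line hx hJ hp fun e0 => hxx (by rw [e0, bJ_zero_left])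
  have hexn : e + x ∉ F ∙ e := fun hm => hex_ne (by
    simpa using Submodule.sub_mem _ hm (Submodule.mem_span_singleton_self e))
  refine not_two_differ one_ne_zero (mul_ne_zero ha0 ?_) (u := v) (u' := fun _ => e) (by rw [one_smul]; exact he)
    (fun z => ?_) (fun _ => hp.left_ne) (a := ⟨l₂, hl₂⟩) (b := ⟨n, hn₁⟩) (fun h => hn₂ (congrArg Subtype.val h).symm)
    (by simp only [hv, Ne.symm hn₂, if_false, if_true]; exact hex_ne) (by simp only [hv, if_true]; exact hexn)
  · rw [bJ_pv]
    refine Finset.prod_ne_zero_iff.2 fun z _ => ?_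
    by_cases hzn : z.1 = n
    · simp [hT, hv, hzn, hn₁, hn₂, hp.fe hJ, hfx]
    · by_cases hz2 : z.1 = l₂
      · simpa [hT, hv, hz2, Ne.symm hn₂] using hxx
      · simp [hT, hv, hzn, hz2, z.2, hp.fe hJ]
  · simp only [hv]
    split_ifs with h1 h2
    · exact fun h0 => hexn (by rw [h0]; exact Submodule.zero_mem _)
    · exact fun h0 => hex_ne (by rw [h0]; exact Submodule.zero_mem _)
    · exact hp.left_ne

/-! ### All the groups on the other factors, and a pure element from them -/

/-- A big group on the factors other than one spreads to the others. -/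
theorem Over.omega_rest_spread (hM : Over J M) (h3 : 3 ≤ Fintype.card κ) {i : κ}
    (h : OmG (gT (Rest i) J) ≤ restG i M) (j : κ) : OmG (gT (Rest j) J) ≤ restG j M := by
  have hJ := hM.og
  have hk := hM.good.three
  by_cases hij : j = i
  · exact hij ▸ h
  obtain ⟨σ, hσ⟩ := exists_sq_move h3 hij
  set ρ := σ * σ with hρ
  set p : GL (κ → Fin k) F := permU ρ with hp
  have hpM : p ∈ M := hM.perm_sq_mem σ
  have hpI : p ∈ IsoG (gT κ J) := permU_mem_IsoG hJ ρ
  have hsub : ((IsoG (gT (Rest j) J)).map (Units.map (liftRest (F := F) (m := k) j))).map (MulAut.conj p).toMonoidHom ≤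
      (IsoG (gT (Rest i) J)).map (Units.map (liftRest (F := F) (m := k) i)) := by
    rintro _ ⟨_, ⟨a, ha, rfl⟩, rfl⟩
    have hg : p * Units.map (liftRest j) a * p⁻¹ ∈ IsoG (gT κ J) :=
      mul_mem (mul_mem hpI (liftRest_mem_IsoG hJ j ha)) (inv_mem hpI)
    have hop : ∀ A, (op i A : TMat F κ k) = Ad p (op j A : TMat F κ k) := fun A => by
      rw [Ad_apply, hp, permU_coe, permM_mul_op, hσ, Matrix.mul_assoc, ← map_inv, permU_coe, ← map_mul,
        mul_inv_cancel, map_one, Matrix.mul_one]
    obtain ⟨W, hW⟩ := eq_liftRest_of_comm (by omega : 0 < k) i (Y := (p * Units.map (liftRest j) a * p⁻¹).1) fun A => by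
      rw [hop A, show (p * Units.map (liftRest j) a * p⁻¹).1 = Ad p (liftRest j a.1) by rw [Ad_apply]; rfl, Ad_mul_Ad,
        Ad_mul_Ad, op_comm_liftRest]
    have hWiso : adjJ (gT (Rest i) J) W * W = 1 := liftRest_injective (by omega) i (by
      rw [map_mul, ← adjJ_liftRest hJ, ← hW, map_one]
      exact (mem_IsoG_iff (gT_og hJ)).1 hg)
    refine ⟨⟨W, adjJ (gT (Rest i) J) W, mul_eq_one_comm.1 hWiso, hWiso⟩, (mem_IsoG_iff (gT_og hJ)).2 hWiso,
      Units.ext hW.symm⟩
  intro Z hZ
  have h1 : p * Units.map (liftRest j) Z * p⁻¹ ∈ M := by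
    rw [OmG_eq] at hZ
    have h2 := Subgroup.mem_map_of_mem (MulAut.conj p).toMonoidHom
      (Subgroup.mem_map_of_mem (Units.map (liftRest (F := F) (m := k) j)) hZ)
    rw [Subgroup.map_commutator, Subgroup.map_commutator] at h2
    have h3 := Subgroup.commutator_mono hsub hsub h2
    rw [← Subgroup.map_commutator, ← OmG_eq] at h3
    obtain ⟨Y, hY, eY⟩ := h3
    have h4 := Subgroup.mem_comap.1 (h hY)
    rw [eY] at h4
    exact h4
  refine Subgroup.mem_comap.2 ?_
  have := mul_mem (mul_mem (inv_mem hpM) h1) hpM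
  simpa [mul_assoc] using this

/-- The big groups on the other factors give a pure element. -/
theorem Over.pure_of_rest (hM : Over J M) (h3 : 3 ≤ Fintype.card κ)
    (h : ∀ j, OmG (gT (Rest j) J) ≤ restG j M) : PureM J M := by
  classical
  have hJ := hM.og
  have hk := hM.good.three
  obtain ⟨e, f, hp⟩ := hJ.exists_pair (by rw [Fintype.card_fin]; exact hk)
  obtain ⟨x, hx, hxx⟩ := hp.exists_aniso_hyp hJ hk
  have hex := (mem_Hyp.1 hx).1
  obtain ⟨l₁⟩ : Nonempty κ := Fintype.card_pos_iff.1 (by omega)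
  obtain ⟨l₂, hl₂⟩ := Fintype.exists_ne_of_one_lt_card (by omega : 1 < Fintype.card κ) l₁
  obtain ⟨n, hn₁, hn₂⟩ := exists_third h3 l₁ l₂
  have hzero : ∀ {ι : Type} [Fintype ι] [DecidableEq ι] {K : ι → Matrix (Fin k) (Fin k) F} (z : ι), K z = 0 →
      tens K = 0 := fun {ι} _ _ {K} z hz => by
    ext a b
    exact Finset.prod_eq_zero (Finset.mem_univ z) (by rw [hz]; rfl)
  -- a Siegel element on the factors other than `l₁`
  set K₁ : κ → Matrix (Fin k) (Fin k) F := fun z => if z = l₁ then 1 else if z = l₂ then nP J e x else eP J e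
  set p : (Rest l₁ → Fin k) → F := pv fun _ => e
  set q : (Rest l₁ → Fin k) → F := pv (Function.update (fun _ => e) (⟨l₂, hl₂⟩ : Rest l₁) x)
  have hR := gT_og (κ := Rest l₁) hJ
  have hpp : bJ (gT (Rest l₁) J) p p = 0 := bJ_pv_zero ⟨n, hn₁⟩ hp.ee
  have hpq : bJ (gT (Rest l₁) J) p q = 0 := bJ_pv_zero ⟨n, hn₁⟩ (by simp [hn₂, hp.ee])
  have hqq : bJ (gT (Rest l₁) J) q q = 0 := bJ_pv_zero ⟨n, hn₁⟩ (by simp [hn₂, hp.ee])
  have hX : HasM M (tens K₁) := by
    refine ⟨_, Subgroup.mem_comap.1 (h l₁ (uH_mem_OmG hR hpp hpq)), ?_⟩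
    rw [Units.coe_map]
    show liftRest l₁ (uP (gT (Rest l₁) J) p q 1) = _
    rw [uP, nP_mul_nP hpp (by rw [hR.swap, hpq]) hpq, hqq, neg_zero, zero_smul, smul_zero, add_zero, one_smul,
      liftRest_add, map_one, nP_pv_update, liftRest_tens]
    congr 2
    funext z
    by_cases hz : z = l₁
    · subst hz; simp [K₁]
    · by_cases hz2 : z = l₂
      · subst hz2; simp [K₁, hz]
      · simp [K₁, hz, hz2]
  -- an element on the factors other than `l₂`
  set K₂ : κ → Matrix (Fin k) (Fin k) F := fun z => if z = l₁ then eP J e else if z = n then nP J e f else 1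
  set Y : TMat F (Rest l₂) k := tens fun z => K₂ z with hY
  have hY2 : Y * Y = 0 := by
    rw [hY, tens_mul_tens]
    exact hzero ⟨l₁, Ne.symm hl₂⟩ (by simp [K₂, eP_sq hp.ee])
  have hYs : adjJ (gT (Rest l₂) J) Y = -Y := by
    have h1 : (fun z : Rest l₂ => adjJ J (K₂ z)) =
        Function.update (fun z : Rest l₂ => K₂ z) ⟨n, hn₂⟩ ((-1 : F) • K₂ n) := by
      funext z
      by_cases hz : z.1 = n
      · obtain rfl : z = ⟨n, hn₂⟩ := Subtype.ext hz
        simp [K₂, hn₁, adjJ_nP hJ]
      · rw [Function.update_of_ne fun h' => hz (congrArg Subtype.val h')]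
        by_cases hz1 : z.1 = l₁ <;> simp [K₂, hz, hz1, adjJ_eP hJ, adjJ_one hJ]
    rw [hY, adjJ_tens hJ, h1, tens_update_smul, neg_one_smul]
    congr 2
    exact Function.update_eq_self (⟨n, hn₂⟩ : Rest l₂) (fun z : Rest l₂ => K₂ z.1)
  have hG2 := gT_og (κ := Rest l₂) hJ
  have hY' : HasM M (tens K₂) := by
    set Z := (2 : F)⁻¹ • Y with hZ
    have hZ2 : Z * Z = 0 := by rw [hZ, Matrix.smul_mul, Matrix.mul_smul, hY2, smul_zero, smul_zero]
    let g : GL (Rest l₂ → Fin k) F := ⟨1 + Z, 1 - Z, by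
      rw [Matrix.mul_sub, Matrix.mul_one, Matrix.add_mul, Matrix.one_mul, hZ2]; abel, by
      rw [Matrix.sub_mul, Matrix.one_mul, Matrix.mul_add, Matrix.mul_one, hZ2]; abel⟩
    have hg : g ∈ IsoG (gT (Rest l₂) J) := by
      rw [mem_IsoG_iff hG2]
      show adjJ _ (1 + Z) * (1 + Z) = 1
      rw [adjJ_add, adjJ_one hG2, hZ, adjJ_smul, hYs, smul_neg, ← hZ, ← sub_eq_add_neg, Matrix.sub_mul,
        Matrix.one_mul, Matrix.mul_add, Matrix.mul_one, hZ2]
      abel
    refine ⟨_, Subgroup.mem_comap.1 (h l₂ (sq_mem_OmG hG2 hg)), ?_⟩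
    rw [Units.coe_map, Units.val_mul]
    show liftRest l₂ ((1 + Z) * (1 + Z)) = _
    rw [Matrix.add_mul, Matrix.one_mul, Matrix.mul_add, Matrix.mul_one, hZ2, add_zero, add_assoc, hZ, ← add_smul,
      ← two_mul, mul_inv_cancel₀ hJ.two, one_smul, liftRest_add, map_one, hY, liftRest_tens]
    congr 2
    funext z
    by_cases hz : z = l₂
    · subst hz; simp [K₂, hl₂, Ne.symm hn₂]
    · simp [hz]
  have hEN : eP J e * nP J e f = (-1 : F) • eP J e := by
    rw [eP, nP, Matrix.mul_sub, dyad_mul, dyad_mul, hp.ee, hp.ef, zero_smul, zero_sub, neg_one_smul, one_smul]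
  have hNE : nP J e f * eP J e = eP J e := by
    rw [eP, nP, Matrix.sub_mul, dyad_mul, dyad_mul, hp.ee, hp.fe hJ, zero_smul, sub_zero, one_smul]
  set K : κ → Matrix (Fin k) (Fin k) F := Function.update (fun _ => eP J e) l₂ (nP J e x) with hK
  have h12 : (fun z => K₁ z * K₂ z) = Function.update K n ((-1 : F) • eP J e) := by
    funext z
    by_cases hz : z = l₁
    · subst hz; simp [K₁, K₂, hK, Ne.symm hl₂, Ne.symm hn₁]
    · by_cases hz2 : z = l₂
      · subst hz2; simp [K₁, K₂, hK, hz, Ne.symm hn₂]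
      · by_cases hzn : z = n
        · subst hzn; simp [K₁, K₂, hz, hz2, hEN]
        · simp [K₁, K₂, hK, hz, hz2, hzn]
  have h21 : (fun z => K₂ z * K₁ z) = K := by
    funext z
    by_cases hz : z = l₁
    · subst hz; simp [K₁, K₂, hK, Ne.symm hl₂]
    · by_cases hz2 : z = l₂
      · subst hz2; simp [K₁, K₂, hK, hz, Ne.symm hn₂]
      · by_cases hzn : z = n
        · subst hzn; simp [K₁, K₂, hK, hz, hz2, hNE]
        · simp [K₁, K₂, hK, hz, hz2, hzn]
  have hc := hX.commO hY'
    (by rw [tens_mul_tens]; exact hzero n (by simp [K₁, hn₁, hn₂, eP_sq hp.ee]))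
    (by rw [tens_mul_tens]; exact hzero l₁ (by simp [K₂, eP_sq hp.ee]))
    (by
      rw [tens_mul_tens, tens_mul_tens]
      exact hzero n (by simp [K₁, K₂, hn₁, hn₂, hEN, eP_sq hp.ee]))
    (by
      rw [tens_mul_tens, tens_mul_tens]
      exact hzero l₁ (by simp [K₁, K₂, eP_sq hp.ee]))
  rw [tens_mul_tens, tens_mul_tens, h12, h21, tens_update_smul,
    show Function.update K n (eP J e) = K by rw [Function.update_eq_self_iff]; simp [hK, hn₂],
    show (-1 : F) • tens K - tens K = (-2 : F) • tens K by module] at hc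
  refine ⟨fun _ => e, l₂, x, fun _ => ⟨hp.left_ne, hp.ee⟩, hex, hxx, -2, neg_ne_zero.2 hJ.two, ?_⟩
  rw [nP_pv_update]
  exact hc

end CfsgLib.Classical.WreathMaxO
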