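import Cfsg.Agent.Lib.Classical.WreathMaxO.Centre

/-!
# Without central elements all parameters of elements fixing a slice are scalar
-/

set_option autoImplicit false
set_option linter.unusedSectionVars false
set_option maxHeartbeats 800000

open Matrix Module
open scoped Kronecker

namespace CfsgLib.Classical.WreathMaxO

open CfsgLib.Classical.WreathMax
open CfsgLib.Classical.WreathMaxSp (pv tens_mulVec_pv pv_ne_zero)

variable {F : Type*} [Field F] [Fintype F] {κ : Type} [Fintype κ] [DecidableEq κ] {k : ℕ}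
  {J : Matrix (Fin k) (Fin k) F} {M : Subgroup (GL (κ → Fin k) F)} {i : κ} {e f : Fin k → F}
  {T : (Fin k → F) →ₗ[F] TMat F (Rest i) k}

/-- The projection of the complement of a pair onto the plane of two orthogonal vectors, by an element of `Ω`. -/
theorem Pair.levi_inv (hJ : OG J) {b c : Fin k → F} (hp : Pair J e f) (hb : b ∈ Hyp J e f) (hc : c ∈ Hyp J e f)
    (hbb : bJ J b b ≠ 0) (hcc : bJ J c c ≠ 0) (hbc : bJ J b c = 0) :
    ∃ C ∈ OmG J, C.1 *ᵥ e = (bJ J c c / bJ J b b) • e ∧ C.1 *ᵥ f = (bJ J b b / bJ J c c) • f ∧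
      ∀ v ∈ Hyp J e f,
        v - C⁻¹.1 *ᵥ v = (2 * bJ J b v / bJ J b b) • b + (2 * bJ J c v / bJ J c c) • c := by
  obtain ⟨C, hC, hCe, hCf, hCb, hCc, hCw⟩ := hp.exists_levi hJ hb hc hbb hcc hbc
  refine ⟨C, hC, hCe, hCf, fun v hv => ?_⟩
  set r := v - (bJ J b v / bJ J b b) • b - (bJ J c v / bJ J c c) • c with hr
  have hrH : r ∈ Hyp J e f :=
    Submodule.sub_mem _ (Submodule.sub_mem _ hv (Submodule.smul_mem _ _ hb)) (Submodule.smul_mem _ _ hc)
  have h1 : C.1 *ᵥ r = r := hCw r hrH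
    (by simp only [hr, bJ_sub_right, bJ_smul_right, hbc, div_mul_cancel₀ _ hbb]; ring)
    (by simp only [hr, bJ_sub_right, bJ_smul_right, hJ.swap c b, hbc, div_mul_cancel₀ _ hcc]; ring)
  have hw : C.1 *ᵥ (v - (2 * bJ J b v / bJ J b b) • b - (2 * bJ J c v / bJ J c c) • c) = v := by
    simp only [hr, Matrix.mulVec_sub, Matrix.mulVec_smul, hCb, hCc] at h1 ⊢
    simp only [mul_div_assoc]
    linear_combination (norm := module) h1
  have h2 : C⁻¹.1 *ᵥ v = v - (2 * bJ J b v / bJ J b b) • b - (2 * bJ J c v / bJ J c c) • c := by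
    conv_lhs => rw [← hw]
    rw [Matrix.mulVec_mulVec, ← Units.val_mul, inv_mul_cancel, Units.val_one, Matrix.one_mulVec]
  rw [h2]
  abel

/-- Some anisotropic vector has a non-scalar parameter. -/
theorem Pair.exists_nonscalar (hJ : OG J) (hp : Pair J e f) (h : ∃ v ∈ Hyp J e f, ∀ c : F, T v ≠ c • 1) :
    ∃ b ∈ Hyp J e f, bJ J b b ≠ 0 ∧ ∀ c : F, T b ≠ c • 1 := by
  obtain ⟨v, hv, hT⟩ := h
  by_contra! hall
  set S : Submodule F (TMat F (Rest i) k) := F ∙ (1 : TMat F (Rest i) k)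
  have h0 := (hp.nd hJ).eq_zero_of_aniso hJ (S.mkQ ∘ₗ T) (fun b hb hbb => by
    obtain ⟨c, hc⟩ := hall b hb hbb
    rw [LinearMap.comp_apply, Submodule.mkQ_apply, Submodule.Quotient.mk_eq_zero, hc]
    exact S.smul_mem _ (Submodule.mem_span_singleton_self _)) hv
  rw [LinearMap.comp_apply, Submodule.mkQ_apply, Submodule.Quotient.mk_eq_zero] at h0
  obtain ⟨c, hc⟩ := Submodule.mem_span_singleton.1 h0
  exact hT c hc.symm

/-- Conjugation by an element of the factor together with one of the others. -/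
theorem El.conj_mix (hJ : OG J) (h : El J M i e f T) {g : GL (κ → Fin k) F} (hg : g ∈ M) {C : GL (Fin k) F}
    (hC : C ∈ IsoG J) {G : GL (Rest i → Fin k) F} (hgC : g.1 = op i C.1 * liftRest i G.1) {μ ν : F} (hμ : μ ≠ 0)
    (hCe : C.1 *ᵥ e = μ • e) (hCf : C.1 *ᵥ f = ν • f) :
    El J M i e f (μ • (Ad G).comp (T.comp (Matrix.mulVecLin C⁻¹.1))) := by
  obtain ⟨z, hz, he, hv⟩ := h
  have hgi : g⁻¹.1 = op i C⁻¹.1 * liftRest i G⁻¹.1 := by
    have hprod : g.1 * (op i C⁻¹.1 * liftRest i G⁻¹.1) = 1 := by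
      rw [hgC, op_lift_mul, ← Units.val_mul, ← Units.val_mul, mul_inv_cancel, mul_inv_cancel, Units.val_one,
        Units.val_one, map_one, map_one, Matrix.one_mul]
    calc g⁻¹.1 = g⁻¹.1 * (g.1 * (op i C⁻¹.1 * liftRest i G⁻¹.1)) := by rw [hprod, Matrix.mul_one]
      _ = _ := by rw [← Matrix.mul_assoc, ← Units.val_mul, inv_mul_cancel, Units.val_one, Matrix.one_mul]
  have hact : ∀ x w, g.1 *ᵥ sl i x w = sl i (C.1 *ᵥ x) (G.1 *ᵥ w) := fun x w => by
    rw [hgC, ← Matrix.mulVec_mulVec, lift_sl, op_sl]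
  have hacti : ∀ x w, g⁻¹.1 *ᵥ sl i x w = sl i (C⁻¹.1 *ᵥ x) (G⁻¹.1 *ᵥ w) := fun x w => by
    rw [hgi, ← Matrix.mulVec_mulVec, lift_sl, op_sl]
  have hCi : C⁻¹.1 *ᵥ e = μ⁻¹ • e := by
    have := congrArg (fun x => μ⁻¹ • (C⁻¹.1 *ᵥ x)) hCe
    simp only [Matrix.mulVec_mulVec, ← Units.val_mul, inv_mul_cancel, Units.val_one, Matrix.one_mulVec,
      Matrix.mulVec_smul, smul_smul, inv_mul_cancel₀ hμ, one_smul] at this
    exact this.symm
  have hH : ∀ v ∈ Hyp J e f, C⁻¹.1 *ᵥ v ∈ Hyp J e f := fun v hv => by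
    have hiso := (mem_IsoG_iff_bJ hJ).1 hC
    have hself : C.1 *ᵥ (C⁻¹.1 *ᵥ v) = v := by
      rw [Matrix.mulVec_mulVec, ← Units.val_mul, mul_inv_cancel, Units.val_one, Matrix.one_mulVec]
    refine mem_Hyp.2 ⟨?_, ?_⟩ <;>
      rw [← hiso, hself]
    · rw [hCe, bJ_smul_left, (mem_Hyp.1 hv).1, mul_zero]
    · rw [hCf, bJ_smul_left, (mem_Hyp.1 hv).2, mul_zero]
  have hGG : G.1 * G⁻¹.1 = 1 := by rw [← Units.val_mul, mul_inv_cancel, Units.val_one]
  refine ⟨g * z * g⁻¹, mul_mem (mul_mem hg hz) (inv_mem hg), fun w => ?_, fun v hvH w => ?_⟩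
  · rw [Units.val_mul, Units.val_mul, ← Matrix.mulVec_mulVec, ← Matrix.mulVec_mulVec, hacti, hCi, sl_smul,
      Matrix.mulVec_smul, he, Matrix.mulVec_smul, hact, hCe, sl_smul, smul_smul, inv_mul_cancel₀ hμ, one_smul,
      Matrix.mulVec_mulVec, hGG, Matrix.one_mulVec]
  · rw [Units.val_mul, Units.val_mul, ← Matrix.mulVec_mulVec, ← Matrix.mulVec_mulVec, hacti, hv _ (hH v hvH),
      Matrix.mulVec_add, hact, hact, hCe, sl_smul, Matrix.mulVec_mulVec w, hGG, Matrix.one_mulVec,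
      Matrix.mulVec_mulVec v, ← Units.val_mul C, mul_inv_cancel, Units.val_one, Matrix.one_mulVec,
      LinearMap.smul_apply, LinearMap.comp_apply, LinearMap.comp_apply, Matrix.mulVecLin_apply, Ad_apply,
      Matrix.smul_mulVec, map_smul, ← Matrix.mulVec_mulVec, ← Matrix.mulVec_mulVec]

/-- With two factors of dimension four a parameter of rank one is found by a sandwich. -/
theorem Over.el_isolate_small (hM : Over J M) (hp : Pair J e f) (hk4 : k = 4) (hκ : Fintype.card κ ≤ 2)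
    (h : El J M i e f T) (hsym : ∀ v ∈ Hyp J e f, adjJ (gT (Rest i) J) (T v) = T v) {b : Fin k → F}
    (hb : b ∈ Hyp J e f) (hbb : bJ J b b ≠ 0) (hTb : ∀ c : F, T b ≠ c • 1) :
    ∃ Y : TMat F (Rest i) k, (∀ c : F, Y ≠ c • 1) ∧ El J M i e f (elB J b Y) := by
  classical
  have hJ := hM.og
  have hk := hM.good.three
  have hn : 3 ≤ Fintype.card (Fin k) := by rw [Fintype.card_fin]; exact hk
  obtain ⟨l⟩ : Nonempty (Rest i) := by
    by_contra hne
    rw [not_nonempty_iff] at hne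
    haveI : Unique (Rest i → Fin k) := Pi.uniqueOfIsEmpty _
    exact hTb (T b default default) (Matrix.ext fun u v => by
      rw [Unique.eq_default u, Unique.eq_default v, Matrix.smul_apply, Matrix.one_apply_eq, smul_eq_mul, mul_one])
  haveI hsub : Subsingleton (Rest i) := Fintype.card_le_one_iff_subsingleton.1 (by
    have : Fintype.card (Rest i) < Fintype.card κ :=
      Fintype.card_lt_of_injective_of_notMem (Subtype.val : Rest i → κ) Subtype.val_injective (b := i)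
        (fun ⟨z, hz⟩ => z.2 hz)
    omega)
  haveI : IsEmpty (Rest l) := ⟨fun z => z.2 (Subsingleton.elim _ _)⟩
  haveI : Unique (Rest l → Fin k) := Pi.uniqueOfIsEmpty _
  set β : TMat F (Rest i) k → Matrix (Fin k) (Fin k) F := fun Z => blk l default default Z with hβ
  have hop : ∀ Z : TMat F (Rest i) k, Z = op l (β Z) := fun Z => blk_ext (l := l) fun u v => by
    rw [← Matrix.mul_one (op l (β Z)), ← map_one (liftRest (F := F) (m := k) l), blk_op_lift, Unique.eq_default u,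
      Unique.eq_default v, Matrix.one_apply_eq, one_smul]
  obtain ⟨e', he', hne⟩ : ∃ e', bJ J e' e' = 0 ∧ bJ J e' (β (T b) *ᵥ e') ≠ 0 := by
    by_contra! hall
    obtain ⟨c, hc⟩ := hJ.sym_scalar hn (fun _ => by
      rw [Fintype.card_fin]; exact ⟨by omega, fun _ => hM.good.plane hk4⟩) hall
    refine hTb ((2 : F)⁻¹ * c) ?_
    have h1 : op l (adjJ J (β (T b))) = T b := by rw [← adjJ_op hJ, ← hop, hsym b hb]
    have h2 : (2 : F) • T b = c • (1 : TMat F (Rest i) k) := by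
      rw [two_smul]
      nth_rw 1 [hop (T b)]
      nth_rw 2 [← h1]
      rw [← op_add, hc, op_smul, map_one]
    rw [mul_smul, ← h2, inv_smul_smul₀ hJ.two]
  have he0 : e' ≠ 0 := fun e0 => hne (by rw [e0, bJ_zero_left])
  obtain ⟨f', hp'⟩ := hJ.exists_pair_of he0 he'
  let P : AddSubgroup (Module.End F (TMat F (Rest i) k)) :=
    { carrier := {Φ | El J M i e f (Φ ∘ₗ T)}
      zero_mem' := El.zero.congr fun v _ => by simp
      add_mem' := fun {a c} ha hc => (ha.add hc).congr fun v _ => by simp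
      neg_mem' := fun {a} ha => (El.neg ha).congr fun v _ => by simp }
  obtain ⟨c, hc, hΦ⟩ := sandwich_op hM.good l (P := P)
    (fun A hA Φ hΦ => (El.conj_lift hΦ (hM.opU_mem l.1 hA) (G := opU l A)
      (by rw [opU_coe, opU_coe, liftRest_op])).congr fun v _ => rfl) he0 he' (Φ := 1) (h.congr fun v _ => rfl)
  set T' : (Fin k → F) →ₗ[F] TMat F (Rest i) k := (c • ((LinearMap.mulLeft F (op l (eP J e') : TMat F (Rest i) k) ∘ₗ
      LinearMap.mulRight F (op l (eP J e') : TMat F (Rest i) k)) ∘ₗ (1 : Module.End F (TMat F (Rest i) k)))) ∘ₗ T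
  have hT' : El J M i e f T' := hΦ
  have hT'v : ∀ v, T' v = (c * bJ J e' (β (T v) *ᵥ e')) • op l (eP J e') := fun v => by
    simp only [T', LinearMap.comp_apply, LinearMap.smul_apply, LinearMap.mulLeft_apply, LinearMap.mulRight_apply,
      Module.End.one_apply]
    conv_lhs => rw [hop (T v)]
    rw [← map_mul, ← map_mul, ← Matrix.mul_assoc, eP_sandwich, op_smul, smul_smul]
  obtain ⟨b', hb'H, hb'n⟩ : ∃ b' ∈ Hyp J e' f', bJ J b' b' = bJ J b b := by
    have d1 := finrank_Hyp (J := J) e' f'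
    rw [Fintype.card_fin] at d1
    obtain ⟨c₁, hc₁, hc₁0⟩ := (hp'.nd hJ).exists_aniso hJ (ne_bot_of_pos (by omega))
    have d2 := finrank_inf_perp (J := J) (Hyp J e' f') c₁
    obtain ⟨c₂, ⟨hc₂, h12⟩, hc₂0⟩ := ((hp'.nd hJ).inf_perp hc₁ hc₁0 hJ).exists_aniso hJ (ne_bot_of_pos (by omega))
    rw [SetLike.mem_coe, mem_perp] at h12
    obtain ⟨x, y, hxy⟩ := binary_universal hJ.two hc₁0 hc₂0 (bJ J b b)
    refine ⟨x • c₁ + y • c₂, Submodule.add_mem _ (Submodule.smul_mem _ _ hc₁) (Submodule.smul_mem _ _ hc₂), ?_⟩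
    simp only [bJ_add_left, bJ_add_right, bJ_smul_left, bJ_smul_right, h12, hJ.swap c₂ c₁]
    linear_combination hxy
  have hb'0 : bJ J b' b' ≠ 0 := hb'n ▸ hbb
  have hgM : opU i (rG J hbb) * opU l.1 (rG J hb'0) ∈ M := by
    have h1 := mul_mem (hM.pair_mem (i := i) (l := l.1) (rG_mem hJ hbb))
      (hM.opU_mem l.1 (rG_mul_mem_OmG hJ hbb hb'0 hb'n))
    have hsq : rG J hbb * rG J hbb = 1 := Units.ext (rM_sq hbb)
    rwa [map_mul, ← mul_assoc, mul_assoc (opU i (rG J hbb)), ← map_mul, hsq, map_one, mul_one] at h1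
  have hfix : ∀ x, bJ J b x = 0 → (rG J hbb).1 *ᵥ x = x := fun x hx => rM_fix hx
  have h2 := El.conj_mix hJ hT' hgM (rG_mem hJ hbb) (G := opU l (rG J hb'0))
    (by rw [Units.val_mul, opU_coe, opU_coe, opU_coe, liftRest_op]) (μ := 1) (ν := 1) one_ne_zero
    (by rw [one_smul, hfix e (by rw [hJ.swap, (mem_Hyp.1 hb).1])])
    (by rw [one_smul, hfix f (by rw [hJ.swap, (mem_Hyp.1 hb).2])])
  have hE : Ad (opU l (rG J hb'0)) (op l (eP J e') : TMat F (Rest i) k) = op l (eP J e') := by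
    rw [Ad_opU_op, Ad_apply, conj_eP hJ (rG_mem hJ hb'0)]
    show op l (eP J (rM J b' *ᵥ e')) = _
    rw [rM_fix (by rw [hJ.swap, (mem_Hyp.1 hb'H).1])]
  refine ⟨(2 / bJ J b b * (c * bJ J e' (β (T b) *ᵥ e'))) • op l (eP J e'), fun d hd => ?_,
    (hT'.add h2.neg).congr fun v hv => ?_⟩
  · haveI : Nonempty (Fin k) := ⟨⟨0, by omega⟩⟩
    have h3 := congrArg (fun Z => Z * op l (eP J e')) hd
    simp only [Matrix.smul_mul, ← map_mul, eP_sq he', op_zero, smul_zero, Matrix.one_mul] at h3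
    have hE0 : (op l (eP J e') : TMat F (Rest i) k) ≠ 0 := fun h0 => eP_ne hJ he0 (op_injective l (by rw [h0, op_zero]))
    have hd0 : d = 0 := (smul_eq_zero.1 h3.symm).resolve_right hE0
    rw [hd0, zero_smul] at hd
    exact smul_ne_zero (mul_ne_zero (div_ne_zero hJ.two hbb) (mul_ne_zero hc hne)) hE0 hd
  · show T' v + -((1 : F) • Ad (opU l (rG J hb'0)) (T' (rM J b *ᵥ v))) = _
    rw [one_smul, hT'v (rM J b *ᵥ v), map_smul, hE, ← hT'v, ← sub_eq_add_neg, ← map_sub, elB_apply]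
    rw [rM_mulVec, sub_sub_cancel, map_smul, hT'v, smul_smul, smul_smul]
    congr 1
    ring

/-- A non-scalar parameter gives one of rank one. -/
theorem Over.el_isolate (hM : Over J M) (hp : Pair J e f) (h : El J M i e f T)
    (hsym : ∀ v ∈ Hyp J e f, adjJ (gT (Rest i) J) (T v) = T v)
    (hns : ∃ v ∈ Hyp J e f, ∀ c : F, T v ≠ c • 1) :
    ∃ b ∈ Hyp J e f, bJ J b b ≠ 0 ∧ ∃ Y : TMat F (Rest i) k, (∀ c : F, Y ≠ c • 1) ∧ El J M i e f (elB J b Y) := by
  classical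
  have hJ := hM.og
  have hk := hM.good.three
  obtain ⟨b, hb, hbb, hTb⟩ := hp.exists_nonscalar hJ hns
  refine ⟨b, hb, hbb, ?_⟩
  by_cases hsmall : k = 4 ∧ Fintype.card κ ≤ 2
  · obtain ⟨hk4, hκ⟩ := hsmall
    exact hM.el_isolate_small hp hk4 hκ h hsym hb hbb hTb
  suffices H : ∃ c : F, c ≠ 0 ∧ El J M i e f (elB J b (c • T b)) by
    obtain ⟨c, hc, h'⟩ := H
    exact ⟨_, fun d hd => hTb (c⁻¹ * d) (by rw [mul_smul, ← hd, inv_smul_smul₀ hc]), h'⟩
  by_cases hk3 : k = 3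
  · refine ⟨(bJ J b b)⁻¹, inv_ne_zero hbb, h.congr fun v hv => ?_⟩
    conv_lhs => rw [hp.hyp_line hJ (by rw [Fintype.card_fin, hk3]) hb hbb hv]
    rw [map_smul, elB_apply, smul_smul, div_eq_mul_inv]
  have he0 : (2 : F) ≠ 0 := hJ.two
  by_cases hk4 : k = 4
  · by_cases h3 : 3 ≤ Fintype.card κ
    · refine ⟨2 / bJ J b b, div_ne_zero he0 hbb, ?_⟩
      have hfix : ∀ x, bJ J b x = 0 → (rG J hbb).1 *ᵥ x = x := fun x hx => rM_fix hx
      have h1 := h.conj_op hJ (rG_mem hJ hbb) (hM.refl_in hk4 h3 i hbb) one_ne_zero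
        (μ := 1) (ν := 1) (by rw [one_smul, hfix e (by rw [hJ.swap, (mem_Hyp.1 hb).1])])
        (by rw [one_smul, hfix f (by rw [hJ.swap, (mem_Hyp.1 hb).2])])
      refine (h.add h1.neg).congr fun v hv => ?_
      rw [LinearMap.add_apply, LinearMap.neg_apply, LinearMap.smul_apply, one_smul, LinearMap.comp_apply,
        ← sub_eq_add_neg, ← map_sub, Matrix.mulVecLin_apply, elB_apply]
      show T (v - rM J b *ᵥ v) = _
      rw [rM_mulVec, sub_sub_cancel, map_smul, smul_smul]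
      congr 1
      ring
    · exact absurd ⟨hk4, by omega⟩ hsmall
  · have h5 : 5 ≤ k := by omega
    have hS := (hp.nd hJ).inf_perp hb hbb hJ
    have d1 := finrank_Hyp (J := J) e f
    have d2 := finrank_inf_perp (J := J) (Hyp J e f) b
    rw [Fintype.card_fin] at d1
    obtain ⟨c₁, hc₁, hc₁0⟩ := hS.exists_aniso hJ (ne_bot_of_pos (by omega))
    obtain ⟨hc₁H, hbc₁⟩ := hc₁
    rw [SetLike.mem_coe, mem_perp] at hbc₁
    have hS' := hS.inf_perp ⟨hc₁H, mem_perp.2 hbc₁⟩ hc₁0 hJ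
    have d3 := finrank_inf_perp (J := J) (Hyp J e f ⊓ perp J b) c₁
    obtain ⟨c₂, hc₂, hc₂0⟩ := hS'.exists_aniso hJ (ne_bot_of_pos (by omega))
    obtain ⟨⟨hc₂H, hbc₂⟩, hc₁₂⟩ := hc₂
    rw [SetLike.mem_coe, mem_perp] at hbc₂ hc₁₂
    have hproj : ∀ c ∈ Hyp J e f, bJ J c c ≠ 0 → bJ J b c = 0 → ∀ {T' : (Fin k → F) →ₗ[F] TMat F (Rest i) k},
        El J M i e f T' → ∃ T'', El J M i e f T'' ∧ ∀ v ∈ Hyp J e f,
          T'' v = (2 * bJ J b v / bJ J b b) • T' b + (2 * bJ J c v / bJ J c c) • T' c := by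
      intro c hc hcc hbc T' hT'
      obtain ⟨C, hC, hCe, hCf, hCv⟩ := hp.levi_inv hJ hb hc hbb hcc hbc
      have hμ : bJ J c c / bJ J b b ≠ 0 := div_ne_zero hcc hbb
      have h1 := hM.el_smul hp (bJ J c c / bJ J b b)⁻¹ (hT'.conj_op hJ (OmG_le hC) (hM.opU_mem i hC) hμ hCe hCf)
      refine ⟨_, hT'.add h1.neg, fun v hv => ?_⟩
      rw [LinearMap.add_apply, LinearMap.neg_apply, LinearMap.smul_apply, LinearMap.smul_apply, smul_smul,
        inv_mul_cancel₀ hμ, one_smul, LinearMap.comp_apply, ← sub_eq_add_neg, ← map_sub, Matrix.mulVecLin_apply,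
        hCv v hv, map_add, map_smul, map_smul]
    obtain ⟨T₁, hT₁, hT₁v⟩ := hproj c₁ hc₁H hc₁0 hbc₁ h
    obtain ⟨T₂, hT₂, hT₂v⟩ := hproj c₂ hc₂H hc₂0 hbc₂ hT₁
    refine ⟨4 / bJ J b b, div_ne_zero (by rw [show (4 : F) = 2 * 2 by norm_num]; exact mul_ne_zero he0 he0) hbb,
      hT₂.congr fun v hv => ?_⟩
    rw [hT₂v v hv, hT₁v b hb, hT₁v c₂ hc₂H, elB_apply, hbc₂, hJ.swap c₁ b, hbc₁, hc₁₂]
    match_scalars <;> field_simp <;> ring

/-- Without central elements all parameters are scalar. -/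
theorem Over.el_scalar (hM : Over J M) (hp : Pair J e f) (hc0 : ∀ S ∈ centSub M i hp.ee, S = 0)
    (h : El J M i e f T) : ∀ v ∈ Hyp J e f, ∃ c : F, T v = c • 1 := by
  classical
  by_contra! hns
  have hJ := hM.og
  have hk := hM.good.three
  have hsym : ∀ {T : (Fin k → F) →ₗ[F] TMat F (Rest i) k}, El J M i e f T → ∀ v ∈ Hyp J e f,
      adjJ (gT (Rest i) J) (T v) = T v := fun hT v hv => sub_eq_zero.1 (hc0 _ (hM.el_comm_siegel hp hT hv))
  obtain ⟨b, hb, hbb, Y, hY, hElY⟩ := hM.el_isolate hp h (hsym h) hns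
  let 𝒴 : AddSubgroup (TMat F (Rest i) k) :=
    { carrier := {Y | El J M i e f (elB J b Y)}
      zero_mem' := El.zero.congr fun v _ => by simp [elB_apply]
      add_mem' := fun {a c} ha hc => (ha.add hc).congr fun v _ => by simp [elB_apply, smul_add]
      neg_mem' := fun {a} ha => (El.neg ha).congr fun v _ => by simp [elB_apply] }
  have hlift : ∀ {Y}, Y ∈ 𝒴 → ∀ {g : GL (κ → Fin k) F}, g ∈ M → ∀ {G : GL (Rest i → Fin k) F},
      g.1 = liftRest i G.1 → Ad G Y ∈ 𝒴 := fun {Y} hY {g} hg {G} hG =>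
    (El.conj_lift hY hg hG).congr fun v _ => by rw [LinearMap.comp_apply, elB_apply, map_smul, elB_apply]
  have h𝒴 : AddInv J 𝒴 := by
    refine ⟨fun l A hA Z hZ => hlift hZ (hM.opU_mem l.1 hA) (by rw [opU_coe, opU_coe, liftRest_op]),
      fun h4 h2 l x hx Z hZ => hlift hZ (hM.refl_in h4 (card_ge_three h2) l.1 hx)
        (by rw [opU_coe, opU_coe, liftRest_op]), fun _ c Z hZ => ?_⟩
    exact (hM.el_smul hp c hZ).congr fun v _ => by
      rw [LinearMap.smul_apply, elB_apply, elB_apply, smul_comm]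
  have hadj : ∀ Z ∈ 𝒴, adjJ (gT (Rest i) J) Z = Z := fun Z hZ => by
    have := hsym hZ b hb
    rw [elB_apply, adjJ_smul] at this
    exact smul_right_injective _ hbb this
  have hcomm : ∀ Z ∈ 𝒴, ∀ Z' ∈ 𝒴, Z' * Z = Z * Z' := fun Z hZ Z' hZ' => by
    have := hc0 _ (hM.el_comm_elB hp hb hZ hZ')
    rw [smul_eq_zero, or_iff_right hbb, sub_eq_zero, hadj Z hZ, hadj Z' hZ'] at this
    exact this
  obtain ⟨c, K, hc, hK, hmem, hex⟩ := exists_tens hM.good _ (Rest i) rfl 𝒴 h𝒴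
    ⟨Y, hElY, fun e0 => hY 0 (by rw [e0, zero_smul])⟩
  obtain ⟨l₀, hl₀⟩ := hex ⟨Y, hElY, hY⟩
  have hmem' : tens K ∈ 𝒴 := by
    have h1 : El J M i e f (elB J b (c • tens K)) := hmem
    exact (hM.el_smul hp c⁻¹ h1).congr fun v _ => by
      rw [LinearMap.smul_apply, elB_apply, elB_apply, smul_comm c⁻¹, smul_smul c⁻¹ c, inv_mul_cancel₀ hc, one_smul]
  have hslot : ∀ z, ∃ (v : Fin k → F) (U : GL (Fin k) F), U ∈ OmG J ∧ v ≠ 0 ∧
      (K z ≠ 1 → K z *ᵥ v = 0) ∧ (K z * Ad U (K z)) *ᵥ v ≠ 0 := fun z => by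
    rcases hK z with h1 | ⟨e', he0, hee, h1⟩ | ⟨e', f', x, hp', hx, hxx, h1⟩
    · refine ⟨e, 1, one_mem _, hp.left_ne, fun h' => absurd h1 h', ?_⟩
      rw [Ad_one, h1, Matrix.one_mul, Matrix.one_mulVec]
      exact hp.left_ne
    · obtain ⟨f', hp'⟩ := hJ.exists_pair_of he0 hee
      obtain ⟨a, ha, haa⟩ := hp'.exists_aniso_hyp hJ hk
      have hfa := (mem_Hyp.1 ha).2
      refine ⟨e', uH hJ hp'.ff hfa, uH_mem_OmG hJ _ _, he0, fun _ => by rw [h1, eP_mulVec, hee, zero_smul], ?_⟩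
      have hne : bJ J e' (uP J f' a 1 *ᵥ e') ≠ 0 := by
        rw [uP_mulVec hJ hp'.ff hfa]
        simp [hp'.ee, hp'.ef, hp'.fe hJ, hJ.swap a e', (mem_Hyp.1 ha).1, hJ.two, haa]
      rw [h1, Ad_apply, conj_eP hJ (uH_mem_IsoG hJ hp'.ff hfa)]
      show (eP J e' * eP J (uP J f' a 1 *ᵥ e')) *ᵥ e' ≠ 0
      rw [eP, eP, dyad_mul, Matrix.smul_mulVec, dyad_mulVec, smul_smul, hJ.swap (uP J f' a 1 *ᵥ e')]
      exact smul_ne_zero (mul_ne_zero hne hne) he0
    · have hfx := (mem_Hyp.1 hx).2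
      have hex' := (mem_Hyp.1 hx).1
      refine ⟨e', uH hJ hp'.ff hfx, uH_mem_OmG hJ _ _, hp'.left_ne,
        fun _ => by rw [h1, nP_mulVec, hJ.swap x e', hex', hp'.ee, zero_smul, zero_smul, sub_zero], ?_⟩
      rw [h1, Ad_apply, conj_nP hJ (uH_mem_IsoG hJ hp'.ff hfx)]
      show (nP J e' x * nP J (uP J f' x 1 *ᵥ e') (uP J f' x 1 *ᵥ x)) *ᵥ e' ≠ 0
      rw [← Matrix.mulVec_mulVec, uP_mulVec hJ hp'.ff hfx, uP_mulVec hJ hp'.ff hfx]
      simp only [nP_mulVec, bJ_add_left, bJ_add_right, bJ_sub_left, bJ_sub_right, bJ_smul_left, bJ_smul_right, hp'.ee,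
        hp'.ef, hp'.fe hJ, hp'.ff, hfx, hex', hJ.swap x e', hJ.swap x f', Matrix.mulVec_add, Matrix.mulVec_sub,
        Matrix.mulVec_smul, mul_zero, zero_mul, zero_smul, one_smul, sub_zero, add_zero, zero_add, smul_zero,
        mul_one, zero_sub]
      intro h0
      refine hxx ?_
      have h3 := congrArg (bJ J f') h0
      simp only [bJ_add_right, bJ_sub_right, bJ_smul_right, bJ_neg_right, bJ_zero_right, hp'.fe hJ, hfx] at h3
      have h4 : bJ J x x * bJ J x x = 0 := by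
        field_simp [hJ.two] at h3
        linear_combination -h3
      exact mul_self_eq_zero.1 h4
  choose v U hU hv hKv hne using hslot
  have hmem'' : tens (fun z => Ad (U z) (K z)) ∈ 𝒴 := by
    have hU' : ∀ z, (if h : z = i then 1 else U ⟨z, h⟩) ∈ OmG J := fun z => by
      by_cases h : z = i
      · rw [dif_pos h]; exact one_mem _
      · rw [dif_neg h]; exact hU _
    have h1 := hlift hmem' (hM.tensU_mem_M hU') (G := tensU U) (by
      rw [tensU_coe, tensU_coe, liftRest_tens]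
      congr 1
      funext z
      by_cases h : z = i <;> simp [h])
    rw [Ad_apply, tensU_coe, tensU_inv, tensU_coe, tens_mul_tens, tens_mul_tens] at h1
    simp only [Ad_apply]
    exact h1
  have h1 := congrArg (· *ᵥ pv v) (hcomm _ hmem'' _ hmem')
  simp only [tens_mul_tens, tens_mulVec_pv] at h1
  refine pv_ne_zero hne (h1.trans ?_)
  have h0 : (Ad (U l₀) (K l₀) * K l₀) *ᵥ v l₀ = 0 := by
    rw [← Matrix.mulVec_mulVec, hKv l₀ hl₀, Matrix.mulVec_zero]
  funext x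
  exact Finset.prod_eq_zero (Finset.mem_univ l₀) (by simp only; rw [h0]; rfl)

end CfsgLib.Classical.WreathMaxO
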