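import Cfsg.Agent.Lib.Classical.WreathMaxO.Centre

/-!
# An involution of the tensor power in `Ω` and outside the stabiliser; normalising maps
-/

set_option autoImplicit false
set_option linter.unusedSectionVars false

open Matrix Module

namespace CfsgLib.Classical.WreathMaxO

open CfsgLib.Orth CfsgLib.Classical.WreathMax
open CfsgLib.Classical.WreathMaxSp (pv tens_mulVec_pv pv_ne_zero not_two_differ)

variable {F : Type*} [Field F] [Fintype F]

section Single

variable {n : Type} [Fintype n] [DecidableEq n] {J : Matrix n n F}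

/-- An isometry mapping one non-zero singular vector to another. -/
theorem OG.exists_map_singular (hJ : OG J) {a c : n → F} (ha : a ≠ 0) (hc : c ≠ 0) (haa : bJ J a a = 0)
    (hcc : bJ J c c = 0) : ∃ C ∈ IsoG J, C.1 *ᵥ a = c := by
  obtain ⟨g, hg⟩ := exists_map_eq (nondeg_qf hJ) (good_of_two_ne hJ.two) (u := a) (w := c) ha hc
    (by rw [qf_apply, qf_apply, haa, hcc])
  refine ⟨_, ⟨g, rfl⟩, ?_⟩
  rw [← Matrix.toLin'_apply, toLin'_orthToGL]
  exact hg

theorem conj_mem_OmG_of {h : GL n F} (hh : ∀ a ∈ IsoG J, h * a * h⁻¹ ∈ IsoG J) {y : GL n F} (hy : y ∈ OmG J) :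
    h * y * h⁻¹ ∈ OmG J := by
  rw [OmG_eq] at hy ⊢
  have h1 := Subgroup.mem_map_of_mem (MulAut.conj h).toMonoidHom hy
  rw [Subgroup.map_commutator] at h1
  refine Subgroup.commutator_mono ?_ ?_ h1 <;> · rintro _ ⟨a, ha, rfl⟩; exact hh a ha

/-- Two orthogonal vectors of the same non-zero norm. -/
theorem OG.exists_two_same (hJ : OG J) (hn : 3 ≤ Fintype.card n) :
    ∃ b b', bJ J b b ≠ 0 ∧ bJ J b' b' = bJ J b b ∧ bJ J b b' = 0 := by
  have htop : finrank F (⊤ : Submodule F (n → F)) = Fintype.card n := by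
    rw [finrank_top, Module.finrank_fintype_fun_eq_card]
  obtain ⟨b, -, hbb⟩ := hJ.nd_top.exists_aniso hJ (ne_bot_of_pos (by omega))
  have d1 := finrank_inf_perp (J := J) ⊤ b
  have hS := hJ.nd_top.inf_perp (b := b) trivial hbb hJ
  obtain ⟨c₁, hc₁, hc₁0⟩ := hS.exists_aniso hJ (ne_bot_of_pos (by omega))
  have d2 := finrank_inf_perp (J := J) (⊤ ⊓ perp J b) c₁
  obtain ⟨c₂, ⟨hc₂, h12⟩, hc₂0⟩ := (hS.inf_perp hc₁ hc₁0 hJ).exists_aniso hJ (ne_bot_of_pos (by omega))
  have hb1 := mem_perp.1 hc₁.2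
  have hb2 := mem_perp.1 hc₂.2
  rw [SetLike.mem_coe, mem_perp] at h12
  obtain ⟨x, y, hxy⟩ := binary_universal hJ.two hc₁0 hc₂0 (bJ J b b)
  refine ⟨b, x • c₁ + y • c₂, hbb, ?_, by simp [hb1, hb2]⟩
  simp only [bJ_add_left, bJ_add_right, bJ_smul_left, bJ_smul_right, h12, hJ.swap c₂ c₁]
  linear_combination hxy

theorem lineP_sq {u : n → F} (h : bJ J u u ≠ 0) : lineP J u * lineP J u = lineP J u := by
  rw [lineP, Matrix.smul_mul, Matrix.mul_smul, dyad_mul, smul_smul, smul_smul, mul_assoc, inv_mul_cancel₀ h, mul_one]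

theorem adjJ_lineP (hJ : OG J) (u : n → F) : adjJ J (lineP J u) = lineP J u := by
  rw [lineP, adjJ_smul, adjJ_dyad hJ]

theorem one_sub_two_sq {X : Matrix n n F} (h : X * X = X) :
    (1 - (2 : F) • X) * (1 - (2 : F) • X) = 1 := by
  rw [Matrix.sub_mul, Matrix.one_mul, Matrix.mul_sub, Matrix.mul_one, Matrix.smul_mul, Matrix.mul_smul, h]
  module

end Single

section Tensor

variable {κ : Type} [Fintype κ] [DecidableEq κ] {k : ℕ} {J : Matrix (Fin k) (Fin k) F}

theorem mem_wreathT_one [Nonempty κ] (h : Fintype.card κ ≤ 1) (g : GL (κ → Fin k) F) : g ∈ wreathT F κ k := by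
  obtain ⟨o⟩ := ‹Nonempty κ›
  haveI : Subsingleton κ := Fintype.card_le_one_iff_subsingleton.1 h
  refine op_mem_wreathT o (A := Matrix.of fun a b => g.1 (fun _ => a) (fun _ => b)) ?_
  ext x y
  rw [op_apply, if_pos fun l hl => absurd (Subsingleton.elim l o) hl, Matrix.of_apply,
    show (fun _ : κ => x o) = x from funext fun l => by rw [Subsingleton.elim l o],
    show (fun _ : κ => y o) = y from funext fun l => by rw [Subsingleton.elim l o]]

/-- An involution in `Ω`, not in the stabiliser, commuting with everything preserving a plane of each factor. -/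
theorem exists_invol (hJ : OG J) (hk : 3 ≤ k) (hκ : 2 ≤ Fintype.card κ) {b b' : Fin k → F} (hbb : bJ J b b ≠ 0)
    (hb' : bJ J b' b' = bJ J b b) (hbb' : bJ J b b' = 0) :
    ∃ G ∈ OmG (gT κ J), G ∉ wreathT F κ k ∧ G * G = 1 ∧
      G.1 = 1 - (2 : F) • tens fun _ : κ => lineP J b + lineP J b' := by
  classical
  obtain ⟨l₀⟩ : Nonempty κ := Fintype.card_pos_iff.1 (by omega)
  set π := lineP J b + lineP J b' with hπ
  have hb'0 : bJ J b' b' ≠ 0 := hb' ▸ hbb
  have h12 := lineP_mul_zero hbb'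
  have h21 := lineP_mul_zero (J := J) (u := b') (w := b) (by rw [hJ.swap, hbb'])
  have hππ : π * π = π := by
    rw [hπ, Matrix.add_mul, Matrix.mul_add, Matrix.mul_add, lineP_sq hbb, lineP_sq hb'0, h12, h21]
    abel
  have hG := gT_og (κ := κ) hJ
  let Q : Matrix (Fin k) (Fin k) F → TMat F κ k := fun P => tens (Function.update (fun _ => π) l₀ P)
  have hQsq : ∀ P, P * P = P → Q P * Q P = Q P := fun P hP => by
    simp only [Q]
    rw [tens_mul_tens]
    congr 1
    funext z
    by_cases hz : z = l₀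
    · subst hz; simp [hP]
    · simp [hz, hππ]
  have hQadj : ∀ P, adjJ J P = P → adjJ (gT κ J) (Q P) = Q P := fun P hP => by
    simp only [Q]
    rw [adjJ_tens hJ]
    congr 1
    funext z
    by_cases hz : z = l₀
    · subst hz; simp [hP]
    · simp [hz, hπ, adjJ_add, adjJ_lineP hJ]
  let R : ∀ u : Fin k → F, bJ J u u ≠ 0 → GL (κ → Fin k) F := fun u hu =>
    ⟨1 - (2 : F) • Q (lineP J u), 1 - (2 : F) • Q (lineP J u), one_sub_two_sq (hQsq _ (lineP_sq hu)),
      one_sub_two_sq (hQsq _ (lineP_sq hu))⟩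
  have hR : ∀ u hu, R u hu ∈ IsoG (gT κ J) := fun u hu => by
    rw [mem_IsoG_iff hG]
    show adjJ (gT κ J) (1 - (2 : F) • Q (lineP J u)) * (1 - (2 : F) • Q (lineP J u)) = 1
    rw [adjJ_sub, adjJ_one hG, adjJ_smul, hQadj _ (adjJ_lineP hJ u), one_sub_two_sq (hQsq _ (lineP_sq hu))]
  obtain ⟨W, hW, hWb⟩ := hJ.exists_map hbb hb'
  have hconj : opU l₀ W * R b hbb * (opU l₀ W)⁻¹ = R b' hb'0 := by
    refine Units.ext ?_
    rw [Units.val_mul, Units.val_mul]
    show (opU l₀ W).1 * (1 - (2 : F) • Q (lineP J b)) * (opU l₀ W)⁻¹.1 = 1 - (2 : F) • Q (lineP J b')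
    rw [← Ad_apply, map_sub, map_smul, Ad_apply, Matrix.mul_one, ← Units.val_mul, mul_inv_cancel, Units.val_one,
      Ad_apply, opU_coe, opU_inv_coe]
    congr 2
    simp only [Q]
    rw [op_mul_tens, tens_mul_op, Function.update_idem, Function.update_self, Function.update_idem]
    congr 2
    rw [Function.update_self, lineP, lineP, Matrix.mul_smul, Matrix.smul_mul, conj_dyad hJ hW, hWb, hb']
  have hprod : (R b hbb * R b' hb'0).1 = 1 - (2 : F) • tens fun _ : κ => π := by
    show (1 - (2 : F) • Q (lineP J b)) * (1 - (2 : F) • Q (lineP J b')) = _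
    have hz : Q (lineP J b) * Q (lineP J b') = 0 := by
      simp only [Q]
      rw [tens_mul_tens]
      ext x y
      exact Finset.prod_eq_zero (Finset.mem_univ l₀) (by simp [h12])
    have hsum : Q (lineP J b) + Q (lineP J b') = tens fun _ : κ => π := by
      rw [show (fun _ : κ => π) = Function.update (fun _ => π) l₀ π from (Function.update_eq_self l₀ _).symm]
      ext x y
      simp only [Q, Matrix.add_apply, tens_update_apply]
      rw [← add_mul, ← Matrix.add_apply]
    rw [Matrix.sub_mul, Matrix.one_mul, Matrix.mul_sub, Matrix.mul_one, Matrix.smul_mul, Matrix.mul_smul, hz,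
      smul_zero, smul_zero, sub_zero, ← hsum, smul_add]
    abel
  refine ⟨R b hbb * R b' hb'0, ?_, fun hT => ?_, Units.ext ?_, hprod⟩
  · rw [← hconj]
    exact mul_conj_mem_OmG hG (hR b hbb) (opU_mem_IsoG hJ l₀ hW)
  · obtain ⟨h, ⟨⟨-, hb⟩, hb''⟩, hh⟩ : ∃ h ∈ (⊤ : Submodule F (Fin k → F)) ⊓ perp J b ⊓ perp J b', bJ J h h ≠ 0 := by
      have d1 := finrank_inf_perp (J := J) ⊤ b
      have d2 := finrank_inf_perp (J := J) (⊤ ⊓ perp J b) b'
      rw [finrank_top, Module.finrank_fintype_fun_eq_card, Fintype.card_fin] at d1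
      exact ((hJ.nd_top.inf_perp (b := b) trivial hbb hJ).inf_perp ⟨trivial, mem_perp.2 hbb'⟩ hb'0 hJ).exists_aniso hJ
        (ne_bot_of_pos (by omega))
    rw [SetLike.mem_coe, mem_perp] at hb hb''
    have hπu : π *ᵥ (b + h) = b := by
      rw [hπ, Matrix.add_mulVec, lineP, lineP, Matrix.smul_mulVec, Matrix.smul_mulVec, dyad_mulVec, dyad_mulVec,
        bJ_add_right, bJ_add_right, hb, hb'', hJ.swap b' b, hbb', add_zero, add_zero, zero_smul, smul_zero, add_zero,
        smul_smul, inv_mul_cancel₀ hbb, one_smul]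
    have hnm : b + h ∉ F ∙ b := fun hm => by
      obtain ⟨c, hc⟩ := Submodule.mem_span_singleton.1 hm
      have h1 := congrArg (bJ J h) hc
      rw [bJ_smul_right, bJ_add_right, hJ.swap h b, hb, mul_zero, zero_add] at h1
      exact hh h1.symm
    have hb0 : b ≠ 0 := fun e0 => hbb (by rw [e0, bJ_zero_left])
    obtain ⟨σ, C, hC⟩ := hT
    have he := wr_pv hC (fun _ => b + h)
    rw [hprod, Matrix.sub_mulVec, Matrix.one_mulVec, Matrix.smul_mulVec, tens_mulVec_pv, hπu] at he
    obtain ⟨z₁, z₂, hz⟩ := Fintype.one_lt_card_iff.1 (by omega : 1 < Fintype.card κ)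
    exact not_two_differ one_ne_zero (neg_ne_zero.2 hJ.two) (u := fun _ => b + h) (u' := fun _ => b)
      (by rw [one_smul, neg_smul, ← sub_eq_add_neg]; exact he)
      (fun _ e0 => hnm (by rw [e0]; exact Submodule.zero_mem _)) (fun _ => hb0) hz hnm hnm
  · rw [Units.val_mul, hprod, Units.val_one]
    exact one_sub_two_sq (by rw [tens_mul_tens]; congr 1; funext _; exact hππ)

end Tensor

end CfsgLib.Classical.WreathMaxO
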