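import Cfsg.Agent.Lib.Classical.WreathMaxO.Climb

/-!
# A pure element and the groups on the other factors generate `Ω`; the dichotomy
-/

set_option autoImplicit false
set_option linter.unusedSectionVars false

open Matrix Module QuadraticMap
open scoped Kronecker

namespace CfsgLib.Classical.WreathMaxO

open CfsgLib.Orth CfsgLib.Classical CfsgLib.Classical.WreathMax
open CfsgLib.Classical.WreathMaxSp (pv tens_mulVec_pv permM_mulVec_pv pv_ne_zero)

variable {F : Type*} [Field F] [Fintype F] {κ : Type} [Fintype κ] [DecidableEq κ] {k : ℕ}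
  {J : Matrix (Fin k) (Fin k) F} {M : Subgroup (GL (κ → Fin k) F)}

/-- An isometry commuting with the maps of one factor is one of the others. -/
theorem exists_liftRest_iso (hJ : OG J) (hk : 0 < k) (i : κ) {g : GL (κ → Fin k) F} (hg : g ∈ IsoG (gT κ J))
    (h : ∀ A, op i A * g.1 = g.1 * op i A) :
    g ∈ (IsoG (gT (Rest i) J)).map (Units.map (liftRest (F := F) (m := k) i)) := by
  obtain ⟨W, hW⟩ := eq_liftRest_of_comm hk i h
  have hWiso : adjJ (gT (Rest i) J) W * W = 1 := liftRest_injective hk i (by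
    rw [map_mul, ← adjJ_liftRest hJ, ← hW, map_one]
    exact (mem_IsoG_iff (gT_og hJ)).1 hg)
  exact ⟨⟨W, adjJ (gT (Rest i) J) W, mul_eq_one_comm.1 hWiso, hWiso⟩, (mem_IsoG_iff (gT_og hJ)).2 hWiso,
    Units.ext hW.symm⟩

theorem pv_eq_sl (i : κ) (u : κ → Fin k → F) : pv u = sl i (u i) (pv fun l : Rest i => u l) := by
  funext z
  show (∏ l, u l (z l)) = u i (z i) * ∏ l : Rest i, u l (z l)
  rw [← Finset.mul_prod_erase Finset.univ _ (Finset.mem_univ i)]
  congr 1
  exact Finset.prod_subtype (Finset.univ.erase i) (fun x => by simp) fun l => u l (z l)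

/-- A matrix as a vector of the tensor power, split at one factor. -/
def matEquiv (m : κ) {b : ℕ} (ε : Fin b ≃ (Rest m → Fin k)) :
    Matrix (Fin k) (Fin b) F ≃ₗ[F] ((κ → Fin k) → F) where
  toFun X z := X (Equiv.funSplitAt m (Fin k) z).1 (ε.symm (Equiv.funSplitAt m (Fin k) z).2)
  invFun v := Matrix.of fun a c => v ((Equiv.funSplitAt m (Fin k)).symm (a, ε c))
  map_add' X Y := rfl
  map_smul' c X := rfl
  left_inv X := by
    ext a c
    simp only [Matrix.of_apply, Equiv.apply_symm_apply, Equiv.symm_apply_apply]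
  right_inv v := by
    funext z
    simp only [Matrix.of_apply, Equiv.apply_symm_apply, Prod.mk.eta, Equiv.symm_apply_apply]

theorem matEquiv_vecMulVec (m : κ) {b : ℕ} (ε : Fin b ≃ (Rest m → Fin k)) (u : Fin k → F) (w : Fin b → F) :
    matEquiv m ε (vecMulVec u w) = sl m u (w ∘ ε.symm) := rfl

theorem bJ_submatrix {n n' : Type} [Fintype n] [DecidableEq n] [Fintype n'] [DecidableEq n'] (K : Matrix n n F)
    (ε : n' ≃ n) (u v : n' → F) :
    bJ (K.submatrix ε ε) u v = bJ K (u ∘ ε.symm) (v ∘ ε.symm) := by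
  rw [bJ, bJ, Matrix.submatrix_mulVec_equiv]
  simp only [dotProduct, Function.comp_apply]
  exact Fintype.sum_equiv ε _ _ fun a => by simp

/-- A pure element and the groups on the other factors generate `Ω`. -/
theorem Over.omega_of_pure (hM : Over J M) (h2 : 2 ≤ Fintype.card κ) (h : PureM J M)
    (hrest : ∀ i, OmG (gT (Rest i) J) ≤ restG i M) : OmG (gT κ J) ≤ M := by
  classical
  have hJ := hM.og
  have hk := hM.good.three
  obtain ⟨u, m, a, hu, hea, haa, c₀, hc₀, hW⟩ := h
  haveI : Nonempty (Rest m) := by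
    obtain ⟨l, hl⟩ := Fintype.exists_ne_of_one_lt_card (by omega : 1 < Fintype.card κ) m
    exact ⟨⟨l, hl⟩⟩
  obtain ⟨o⟩ := ‹Nonempty (Rest m)›
  set b := Fintype.card (Rest m → Fin k) with hb
  have hb3 : 3 ≤ b := by
    rw [hb, Fintype.card_fun, Fintype.card_fin]
    exact hk.trans (Nat.le_self_pow (Fintype.card_pos (α := Rest m)).ne' k)
  set ε : Fin b ≃ (Rest m → Fin k) := (Fintype.equivFin _).symm
  set K := (gT (Rest m) J).submatrix ε ε with hKdef
  have hK : OG K := ⟨hJ.two, by rw [hKdef, Matrix.transpose_submatrix, (gT_og hJ).symm],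
    by rw [hKdef, Matrix.det_submatrix_equiv_self]; exact (gT_og hJ).unit⟩
  set Φ := matEquiv (F := F) m ε with hΦ
  have hΦv : ∀ (x : Fin k → F) (w : (Rest m → Fin k) → F), sl m x w = Φ (vecMulVec x (w ∘ ε)) := fun x w => by
    rw [hΦ, matEquiv_vecMulVec]
    congr 1
    funext r
    simp
  set Q : QuadraticForm F (Matrix (Fin k) (Fin b) F) := (qf (gT κ J)).comp Φ.toLinearMap with hQ
  have hQv : ∀ X, qf (gT κ J) (Φ X) = Q X := fun X => rfl
  have hpolQ : ∀ X Y, polar Q X Y = bJ (gT κ J) (Φ X) (Φ Y) := fun X Y => by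
    rw [← polar_qf (gT_og hJ)]
    simp only [QuadraticMap.polar, ← map_add, hQv]
  have hm : TensorMaxO.Model Q (qf J) (qf K) :=
    { two := hJ.two
      ndf := nondeg_qf hJ
      ndh := nondeg_qf hK
      pol := fun x y w w' => by
        rw [hpolQ, hΦ, matEquiv_vecMulVec, matEquiv_vecMulVec, bJ_sl_sl hJ, polar_qf hJ, polar_qf hK, hKdef,
          bJ_submatrix] }
  set D : orthGroup Q ≃* orthGroup (qf (gT κ J)) := orthGroupCongr Φ hQv
  set ψ₀ : orthGroup (qf (gT κ J)) →* GL (κ → Fin k) F := orthToGL (qf (gT κ J)) fun _ => rfl with hψ₀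
  set ψ : orthGroup Q →* GL (κ → Fin k) F := ψ₀.comp D.toMonoidHom with hψ
  have hψv : ∀ o X, (ψ o).1 *ᵥ Φ X = Φ (o.1 X) := fun o X => by
    rw [← Matrix.toLin'_apply, hψ, MonoidHom.comp_apply, hψ₀, toLin'_orthToGL]
    show Φ (o.1 (Φ.symm (Φ X))) = _
    rw [Φ.symm_apply_apply]
  set Mo : Subgroup (orthGroup Q) := M.comap ψ with hMo
  -- the factor `m`
  have hcol : ∀ A : orthGroup (qf J), ψ (hm.col A) = opU m (orthToGL (qf J) (fun _ => rfl) A) := fun A => by
    refine Units.ext (ext_sl m fun x w => ?_)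
    rw [opU_coe, op_sl, hΦv, hψv, hm.col_pure, hΦv]
    congr 3
    rw [← Matrix.toLin'_apply, toLin'_orthToGL]
    rfl
  -- the other factors
  have hrow : ∀ C : orthGroup (qf K),
      ψ (hm.row C) ∈ (IsoG (gT (Rest m) J)).map (Units.map (liftRest (F := F) (m := k) m)) := fun C => by
    refine exists_liftRest_iso hJ (by omega) m ⟨D (hm.row C), rfl⟩ fun A => ext_sl m fun x w => ?_
    rw [← Matrix.mulVec_mulVec, ← Matrix.mulVec_mulVec, op_sl, hΦv x w, hψv, hm.row_pure, hΦv (A *ᵥ x) w, hψv,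
      hm.row_pure, hΦ, matEquiv_vecMulVec, matEquiv_vecMulVec, op_sl]
  have hF : TensorMaxO.ContainsFactors hm Mo := by
    refine ⟨fun C hC => ?_, fun A hA => ?_⟩
    · have h1 : ((⊤ : Subgroup (orthGroup (qf K))).map hm.row).map ψ ≤
          (IsoG (gT (Rest m) J)).map (Units.map (liftRest (F := F) (m := k) m)) := by
        rintro _ ⟨_, ⟨C', -, rfl⟩, rfl⟩
        exact hrow C'
      have h2 := Subgroup.mem_map_of_mem ψ (Subgroup.mem_map_of_mem hm.row hC)
      rw [commutator_def, Subgroup.map_commutator, Subgroup.map_commutator] at h2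
      have h3 := Subgroup.commutator_mono h1 h1 h2
      rw [← Subgroup.map_commutator, ← OmG_eq] at h3
      obtain ⟨Y, hY, eY⟩ := h3
      refine Subgroup.mem_comap.2 ?_
      rw [← eY]
      exact Subgroup.mem_comap.1 (hrest m hY)
    · refine Subgroup.mem_comap.2 ?_
      rw [hcol]
      exact hM.opU_mem m (Subgroup.mem_map_of_mem _ hA)
  -- the start
  set w₀ : (Rest m → Fin k) → F := pv fun l => u l with hw₀
  have hw₀' : bJ (gT (Rest m) J) w₀ w₀ = 0 := bJ_pv_zero o (hu o).2
  have hPu : pv u = Φ (vecMulVec (u m) (w₀ ∘ ε)) := by rw [← hΦv, hw₀, ← pv_eq_sl]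
  have hPa : pv (Function.update u m a) = Φ (vecMulVec a (w₀ ∘ ε)) := by
    rw [← hΦv, hw₀, pv_eq_sl m, Function.update_self]
    congr 2
    funext l
    rw [Function.update_of_ne l.2]
  have hs : TensorMaxO.Start Mo (qf J) (qf K) := by
    refine ⟨u m, (-c₀) • a, w₀ ∘ ε, (hu m).1, (qf_eq_zero hJ).2 (hu m).2, ?_, ?_, ?_, ?_, fun g hg => ?_⟩
    · rw [polar_qf hJ, bJ_smul_right, hea, mul_zero]
    · rw [Ne, qf_eq_zero hJ, bJ_smul_left, bJ_smul_right]
      exact mul_ne_zero (neg_ne_zero.2 hc₀) (mul_ne_zero (neg_ne_zero.2 hc₀) haa)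
    · intro h0
      refine pv_ne_zero (u := fun l : Rest m => u l) (fun l => (hu l).1) (funext fun r => ?_)
      simpa [hw₀] using congrFun h0 (ε.symm r)
    · rw [qf_eq_zero hK, hKdef, bJ_submatrix]
      simpa [Function.comp_assoc] using hw₀'
    · obtain ⟨z, hz, ez⟩ := hW
      refine Subgroup.mem_comap.2 ?_
      have hqu : Q (vecMulVec ((-c₀) • a) (w₀ ∘ ε)) = 0 := hm.pure_singular _ (by
        rw [qf_eq_zero hK, hKdef, bJ_submatrix]
        simpa [Function.comp_assoc] using hw₀')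
      have hd : Φ (vecMulVec ((-c₀) • a) (w₀ ∘ ε)) = (-c₀) • pv (Function.update u m a) := by
        rw [hPa, smul_vecMulVec, map_smul]
      have : ψ g = z := by
        refine Units.ext (Matrix.ext_iff_mulVec.2 fun v => ?_)
        obtain ⟨X, rfl⟩ := Φ.surjective v
        rw [hψv, hg.2.2, hqu, zero_mul, sub_zero, map_add, map_add, map_smul, map_smul, hpolQ, hpolQ, hd, ← hPu,
          bJ_smul_left, ez, Matrix.add_mulVec, Matrix.one_mulVec, Matrix.smul_mulVec, nP_mulVec]
        module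
      rw [this]
      exact hz
  have hn : 5 ≤ finrank F (Matrix (Fin k) (Fin b) F) := by
    simp only [Module.finrank_matrix, finrank_self, mul_one, Fintype.card_fin]
    exact le_trans (show 5 ≤ 3 * 3 by norm_num) (Nat.mul_le_mul hk hb3)
  have hle := TensorMaxO.Model.omega_le hF hk hb3 hn hs
  rintro _ ⟨g, hg, rfl⟩
  have h1 := hle (TensorMaxO.map_mem_commutator D.symm.toMonoidHom hg)
  rw [hMo, Subgroup.mem_comap, hψ, MonoidHom.comp_apply] at h1
  simpa using h1

/-- A similitude conjugating the stabiliser into an overgroup is in the stabiliser, unless it contains `Ω`. -/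
theorem mem_or_le (hG : GoodF J) : ∀ (n : ℕ) (κ : Type) [Fintype κ] [DecidableEq κ] [Nonempty κ],
    Fintype.card κ = n → ∀ (M : Subgroup (GL (κ → Fin k) F)), Over J M → ∀ g, SimG J g → ConjIn J M g →
      g ∈ wreathT F κ k ∨ OmG (gT κ J) ≤ M := by
  intro n
  induction n using Nat.strong_induction_on with
  | _ n ih =>
    intro κ _ _ _ hn M hM g hg hgC
    classical
    by_cases hgT : g ∈ wreathT F κ k
    · exact Or.inl hgT
    have h2 : 2 ≤ Fintype.card κ := by
      by_contra hlt
      exact hgT (mem_wreathT_one (by omega) g)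
    have hne : ∀ i : κ, Nonempty (Rest i) := fun i => by
      obtain ⟨l, hl⟩ := Fintype.exists_ne_of_one_lt_card (by omega : 1 < Fintype.card κ) i
      exact ⟨⟨l, hl⟩⟩
    have hcard : ∀ i : κ, Fintype.card (Rest i) = n - 1 := fun i => by
      rw [Fintype.card_subtype_compl, Fintype.card_subtype_eq, hn]
    have IH : ∀ (i : κ) (M' : Subgroup (GL (Rest i → Fin k) F)), Over J M' → ∀ g, SimG J g → ConjIn J M' g →
        g ∈ wreathT F (Rest i) k ∨ OmG (gT (Rest i) J) ≤ M' := fun i => by
      haveI := hne i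
      exact ih (n - 1) (by omega) (Rest i) (hcard i)
    obtain ⟨g', hg', hgC', hgT', hs⟩ := exists_slice_or hM hg hgC hgT
    have hcase := hM.levi_cases IH hg' hgC' hgT' hs
    right
    suffices H : PureM J M ∧ ∀ i, OmG (gT (Rest i) J) ≤ restG i M from hM.omega_of_pure h2 H.1 H.2
    by_cases h3 : 3 ≤ Fintype.card κ
    · have hbig : RestBig M := hcase.elim id (hM.restBig_of_pure h3)
      obtain ⟨i, hi⟩ := hbig
      obtain ⟨y, hy, hyT⟩ : ∃ y ∈ restG i M, y ∉ wreathT F (Rest i) k := by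
        by_contra! hall
        exact hi hall
      have hMi := hM.restG_over i
      have hΩ := (IH i _ hMi y (hMi.simG_of_mem hy) (hMi.conjIn_of_mem hy)).resolve_left hyT
      have hall := hM.omega_rest_spread h3 hΩ
      exact ⟨hM.pure_of_rest h3 hall, hall⟩
    · have hT : ∀ (i : κ) (y : GL (Rest i → Fin k) F), y ∈ wreathT F (Rest i) k := fun i y => by
        haveI := hne i
        exact mem_wreathT_one (by rw [hcard i]; omega) y
      refine ⟨hcase.resolve_left fun ⟨i, hi⟩ => hi fun y _ => hT i y, fun i y hy => ?_⟩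
      exact (hM.restG_over i).ge ⟨hT i y, hy⟩

end CfsgLib.Classical.WreathMaxO
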