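import Cfsg.Agent.Lib.Classical.TensorMaxO.Forms
import Cfsg.Agent.Lib.Classical.OrthMaxBasic
import Cfsg.Agent.Lib.Orth.Omega

/-!
# A symmetric Gram matrix in odd characteristic, its isometry group and the commutator subgroup
-/

set_option autoImplicit false
set_option linter.unusedSectionVars false

open Matrix Module QuadraticMap

namespace CfsgLib.Classical.WreathMaxO

open CfsgLib.Orth

variable {F : Type*} [Field F] {n : Type} [Fintype n] [DecidableEq n] {J : Matrix n n F}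

/-- A symmetric invertible Gram matrix, `2` invertible. -/
structure OG (J : Matrix n n F) : Prop where
  two : (2 : F) ≠ 0
  symm : Jᵀ = J
  unit : IsUnit J.det

/-- The bilinear form. -/
def bJ (J : Matrix n n F) (u v : n → F) : F := u ⬝ᵥ J *ᵥ v

/-- The functional `bJ J u`. -/
def bt (J : Matrix n n F) (u : n → F) : n → F := u ᵥ* J

theorem bt_dot (u v : n → F) : bt J u ⬝ᵥ v = bJ J u v := (dotProduct_mulVec u J v).symm

@[simp] theorem bJ_add_left (u u' v : n → F) : bJ J (u + u') v = bJ J u v + bJ J u' v := add_dotProduct ..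

@[simp] theorem bJ_add_right (u v v' : n → F) : bJ J u (v + v') = bJ J u v + bJ J u v' := by
  simp [bJ, Matrix.mulVec_add]

@[simp] theorem bJ_sub_left (u u' v : n → F) : bJ J (u - u') v = bJ J u v - bJ J u' v := sub_dotProduct ..

@[simp] theorem bJ_sub_right (u v v' : n → F) : bJ J u (v - v') = bJ J u v - bJ J u v' := by
  simp [bJ, Matrix.mulVec_sub]

@[simp] theorem bJ_smul_left (c : F) (u v : n → F) : bJ J (c • u) v = c * bJ J u v := smul_dotProduct ..

@[simp] theorem bJ_smul_right (c : F) (u v : n → F) : bJ J u (c • v) = c * bJ J u v := by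
  simp [bJ, Matrix.mulVec_smul]

@[simp] theorem bJ_neg_left (u v : n → F) : bJ J (-u) v = -bJ J u v := neg_dotProduct ..

@[simp] theorem bJ_neg_right (u v : n → F) : bJ J u (-v) = -bJ J u v := by simp [bJ, Matrix.mulVec_neg]

@[simp] theorem bJ_zero_left (v : n → F) : bJ J 0 v = 0 := zero_dotProduct _

@[simp] theorem bJ_zero_right (u : n → F) : bJ J u 0 = 0 := by simp [bJ]

theorem OG.swap (hJ : OG J) (u v : n → F) : bJ J u v = bJ J v u := by
  rw [bJ, bJ, dotProduct_mulVec, dotProduct_comm, ← Matrix.mulVec_transpose, hJ.symm]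

/-- The quadratic form with polar form `bJ J`. -/
noncomputable def qf (J : Matrix n n F) : QuadraticForm F (n → F) :=
  LinearMap.BilinMap.toQuadraticMap ((2 : F)⁻¹ • Matrix.toBilin' J)

theorem polar_qf (hJ : OG J) (u v : n → F) : polar (qf J) u v = bJ J u v := by
  rw [qf, LinearMap.BilinMap.polar_toQuadraticMap]
  simp only [LinearMap.smul_apply, smul_eq_mul, Matrix.toBilin'_apply']
  rw [show u ⬝ᵥ J *ᵥ v = bJ J u v from rfl, show v ⬝ᵥ J *ᵥ u = bJ J v u from rfl, hJ.swap v u, ← two_mul,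
    ← mul_assoc, mul_inv_cancel₀ hJ.two, one_mul]

theorem qf_apply (u : n → F) : qf J u = (2 : F)⁻¹ * bJ J u u := by
  simp [qf, Matrix.toBilin'_apply', bJ]

theorem qf_eq_zero (hJ : OG J) {u : n → F} : qf J u = 0 ↔ bJ J u u = 0 := by
  rw [qf_apply, mul_eq_zero, or_iff_right (inv_ne_zero hJ.two)]

theorem OG.eq_zero (hJ : OG J) {u : n → F} (h : ∀ v, bJ J u v = 0) : u = 0 := by
  have h1 : u ᵥ* J = 0 := funext fun a => by
    have := h (Pi.single a 1)
    rwa [← bt_dot, dotProduct_single, mul_one] at this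
  exact Matrix.eq_zero_of_vecMul_eq_zero hJ.unit.ne_zero h1

theorem OG.ext (hJ : OG J) {u u' : n → F} (h : ∀ v, bJ J v u = bJ J v u') : u = u' :=
  sub_eq_zero.1 (hJ.eq_zero fun v => by rw [hJ.swap, bJ_sub_right, h, sub_self])

theorem nondeg_qf (hJ : OG J) : (polarBilin (qf J)).Nondegenerate :=
  nondegenerate_of_left fun u hu => hJ.eq_zero fun v => by
    rw [← polar_qf hJ]
    exact hu v

/-! ### Adjoints -/

/-- The adjoint. -/
noncomputable def adjJ (J X : Matrix n n F) : Matrix n n F := J⁻¹ * Xᵀ * J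

theorem adjJ_mul (hJ : OG J) (X Y : Matrix n n F) : adjJ J (X * Y) = adjJ J Y * adjJ J X := by
  simp only [adjJ, transpose_mul, Matrix.mul_assoc]
  rw [← Matrix.mul_assoc J J⁻¹, Matrix.mul_nonsing_inv J hJ.unit, Matrix.one_mul]

theorem adjJ_one (hJ : OG J) : adjJ J (1 : Matrix n n F) = 1 := by
  rw [adjJ, transpose_one, Matrix.mul_one, Matrix.nonsing_inv_mul J hJ.unit]

theorem adjJ_add (X Y : Matrix n n F) : adjJ J (X + Y) = adjJ J X + adjJ J Y := by
  simp [adjJ, Matrix.mul_add, Matrix.add_mul]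

theorem adjJ_sub (X Y : Matrix n n F) : adjJ J (X - Y) = adjJ J X - adjJ J Y := by
  simp [adjJ, Matrix.mul_sub, Matrix.sub_mul]

theorem adjJ_neg (X : Matrix n n F) : adjJ J (-X) = -adjJ J X := by simp [adjJ]

theorem adjJ_smul (c : F) (X : Matrix n n F) : adjJ J (c • X) = c • adjJ J X := by simp [adjJ]

theorem adjJ_zero : adjJ J (0 : Matrix n n F) = 0 := by simp [adjJ]

theorem adjJ_adjJ (hJ : OG J) (X : Matrix n n F) : adjJ J (adjJ J X) = X := by
  simp only [adjJ, transpose_mul, transpose_transpose, Matrix.transpose_nonsing_inv, hJ.symm, Matrix.mul_assoc]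
  rw [Matrix.nonsing_inv_mul J hJ.unit, Matrix.mul_one, ← Matrix.mul_assoc, Matrix.nonsing_inv_mul J hJ.unit,
    Matrix.one_mul]

theorem bJ_mulVec (hJ : OG J) (X : Matrix n n F) (u v : n → F) :
    bJ J (X *ᵥ u) v = bJ J u (adjJ J X *ᵥ v) := by
  rw [bJ, bJ, adjJ, Matrix.mulVec_mulVec, ← Matrix.mul_assoc, ← Matrix.mul_assoc, Matrix.mul_nonsing_inv J hJ.unit,
    Matrix.one_mul, ← vecMul_transpose, ← dotProduct_mulVec, Matrix.mulVec_mulVec]

/-- The rank one map `x ↦ B(v, x) u`. -/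
def dyad (J : Matrix n n F) (u v : n → F) : Matrix n n F := vecMulVec u (bt J v)

theorem dyad_mulVec (u v x : n → F) : dyad J u v *ᵥ x = bJ J v x • u := by
  rw [dyad, vecMulVec_mulVec, bt_dot, op_smul_eq_smul]

theorem dyad_mul (u v u' v' : n → F) : dyad J u v * dyad J u' v' = bJ J v u' • dyad J u v' := by
  rw [dyad, dyad, dyad, vecMulVec_mul_vecMulVec, bt_dot, vecMulVec_smul]

theorem adjJ_dyad (hJ : OG J) (u v : n → F) : adjJ J (dyad J u v) = dyad J v u := by
  rw [dyad, dyad, adjJ, transpose_vecMulVec, mul_vecMulVec, vecMulVec_mul, bt, bt,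
    show J⁻¹ *ᵥ (v ᵥ* J) = v by
      rw [← Matrix.mulVec_transpose, hJ.symm, Matrix.mulVec_mulVec, Matrix.nonsing_inv_mul J hJ.unit,
        Matrix.one_mulVec]]

theorem dyad_add_left (u u' v : n → F) : dyad J (u + u') v = dyad J u v + dyad J u' v := add_vecMulVec ..

theorem dyad_add_right (u v v' : n → F) : dyad J u (v + v') = dyad J u v + dyad J u v' := by
  rw [dyad, bt, add_vecMul, vecMulVec_add]; rfl

theorem dyad_smul_left (c : F) (u v : n → F) : dyad J (c • u) v = c • dyad J u v := smul_vecMulVec ..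

theorem dyad_smul_right (c : F) (u v : n → F) : dyad J u (c • v) = c • dyad J u v := by
  rw [dyad, bt, smul_vecMul, vecMulVec_smul]; rfl

theorem dyad_eq_zero (hJ : OG J) {u v : n → F} (h : dyad J u v = 0) (hv : v ≠ 0) : u = 0 := by
  obtain ⟨x, hx⟩ : ∃ x, bJ J v x ≠ 0 := by
    by_contra! hall
    exact hv (hJ.eq_zero hall)
  have := congrArg (· *ᵥ x) h
  simp only [dyad_mulVec, zero_mulVec] at this
  exact (smul_eq_zero.1 this).resolve_left hx

/-! ### The groups -/

/-- The isometries. -/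
noncomputable def IsoG (J : Matrix n n F) : Subgroup (GL n F) := (orthToGL (qf J) fun _ => rfl).range

/-- The commutator subgroup of the isometries. -/
noncomputable def OmG (J : Matrix n n F) : Subgroup (GL n F) :=
  (commutator (orthGroup (qf J))).map (orthToGL (qf J) fun _ => rfl)

theorem OmG_le : OmG J ≤ IsoG J := Subgroup.map_le_range _ _

theorem OmG_eq : OmG J = ⁅IsoG J, IsoG J⁆ := by
  rw [OmG, commutator_def, Subgroup.map_commutator, ← MonoidHom.range_eq_map]
  rfl

theorem mem_IsoG_iff_bJ (hJ : OG J) {g : GL n F} :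
    g ∈ IsoG J ↔ ∀ u v, bJ J (g.1 *ᵥ u) (g.1 *ᵥ v) = bJ J u v := by
  constructor
  · rintro ⟨x, rfl⟩ u v
    have e : ∀ w, (orthToGL (qf J) (fun _ => rfl) x).1 *ᵥ w = x.1 w := fun w => by
      rw [← Matrix.toLin'_apply, toLin'_orthToGL]; rfl
    rw [e, e, ← polar_qf hJ, ← polar_qf hJ, polar_isom]
  · intro h
    let L : (n → F) ≃ₗ[F] (n → F) := LinearMap.GeneralLinearGroup.toLinearEquiv (Matrix.GeneralLinearGroup.toLin g)
    have hL : ∀ w, L w = g.1 *ᵥ w := fun w => rfl
    have hm : L ∈ orthGroup (qf J) := fun v => by rw [hL, qf_apply, qf_apply, h]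
    refine ⟨⟨L, hm⟩, Units.ext (Matrix.ext_iff_mulVec.2 fun w => ?_)⟩
    rw [← Matrix.toLin'_apply, toLin'_orthToGL]
    exact hL w

theorem mem_IsoG_iff (hJ : OG J) {g : GL n F} : g ∈ IsoG J ↔ adjJ J g.1 * g.1 = 1 := by
  rw [mem_IsoG_iff_bJ hJ]
  refine ⟨fun h => Matrix.ext_iff_mulVec.2 fun v => hJ.ext fun u => ?_, fun h u v => ?_⟩
  · rw [one_mulVec, ← Matrix.mulVec_mulVec, ← bJ_mulVec hJ, h]
  · rw [bJ_mulVec hJ, Matrix.mulVec_mulVec, h, one_mulVec]

theorem IsoG.inv_val (hJ : OG J) {g : GL n F} (hg : g ∈ IsoG J) : g⁻¹.1 = adjJ J g.1 := by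
  have e := (mem_IsoG_iff hJ).1 hg
  calc g⁻¹.1 = adjJ J g.1 * g.1 * g⁻¹.1 := by rw [e, Matrix.one_mul]
    _ = adjJ J g.1 := by rw [Matrix.mul_assoc, ← Units.val_mul, mul_inv_cancel, Units.val_one, Matrix.mul_one]

variable [Fintype F]

/-- The class of an isometry. -/
theorem sq_mem_OmG (hJ : OG J) {g : GL n F} (hg : g ∈ IsoG J) : g * g ∈ OmG J := by
  obtain ⟨x, rfl⟩ := hg
  rw [← map_mul]
  refine Subgroup.mem_map_of_mem _ ?_
  rw [Orth.mem_commutator_iff, map_mul, ab_sq (nondeg_qf hJ) (good_of_two_ne hJ.two)]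

/-- A product of an isometry and a conjugate of it under an isometry. -/
theorem mul_conj_mem_OmG (hJ : OG J) {g h : GL n F} (hg : g ∈ IsoG J) (hh : h ∈ IsoG J) :
    g * (h * g * h⁻¹) ∈ OmG J := by
  have e : g * (h * g * h⁻¹) = g * g * (g⁻¹ * h * g * h⁻¹) := by group
  rw [e]
  refine mul_mem (sq_mem_OmG hJ hg) ?_
  rw [OmG_eq]
  have := Subgroup.commutator_mem_commutator (inv_mem hg) hh
  rwa [commutatorElement_def, inv_inv] at this

end CfsgLib.Classical.WreathMaxO
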