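import Cfsg.Agent.Lib.Classical.WreathMaxO.Norms

/-!
# Without fusion: the difference of the relative trace and the trace kills the roots of a factor
-/

set_option autoImplicit false
set_option linter.unusedSectionVars false
set_option maxHeartbeats 1000000

open Matrix Module
open scoped Kronecker

namespace CfsgLib.Classical.WreathMaxO

open CfsgLib.Classical.WreathMax

variable {F : Type*} [Field F] [Fintype F] {κ : Type} [Fintype κ] [DecidableEq κ] {k : ℕ}
  {J : Matrix (Fin k) (Fin k) F} {M : Subgroup (GL (κ → Fin k) F)}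

/-- No conjugate of a root group of a factor under an element outside the stabiliser is inside it. -/
def NF (M : Subgroup (GL (κ → Fin k) F)) (hJ : OG J) : Prop :=
  ∀ g ∈ M, g ∉ wreathT F κ k → ∀ (i : κ) (e b : Fin k → F) (h : Root J e b),
    (5 ≤ k → bJ J b b = 0) → ∃ s : F, g * opU i (uG hJ h s) * g⁻¹ ∉ wreathT F κ k

theorem ptrSum_equiv (M : Subgroup (GL (κ → Fin k) F)) :
    ∀ h ∈ M, h ∈ wreathT F κ k → ∀ Y, ptrSum (Ad h Y) = Ad h (ptrSum Y) :=
  fun h _ hT Y => by rw [Ad_apply, Ad_apply, ptrSum_conj hT]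

/-- The relative trace less the trace. -/
noncomputable def Dmap (M : Subgroup (GL (κ → Fin k) F)) : TMat F κ k →ₗ[F] TMat F κ k :=
  relTr M (wreathT F κ k) ptrSum (ptrSum_equiv M) - ptrSum

theorem Dmap_Ad {a : GL (κ → Fin k) F} (haM : a ∈ M) (haT : a ∈ wreathT F κ k) (Y : TMat F κ k) :
    Dmap M (Ad a Y) = Ad a (Dmap M Y) := by
  rw [Dmap, LinearMap.sub_apply, LinearMap.sub_apply, relTr_Ad _ haM, ptrSum_equiv M a haM haT, map_sub]

theorem Dmap_trace (Y Z : TMat F κ k) : (Dmap M Y * Z).trace = (Y * Dmap M Z).trace := by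
  simp only [Dmap, LinearMap.sub_apply, Matrix.sub_mul, Matrix.mul_sub, Matrix.trace_sub,
    trace_relTr_mul _ trace_ptrSum_mul, trace_ptrSum_mul]

/-- A root group of a factor, as a homomorphism to `M`. -/
noncomputable def Over.lineHom (hM : Over J M) (i : κ) {e b : Fin k → F} (h : Root J e b) : Multiplicative F →* M where
  toFun s := ⟨opU i (uG hM.og h s.toAdd), hM.root_mem i h _⟩
  map_one' := Subtype.ext (by show opU i (uG hM.og h 0) = 1; rw [uG_zero, map_one])
  map_mul' s t := Subtype.ext (by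
    show opU i (uG hM.og h (s.toAdd + t.toAdd)) = opU i (uG hM.og h s.toAdd) * opU i (uG hM.og h t.toAdd)
    rw [← map_mul, uG_mul])

theorem op_uP (i : κ) (e b : Fin k → F) (s : F) :
    (op i (uP J e b s) : TMat F κ k) = 1 + s • op i (nP J e b) + (s * s / 2) • (op i (nP J e b) * op i (nP J e b)) := by
  rw [uP, op_add, op_add, op_smul, op_smul, map_one, map_mul]

theorem uG_inv_val (hJ : OG J) {e b : Fin k → F} (h : Root J e b) (s : F) :
    (uG hJ h s)⁻¹.1 = uP J e b (-s) := rfl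

theorem Ad_lineHom (hM : Over J M) (i : κ) {e b : Fin k → F} (h : Root J e b) (s : F) (Z : TMat F κ k) :
    Ad (hM.lineHom i h (Multiplicative.ofAdd s)).1 Z =
      (op i (uP J e b s) : TMat F κ k) * Z * (op i (uP J e b (-s)) : TMat F κ k) := by
  rw [Ad_apply]
  rfl

theorem sum_lineHom (hM : Over J M) (i : κ) {e b : Fin k → F} (h : Root J e b) (Z : TMat F κ k) :
    ∑ s, Ad (hM.lineHom i h s).1 Z =
      (∑ s : F, s ^ 2) • ((2 : F)⁻¹ • (op i (nP J e b) * op i (nP J e b) * Z + Z * (op i (nP J e b) * op i (nP J e b))) -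
        op i (nP J e b) * Z * op i (nP J e b)) +
      ((∑ s : F, s ^ 4) * (4 : F)⁻¹) •
        (op i (nP J e b) * op i (nP J e b) * Z * (op i (nP J e b) * op i (nP J e b))) := by
  rw [← norm_exp hM.og.two, ← Multiplicative.ofAdd.sum_comp]
  simp only [Ad_lineHom, op_uP]

/-- Commuting with a root element of a line is commuting with all. -/
theorem commute_of_root (hM : Over J M) (i : κ) {e b : Fin k → F} (h : Root J e b) {s : F} (hs : s ≠ 0)
    {Z : TMat F κ k} (hZ : Ad (hM.lineHom i h (Multiplicative.ofAdd s)).1 Z = Z) :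
    op i (nP J e b) * Z = Z * op i (nP J e b) := by
  rw [Ad_lineHom] at hZ
  have hinv : (op i (uP J e b (-s)) : TMat F κ k) * op i (uP J e b s) = 1 := by
    rw [← map_mul, uP_mul hM.og h, neg_add_cancel, uP_zero, map_one]
  have h1 : (op i (uP J e b s) : TMat F κ k) * Z = Z * op i (uP J e b s) := by
    have := congrArg (· * (op i (uP J e b s) : TMat F κ k)) hZ
    simpa [Matrix.mul_assoc, hinv] using this
  have h2 : (op i (uP J e b (-s)) : TMat F κ k) * Z = Z * op i (uP J e b (-s)) := by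
    have := congrArg ((op i (uP J e b (-s)) : TMat F κ k) * ·) hZ
    simpa [← Matrix.mul_assoc, hinv] using this.symm
  have h3 : ((2 * s) • op i (nP J e b) : TMat F κ k) * Z = Z * ((2 * s) • op i (nP J e b)) := by
    rw [← op_smul, ← uP_sub_inv hM.og, op_sub, Matrix.sub_mul, Matrix.mul_sub, h1, h2]
  rw [Matrix.smul_mul, Matrix.mul_smul] at h3
  exact smul_right_injective _ (mul_ne_zero hM.og.two hs) h3

theorem Ad_fix_of_commute (hM : Over J M) (i : κ) {e b : Fin k → F} (h : Root J e b)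
    {Z : TMat F κ k} (hZ : op i (nP J e b) * Z = Z * op i (nP J e b)) (s : F) :
    Ad (hM.lineHom i h (Multiplicative.ofAdd s)).1 Z = Z := by
  have hc : (op i (uP J e b s) : TMat F κ k) * Z = Z * op i (uP J e b s) := by
    rw [op_uP, Matrix.add_mul, Matrix.add_mul, Matrix.mul_add, Matrix.mul_add, Matrix.one_mul, Matrix.mul_one,
      Matrix.smul_mul, Matrix.smul_mul, Matrix.mul_smul, Matrix.mul_smul, hZ,
      Matrix.mul_assoc _ (op i (nP J e b)) Z, hZ, ← Matrix.mul_assoc, hZ, Matrix.mul_assoc]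
  rw [Ad_lineHom, hc, Matrix.mul_assoc, ← map_mul, uP_mul hM.og h, add_neg_cancel, uP_zero, map_one, Matrix.mul_one]

theorem card_eq_pow : ∃ r : ℕ, Fintype.card F = ringChar F ^ r := by
  haveI := ringChar.charP F
  obtain ⟨n, -, hn⟩ := FiniteField.card F (ringChar F)
  exact ⟨n, hn⟩

/-- A fixed vector of a root line is sent into the norms. -/
theorem Dmap_mem_line (hM : Over J M) (hNF : NF M hM.og) (i : κ) {e b : Fin k → F} (h : Root J e b)
    (hb : 5 ≤ k → bJ J b b = 0) (E : Submodule F (TMat F κ k)) (hE : ∀ Z, ∑ s, Ad (hM.lineHom i h s).1 Z ∈ E)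
    {x : TMat F κ k} (hx : op i (nP J e b) * x = x * op i (nP J e b)) : Dmap M x ∈ E := by
  classical
  rw [Dmap, LinearMap.sub_apply]
  refine relTr_sub_mem_norms (A := F) _ card_eq_pow (hM.lineHom i h) (fun s => opU_mem_wreathT i _) (fun g hg hgT => ?_)
    (Or.inr fun a ha Z hZ c => Ad_fix_of_commute hM i h
      (commute_of_root hM i h (s := a.toAdd) (fun e0 => ha (Multiplicative.toAdd.injective e0)) hZ) c.toAdd) E hE
    (fun a => Ad_fix_of_commute hM i h hx a.toAdd)
  obtain ⟨s, hs⟩ := hNF g⁻¹ (inv_mem hg) (fun hc => hgT (by simpa using inv_mem hc)) i e b h hb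
  exact ⟨Multiplicative.ofAdd s, by rwa [inv_inv] at hs⟩

/-- The sandwiches between two singular vectors of a factor. -/
noncomputable def sandwich (J : Matrix (Fin k) (Fin k) F) (i : κ) (e : Fin k → F) : Submodule F (TMat F κ k) :=
  LinearMap.range (LinearMap.mulLeft F (op i (eP J e) : TMat F κ k) ∘ₗ LinearMap.mulRight F (op i (eP J e)))

theorem mem_sandwich {i : κ} {e : Fin k → F} {X : TMat F κ k} :
    X ∈ sandwich J i e ↔ ∃ Z, X = op i (eP J e) * Z * op i (eP J e) := by
  simp only [sandwich, LinearMap.mem_range, LinearMap.comp_apply, LinearMap.mulLeft_apply, LinearMap.mulRight_apply,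
    Matrix.mul_assoc]
  exact ⟨fun ⟨Z, h⟩ => ⟨Z, h.symm⟩, fun ⟨Z, h⟩ => ⟨Z, h.symm⟩⟩

theorem root_commute (hJ : OG J) (i : κ) {e a b : Fin k → F} (he : bJ J e e = 0) (hea : bJ J e a = 0)
    (heb : bJ J e b = 0) :
    (op i (nP J e a) : TMat F κ k) * op i (nP J e b) = op i (nP J e b) * op i (nP J e a) := by
  rw [← map_mul, ← map_mul, nP_mul_nP he (by rw [hJ.swap, hea]) heb, nP_mul_nP he (by rw [hJ.swap, heb]) hea,
    hJ.swap b a]

/-- Two long roots with non-orthogonal parameters meet in a sandwich. -/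
theorem mem_sandwich_of_two (hJ : OG J) (i : κ) {e f a a' : Fin k → F} (hp : Pair J e f) (haH : a ∈ Hyp J e f)
    (ha'H : a' ∈ Hyp J e f) (haa' : bJ J a a' = 1) (ha'a' : bJ J a' a' = 0) {X Z₁ Z₂ : TMat F κ k}
    (h1 : X = op i (nP J e a) * Z₁ * op i (nP J e a)) (h2 : X = op i (nP J e a') * Z₂ * op i (nP J e a')) :
    X ∈ sandwich J i e := by
  obtain ⟨hea, hfa⟩ := mem_Hyp.1 haH
  obtain ⟨hea', hfa'⟩ := mem_Hyp.1 ha'H
  have hl : ∀ c, bJ J f c = 0 → (1 - dyad J e f) * nP J e c = -dyad J c e := fun c hc => by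
    rw [Matrix.sub_mul, Matrix.one_mul, nP, Matrix.mul_sub, dyad_mul, dyad_mul, hp.fe hJ, hc, one_smul, zero_smul]
    abel
  have c1 : (1 - dyad J a a') * (1 - dyad J e f) * nP J e a = 0 := by
    rw [Matrix.mul_assoc, hl a hfa, Matrix.sub_mul, Matrix.one_mul, Matrix.mul_neg, dyad_mul,
      show bJ J a' a = 1 by rw [hJ.swap, haa'], one_smul]
    abel
  have c2 : dyad J a a' * (1 - dyad J e f) * nP J e a' = 0 := by
    rw [Matrix.mul_assoc, hl a' hfa', Matrix.mul_neg, dyad_mul, ha'a', zero_smul, neg_zero]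
  have d1 : nP J e a * (1 - dyad J f e) * (1 - dyad J a' a) = 0 := by
    have h := congrArg (adjJ J) c1
    simpa [adjJ_mul hJ, adjJ_sub, adjJ_one hJ, adjJ_zero, adjJ_nP hJ, adjJ_dyad hJ, ← Matrix.mul_assoc] using h
  have d2 : nP J e a' * (1 - dyad J f e) * dyad J a' a = 0 := by
    have h := congrArg (adjJ J) c2
    simpa [adjJ_mul hJ, adjJ_sub, adjJ_one hJ, adjJ_zero, adjJ_nP hJ, adjJ_dyad hJ, ← Matrix.mul_assoc] using h
  have e1 : (op i (1 - dyad J e f) : TMat F κ k) * X = 0 := by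
    have hA : (op i ((1 - dyad J a a') * (1 - dyad J e f)) : TMat F κ k) * X = 0 := by
      rw [h1, ← Matrix.mul_assoc, ← Matrix.mul_assoc, ← map_mul, c1, op_zero, Matrix.zero_mul, Matrix.zero_mul]
    have hB : (op i (dyad J a a' * (1 - dyad J e f)) : TMat F κ k) * X = 0 := by
      rw [h2, ← Matrix.mul_assoc, ← Matrix.mul_assoc, ← map_mul, c2, op_zero, Matrix.zero_mul, Matrix.zero_mul]
    rw [Matrix.sub_mul, Matrix.one_mul, op_sub, Matrix.sub_mul, hB, sub_zero] at hA
    exact hA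
  have e2 : X * (op i (1 - dyad J f e) : TMat F κ k) = 0 := by
    have hA : X * (op i ((1 - dyad J f e) * (1 - dyad J a' a)) : TMat F κ k) = 0 := by
      rw [h1, Matrix.mul_assoc, ← map_mul, ← Matrix.mul_assoc (nP J e a), d1, op_zero, Matrix.mul_zero]
    have hB : X * (op i ((1 - dyad J f e) * dyad J a' a) : TMat F κ k) = 0 := by
      rw [h2, Matrix.mul_assoc, ← map_mul, ← Matrix.mul_assoc (nP J e a'), d2, op_zero, Matrix.mul_zero]
    rw [Matrix.mul_sub, Matrix.mul_one, op_sub, Matrix.mul_sub, hB, sub_zero] at hA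
    exact hA
  rw [op_sub, map_one, Matrix.sub_mul, Matrix.one_mul, sub_eq_zero] at e1
  rw [op_sub, map_one, Matrix.mul_sub, Matrix.mul_one, sub_eq_zero] at e2
  refine mem_sandwich.2 ⟨op i (dyad J f f) * X * op i (dyad J f f), ?_⟩
  rw [← Matrix.mul_assoc, ← Matrix.mul_assoc, ← map_mul, Matrix.mul_assoc, ← map_mul,
    show eP J e * dyad J f f = dyad J e f by rw [eP, dyad_mul, hp.ef, one_smul],
    show dyad J f f * eP J e = dyad J f e by rw [eP, dyad_mul, hp.fe hJ, one_smul], ← e1, ← e2]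

theorem plane_comm (hM : Over J M) (i : κ) {e b c : Fin k → F} (hb : Root J e b) (hc : Root J e c)
    (hbc : bJ J b c = 0) (s t : Multiplicative F) : Commute (hM.lineHom i hb s) (hM.lineHom i hc t) :=
  Subtype.ext (by
    show opU i (uG hM.og hb s.toAdd) * opU i (uG hM.og hc t.toAdd) =
      opU i (uG hM.og hc t.toAdd) * opU i (uG hM.og hb s.toAdd)
    rw [← map_mul, ← map_mul]
    refine congrArg (opU i) (Units.ext ?_)
    show uP J e b s.toAdd * uP J e c t.toAdd = uP J e c t.toAdd * uP J e b s.toAdd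
    rw [uP_add hM.og hb.ee hb.eb hc.eb hbc, uP_add hM.og hb.ee hc.eb hb.eb (by rw [hM.og.swap, hbc]), add_comm])

/-- Two commuting root groups as one homomorphism to `M`. -/
noncomputable def Over.planeHom (hM : Over J M) (i : κ) {e b c : Fin k → F} (hb : Root J e b) (hc : Root J e c)
    (hbc : bJ J b c = 0) : Multiplicative (F × F) →* M :=
  ((hM.lineHom i hb).noncommCoprod (hM.lineHom i hc) (fun s t => plane_comm hM i hb hc hbc s t)).comp
    (MulEquiv.prodMultiplicative F F).toMonoidHom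

theorem planeHom_val (hM : Over J M) (i : κ) {e b c : Fin k → F} (hb : Root J e b) (hc : Root J e c)
    (hbc : bJ J b c = 0) (s t : F) : (hM.planeHom i hb hc hbc (Multiplicative.ofAdd (s, t))).1 =
      opU i (uG hM.og hb s) * opU i (uG hM.og hc t) := rfl

/-- In dimension four over three elements the plane of roots gives sandwiches. -/
theorem Dmap_mem_plane (hM : Over J M) (hNF : NF M hM.og) (h3 : Fintype.card F = 3) (hk4 : k = 4) (i : κ)
    {e f b : Fin k → F} (hp : Pair J e f) (hbH : b ∈ Hyp J e f) (hbb : bJ J b b ≠ 0) {x : TMat F κ k}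
    (hx : ∀ a, bJ J e a = 0 → op i (nP J e a) * x = x * op i (nP J e a)) : Dmap M x ∈ sandwich J i e := by
  classical
  have hJ := hM.og
  obtain ⟨c, hcH, hbc, hcc⟩ := hp.exists_same hJ hbH hbb
    (Or.inr ⟨by rw [Fintype.card_fin]; omega, h3, hM.good.plane hk4⟩)
  have hccne : bJ J c c ≠ 0 := by rwa [hcc]
  have hb := hp.root hJ hbH (fun e0 => hbb (by rw [e0, bJ_zero_left]))
  have hc := hp.root hJ hcH (fun e0 => hccne (by rw [e0, bJ_zero_left]))
  have h5 : ∀ (a : Fin k → F), 5 ≤ k → bJ J a a = 0 := fun a h => by omega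
  rw [Dmap, LinearMap.sub_apply]
  refine relTr_sub_mem_norms (A := F × F) (ptrSum_equiv M) ?_ (hM.planeHom i hb hc hbc)
    (fun st => mul_mem (opU_mem_wreathT i _) (opU_mem_wreathT i _)) (fun g hg hgT => ?_)
    (Or.inl fun g hg hgT st hst => ?_) _ (fun Z => ?_) (fun st => ?_)
  · obtain ⟨r, hr⟩ := card_eq_pow (F := F)
    exact ⟨r + r, by rw [Fintype.card_prod, hr, pow_add]⟩
  · obtain ⟨s, hs⟩ := hNF g⁻¹ (inv_mem hg) (fun hc => hgT (by simpa using inv_mem hc)) i e b hb (h5 b)
    refine ⟨Multiplicative.ofAdd (s, 0), ?_⟩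
    rw [planeHom_val, uG_zero, map_one, mul_one]
    rwa [inv_inv] at hs
  · obtain ⟨⟨s, t⟩, rfl⟩ := Multiplicative.ofAdd.surjective st
    rw [planeHom_val]
    have hd : s • b + t • c ≠ 0 := fun e0 => hst (by
      have e1 := congrArg (bJ J b) e0
      have e2 := congrArg (bJ J c) e0
      simp only [bJ_add_right, bJ_smul_right, hbc, hJ.swap c b, bJ_zero_right, mul_zero, add_zero, zero_add,
        mul_eq_zero, hbb, hccne, or_false] at e1 e2
      rw [e1, e2]
      rfl)
    have hd' := hp.root hJ (Submodule.add_mem _ (Submodule.smul_mem _ s hbH) (Submodule.smul_mem _ t hcH)) hd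
    have he : opU i (uG hM.og hb s) * opU i (uG hM.og hc t) = (opU i (uG hM.og hd' 1) : GL (κ → Fin k) F) := by
      rw [← map_mul]
      exact congrArg (opU i) (Units.ext (uP_add hJ hp.ee hb.eb hc.eb hbc s t))
    rw [he]
    obtain ⟨r, hr⟩ := hNF g⁻¹ (inv_mem hg) (fun hc => hgT (by simpa using inv_mem hc)) i e _ hd' (h5 _)
    rw [inv_inv] at hr
    intro h1
    refine hr ?_
    have hr3 : r = 0 ∨ r = 1 ∨ r = -1 := by
      rcases eq_or_ne r 0 with h0 | h0
      · exact Or.inl h0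
      · have := FiniteField.pow_card_sub_one_eq_one r h0
        rw [h3] at this
        exact Or.inr (sq_eq_one_iff.1 this)
    rcases hr3 with rfl | rfl | rfl
    · rw [uG_zero, map_one, mul_one, inv_mul_cancel]
      exact one_mem _
    · exact h1
    · have := inv_mem h1
      rwa [_root_.mul_inv_rev, _root_.mul_inv_rev, inv_inv, ← mul_assoc, ← map_inv, uG_inv] at this
  · have key : ∑ st, Ad (hM.planeHom i hb hc hbc st).1 Z = ∑ s : F, (op i (uP J e b s) : TMat F κ k) *
        (∑ t : F, (op i (uP J e c t) : TMat F κ k) * Z * op i (uP J e c (-t))) * op i (uP J e b (-s)) := by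
      rw [← Multiplicative.ofAdd.sum_comp, Fintype.sum_prod_type]
      refine Finset.sum_congr rfl fun s _ => ?_
      rw [Finset.mul_sum, Finset.sum_mul]
      refine Finset.sum_congr rfl fun t _ => ?_
      rw [planeHom_val, Ad_mul, Ad_apply, Ad_apply]
      rfl
    rw [key]
    simp only [op_uP]
    obtain ⟨d, hd⟩ := norm_norm_exp hJ.two (N := (op i (nP J e b) : TMat F κ k)) (N' := op i (nP J e c))
      (E := op i (eP J e)) (α := -bJ J b b) (α' := -bJ J c c)
      (by rw [← map_mul, nP_mul_nP hp.ee (hb.be hJ) hb.eb, op_smul])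
      (by rw [← map_mul, nP_mul_nP hp.ee (hc.be hJ) hc.eb, op_smul])
      (by rw [← map_mul, eP_sq hp.ee, op_zero]) (by rw [← map_mul, eP_mul_nP hp.ee hb.eb, op_zero])
      (by rw [← map_mul, nP_mul_eP hp.ee (hb.be hJ), op_zero])
      (by rw [← map_mul, eP_mul_nP hp.ee hc.eb, op_zero]) (by rw [← map_mul, nP_mul_eP hp.ee (hc.be hJ), op_zero])
      (by rw [← map_mul, nP_mul_nP hp.ee (hb.be hJ) hc.eb, hbc, neg_zero, zero_smul, op_zero])
      (by rw [← map_mul, nP_mul_nP hp.ee (hc.be hJ) hb.eb, hJ.swap c b, hbc, neg_zero, zero_smul, op_zero]) Z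
    rw [hd]
    exact Submodule.smul_mem _ _ (mem_sandwich.2 ⟨Z, rfl⟩)
  · obtain ⟨⟨s, t⟩, rfl⟩ := Multiplicative.ofAdd.surjective st
    show Ad (opU i (uG hM.og hb s) * opU i (uG hM.og hc t)) x = x
    rw [Ad_mul, show Ad (opU i (uG hM.og hc t)) x = x from Ad_fix_of_commute hM i hc (hx c hc.eb) t]
    exact Ad_fix_of_commute hM i hb (hx b hb.eb) s

/-- The fixed vectors of all roots at `e` go to sandwiches. -/
theorem Dmap_mem_sandwich (hM : Over J M) (hNF : NF M hM.og) (i : κ) {e f : Fin k → F} (hp : Pair J e f)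
    {x : TMat F κ k} (hx : ∀ a, bJ J e a = 0 → op i (nP J e a) * x = x * op i (nP J e a)) :
    Dmap M x = 0 ∨ ((5 ≤ k ∧ Fintype.card F = 3 ∨ k ≤ 4 ∧ (Fintype.card F = 5 ∨ k = 4 ∧ Fintype.card F = 3)) ∧
      Dmap M x ∈ sandwich J i e) := by
  classical
  have hJ := hM.og
  have h2 := hJ.two
  have hk := hM.good.three
  have hodd : Odd (Fintype.card F) := Nat.odd_iff.2 (FiniteField.odd_card_of_char_ne_two fun hc => h2 (by
    haveI := ringChar.of_eq hc; exact CharTwo.two_eq_zero))
  have hq : Fintype.card F = 3 ∨ Fintype.card F = 5 ∨ 7 ≤ Fintype.card F := by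
    obtain ⟨r, hr⟩ := hodd
    have := Fintype.one_lt_card (α := F)
    omega
  have hdim := finrank_Hyp (J := J) e f
  rw [Fintype.card_fin] at hdim
  by_cases h5 : 5 ≤ k
  · obtain ⟨a, haH, ha0, haa⟩ := hJ.exists_singular_in (S := Hyp J e f) (by omega)
    have ha := hp.root hJ haH ha0
    have hN2 : (op i (nP J e a) : TMat F κ k) * op i (nP J e a) = 0 := by
      rw [← map_mul, nP_mul_nP hp.ee (ha.be hJ) ha.eb, haa, neg_zero, zero_smul, op_zero]
    by_cases h3 : Fintype.card F = 3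
    · refine Or.inr ⟨Or.inl ⟨h5, h3⟩, ?_⟩
      obtain ⟨z, hzH, hz⟩ : ∃ z ∈ Hyp J e f, bJ J a z ≠ 0 := by
        by_contra! hall
        exact ha0 (hp.nd hJ a haH hall)
      set z₁ := (bJ J a z)⁻¹ • z with hz₁
      set a' := z₁ - ((2 : F)⁻¹ * bJ J z₁ z₁) • a with ha'
      have hz₁H : z₁ ∈ Hyp J e f := Submodule.smul_mem _ _ hzH
      have ha'H : a' ∈ Hyp J e f := Submodule.sub_mem _ hz₁H (Submodule.smul_mem _ _ haH)
      have haz₁ : bJ J a z₁ = 1 := by rw [hz₁, bJ_smul_right, inv_mul_cancel₀ hz]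
      have haa' : bJ J a a' = 1 := by simp [ha', haz₁, haa]
      have ha'a' : bJ J a' a' = 0 := by
        simp only [ha', bJ_sub_left, bJ_sub_right, bJ_smul_left, bJ_smul_right, hJ.swap z₁ a, haz₁, haa]
        field_simp
        ring
      have hra := hp.root hJ ha'H (fun e0 => by rw [e0, bJ_zero_right] at haa'; exact zero_ne_one haa')
      let L : (Fin k → F) → TMat F κ k →ₗ[F] TMat F κ k := fun c =>
        LinearMap.mulLeft F (op i (nP J e c) : TMat F κ k) ∘ₗ LinearMap.mulRight F (op i (nP J e c))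
      have hL : ∀ (c : Fin k → F) (hc : Root J e c), bJ J c c = 0 → ∀ Z, ∑ s, Ad (hM.lineHom i hc s).1 Z ∈
            LinearMap.range (L c) := fun c hc hc2 Z => by
        rw [sum_lineHom, show (op i (nP J e c) : TMat F κ k) * op i (nP J e c) = 0 by
          rw [← map_mul, nP_mul_nP hp.ee (hc.be hJ) hc.eb, hc2, neg_zero, zero_smul, op_zero]]
        refine ⟨(∑ s : F, s ^ 2) • -Z, ?_⟩
        simp [L, Matrix.mul_assoc]
      obtain ⟨Z₁, h1⟩ := Dmap_mem_line hM hNF i ha (fun _ => haa) _ (hL a ha haa) (hx a ha.eb)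
      obtain ⟨Z₂, h2'⟩ := Dmap_mem_line hM hNF i hra (fun _ => ha'a') _ (hL a' hra ha'a') (hx a' hra.eb)
      simp only [L, LinearMap.comp_apply, LinearMap.mulLeft_apply, LinearMap.mulRight_apply, ← Matrix.mul_assoc]
        at h1 h2'
      exact mem_sandwich_of_two hJ i hp haH ha'H haa' ha'a' h1.symm h2'.symm
    · refine Or.inl ((Submodule.mem_bot F).1 (Dmap_mem_line hM hNF i ha (fun _ => haa) ⊥ (fun Z => ?_) (hx a ha.eb)))
      rw [Submodule.mem_bot, sum_lineHom, sum_sq_eq_zero (by omega), hN2]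
      simp
  · obtain ⟨b, hbH, hbb⟩ := (hp.nd hJ).exists_aniso hJ (ne_bot_of_pos (by omega))
    have hb := hp.root hJ hbH (fun e0 => hbb (by rw [e0, bJ_zero_left]))
    rcases hq with h3 | h5' | h7
    · have hk4 : k = 4 := by
        have h33 := hM.good.ex (by rw [Nat.card_eq_fintype_card, h3])
        omega
      exact Or.inr ⟨Or.inr ⟨by omega, Or.inr ⟨hk4, h3⟩⟩, Dmap_mem_plane hM hNF h3 hk4 i hp hbH hbb hx⟩
    · refine Or.inr ⟨Or.inr ⟨by omega, Or.inl h5'⟩, Dmap_mem_line hM hNF i hb (fun h => absurd h h5) _ (fun Z => ?_)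
        (hx b hb.eb)⟩
      rw [sum_lineHom, sum_sq_eq_zero (by omega), zero_smul, zero_add, ← map_mul,
        nP_mul_nP hp.ee (hb.be hJ) hb.eb, op_smul, Matrix.smul_mul, Matrix.smul_mul,
        Matrix.mul_smul, smul_smul, smul_smul]
      exact Submodule.smul_mem _ _ (mem_sandwich.2 ⟨Z, rfl⟩)
    · refine Or.inl ((Submodule.mem_bot F).1 (Dmap_mem_line hM hNF i hb (fun h => absurd h h5) ⊥ (fun Z => ?_)
        (hx b hb.eb)))
      rw [Submodule.mem_bot, sum_lineHom, sum_sq_eq_zero (by omega), sum_four_eq_zero h7]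
      simp

/-- The roots of a factor are killed. -/
theorem Dmap_kill (hM : Over J M) (hNF : NF M hM.og) (i : κ) {e b : Fin k → F} (he0 : e ≠ 0)
    (he : bJ J e e = 0) (heb : bJ J e b = 0) (W : TMat F (Rest i) k) :
    Dmap M ((split i).symm (nP J e b ⊗ₖ W)) = 0 := by
  classical
  have hJ := hM.og
  obtain ⟨f, hp⟩ := hJ.exists_pair_of he0 he
  let φ : (Fin k → F) →ₗ[F] TMat F κ k :=
    { toFun := fun b => Dmap M ((split i).symm (nP J e b ⊗ₖ W))
      map_add' := fun x y => by rw [nP_add, Matrix.add_kronecker, map_add, map_add]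
      map_smul' := fun c x => by rw [nP_smul, Matrix.smul_kronecker, map_smul, map_smul, RingHom.id_apply] }
  change φ b = 0
  have key : ∀ b ∈ Hyp J e f, bJ J b b ≠ 0 → φ b = 0 := by
    intro b hbH hbb
    set x := (split i).symm (nP J e b ⊗ₖ W) with hxdef
    change Dmap M x = 0
    have hb := (mem_Hyp.1 hbH).1
    have hx : ∀ a, bJ J e a = 0 → op i (nP J e a) * x = x * op i (nP J e a) := fun a ha => by
      refine (split i).injective ?_
      rw [map_mul, map_mul, hxdef, AlgEquiv.apply_symm_apply, split_op_self, ← Matrix.mul_kronecker_mul,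
        ← Matrix.mul_kronecker_mul, Matrix.one_mul, Matrix.mul_one, nP_mul_nP he (by rw [hJ.swap, ha]) hb,
        nP_mul_nP he (by rw [hJ.swap, hb]) ha, hJ.swap b a]
    rcases Dmap_mem_sandwich hM hNF i hp hx with h0 | ⟨hcase, hS⟩
    · exact h0
    obtain ⟨Z, hZ⟩ := mem_sandwich.1 hS
    obtain ⟨C, hC, ε, hε, hCN, hCE, hEC⟩ := hp.exists_flip hJ hbH hbb (by
      rw [Fintype.card_fin]
      rcases hcase with ⟨h5, -⟩ | ⟨-, h5 | ⟨hk4, h3⟩⟩
      · exact Or.inl h5
      · refine Or.inr (Or.inr ⟨2, ?_⟩)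
        have h50 : ((5 : ℕ) : F) = 0 := by rw [← h5, FiniteField.cast_card_eq_zero]
        push_cast at h50
        linear_combination -h50
      · exact Or.inr (Or.inl ⟨by omega, h3, hM.good.plane hk4⟩))
    have hkey := Dmap_Ad (hM.opU_mem i hC) (opU_mem_wreathT i C) x
    have hAdx : Ad (opU i C) x = -x := by
      rw [Ad_apply]
      refine (split i).injective ?_
      rw [opU_coe, opU_inv_coe, map_mul, map_mul, map_neg, hxdef, AlgEquiv.apply_symm_apply, split_op_self,
        split_op_self, ← Matrix.mul_kronecker_mul, ← Matrix.mul_kronecker_mul, Matrix.one_mul, Matrix.mul_one, hCN]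
      ext p q
      simp
    rw [hAdx, map_neg, hZ, Ad_apply, opU_coe, opU_inv_coe, ← Matrix.mul_assoc, ← Matrix.mul_assoc, ← map_mul, hCE,
      Matrix.mul_assoc (op i (ε • eP J e) * Z), ← map_mul, hEC, op_smul, Matrix.smul_mul, Matrix.smul_mul,
      Matrix.mul_smul, smul_smul, hε, one_smul, ← hZ] at hkey
    have h2 : (2 : F) • Dmap M x = 0 := by rw [two_smul]; nth_rw 1 [← hkey]; exact neg_add_cancel _
    exact (smul_eq_zero.1 h2).resolve_left hJ.two
  obtain ⟨c, w, hw, rfl⟩ := hp.decomp hJ heb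
  rw [map_add, map_smul, show φ e = 0 by simp [φ, nP_self], smul_zero, zero_add]
  obtain ⟨b₀, hb₀, hb₀0⟩ := (hp.nd hJ).exists_aniso hJ (ne_bot_of_pos (by
    have := finrank_Hyp (J := J) e f; have := hM.good.three; rw [Fintype.card_fin] at *; omega))
  by_cases hww : bJ J w w = 0
  · have h1 : bJ J (w + b₀) (w + b₀) ≠ 0 ∨ bJ J (w - b₀) (w - b₀) ≠ 0 := by
      by_contra! h
      simp only [bJ_add_left, bJ_add_right, bJ_sub_left, bJ_sub_right, hww, hJ.swap b₀ w] at h
      exact hb₀0 (mul_left_cancel₀ hJ.two (by linear_combination h.1 + h.2))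
    rcases h1 with h1 | h1
    · have := key _ (Submodule.add_mem _ hw hb₀) h1
      rwa [map_add, key _ hb₀ hb₀0, add_zero] at this
    · have := key _ (Submodule.sub_mem _ hw hb₀) h1
      rwa [map_sub, key _ hb₀ hb₀0, sub_zero] at this
  · exact key w hw hww

end CfsgLib.Classical.WreathMaxO
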