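import Cfsg.Agent.Lib.Classical.WreathMaxO.ElKill
import Cfsg.Agent.Lib.Classical.WreathMaxO.Existence

/-!
# A map of slices gives a pure element, or a big group on the other factors
-/

set_option autoImplicit false
set_option linter.unusedSectionVars false

open Matrix Module
open scoped Kronecker

namespace CfsgLib.Classical.WreathMaxO

open CfsgLib.Classical.WreathMax
open CfsgLib.Classical.WreathMaxSp (pv tens_mulVec_pv)

variable {F : Type*} [Field F] [Fintype F] {κ : Type} [Fintype κ] [DecidableEq κ] {k : ℕ}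
  {J : Matrix (Fin k) (Fin k) F} {M : Subgroup (GL (κ → Fin k) F)} {γ : GL (κ → Fin k) F} {i : κ}
  {e f : Fin k → F}

/-! ### Similitudes -/

theorem inv_mulVec_mulVec {n : Type} [Fintype n] [DecidableEq n] (g : GL n F) (x : n → F) :
    g⁻¹.1 *ᵥ (g.1 *ᵥ x) = x := by
  rw [Matrix.mulVec_mulVec, ← Units.val_mul, inv_mul_cancel, Units.val_one, Matrix.one_mulVec]

theorem mulVec_inv_mulVec {n : Type} [Fintype n] [DecidableEq n] (g : GL n F) (x : n → F) :
    g.1 *ᵥ (g⁻¹.1 *ᵥ x) = x := by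
  rw [Matrix.mulVec_mulVec, ← Units.val_mul, mul_inv_cancel, Units.val_one, Matrix.one_mulVec]

theorem adjJ_mul_self_iff {n : Type} [Fintype n] [DecidableEq n] {K : Matrix n n F} (hK : OG K) {X : Matrix n n F}
    {ν : F} : adjJ K X * X = ν • 1 ↔ ∀ u v, bJ K (X *ᵥ u) (X *ᵥ v) = ν * bJ K u v := by
  refine ⟨fun h u v => ?_, fun h => Matrix.ext_iff_mulVec.2 fun v => hK.ext fun u => ?_⟩
  · rw [bJ_mulVec hK, Matrix.mulVec_mulVec, h, Matrix.smul_mulVec, Matrix.one_mulVec, bJ_smul_right]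
  · rw [← Matrix.mulVec_mulVec, ← bJ_mulVec hK, h, Matrix.smul_mulVec, Matrix.one_mulVec, bJ_smul_right]

theorem SimG.inv (hJ : OG J) {g : GL (κ → Fin k) F} (hg : SimG J g) : SimG J g⁻¹ := by
  obtain ⟨ν, hν, e⟩ := hg
  have h := (adjJ_mul_self_iff (gT_og hJ)).1 e
  refine ⟨ν⁻¹, inv_ne_zero hν, (adjJ_mul_self_iff (gT_og hJ)).2 fun u v => ?_⟩
  conv_rhs => rw [← mulVec_inv_mulVec g u, ← mulVec_inv_mulVec g v, h]
  rw [inv_mul_cancel_left₀ hν]

theorem SimG.mul (hJ : OG J) {g h : GL (κ → Fin k) F} (hg : SimG J g) (hh : SimG J h) : SimG J (g * h) := by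
  obtain ⟨ν, hν, e⟩ := hg
  obtain ⟨μ, hμ, e'⟩ := hh
  refine ⟨ν * μ, mul_ne_zero hν hμ, (adjJ_mul_self_iff (gT_og hJ)).2 fun u v => ?_⟩
  rw [Units.val_mul, ← Matrix.mulVec_mulVec, ← Matrix.mulVec_mulVec, (adjJ_mul_self_iff (gT_og hJ)).1 e,
    (adjJ_mul_self_iff (gT_og hJ)).1 e', mul_assoc]

theorem simG_of_iso (hJ : OG J) {g : GL (κ → Fin k) F} (hg : g ∈ IsoG (gT κ J)) : SimG J g :=
  ⟨1, one_ne_zero, by rw [one_smul]; exact (mem_IsoG_iff (gT_og hJ)).1 hg⟩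

theorem simG_opU (hJ : OG J) (i : κ) {A : GL (Fin k) F} {c : F} (hc : c ≠ 0) (hA : adjJ J A.1 * A.1 = c • 1) :
    SimG J (opU i A) :=
  ⟨c, hc, by rw [opU_coe, adjJ_op hJ, ← map_mul, hA, op_smul, map_one]⟩

theorem SimG.conj_stab (hJ : OG J) {s y : GL (κ → Fin k) F} (hs : SimG J s) (hsT : s ∈ wreathT F κ k)
    (hy : y ∈ wreathT F κ k ⊓ OmG (gT κ J)) : s * y * s⁻¹ ∈ wreathT F κ k ⊓ OmG (gT κ J) :=
  Subgroup.mem_inf.2 ⟨mul_mem (mul_mem hsT (Subgroup.mem_inf.1 hy).1) (inv_mem hsT),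
    conj_mem_OmG_of (fun _ ha => hs.conj_iso hJ ha) hy.2⟩

/-- The data of the proof: a similitude outside the stabiliser whose inverse conjugates it into `M`. -/
structure Lev (J : Matrix (Fin k) (Fin k) F) (M : Subgroup (GL (κ → Fin k) F)) (γ : GL (κ → Fin k) F) : Prop where
  sim : SimG J γ
  conj : ∀ y ∈ wreathT F κ k ⊓ OmG (gT κ J), γ⁻¹ * y * γ ∈ M
  notT : γ ∉ wreathT F κ k

theorem Lev.lmul (hJ : OG J) (h : Lev J M γ) {s : GL (κ → Fin k) F} (hs : SimG J s) (hsT : s ∈ wreathT F κ k) :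
    Lev J M (s * γ) := by
  refine ⟨hs.mul hJ h.sim, fun y hy => ?_, fun hT => h.notT ?_⟩
  · have h1 := (hs.inv hJ).conj_stab hJ (inv_mem hsT) hy
    rw [inv_inv] at h1
    convert h.conj _ h1 using 1
    group
  · simpa using mul_mem (inv_mem hsT) hT

/-! ### Contractions of a map -/

/-- The contraction as a linear map. -/
def ctL (J : Matrix (Fin k) (Fin k) F) (i : κ) (v : Fin k → F) :
    ((κ → Fin k) → F) →ₗ[F] ((Rest i → Fin k) → F) where
  toFun := ct J i v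
  map_add' := ct_add i v
  map_smul' c z := ct_smul i v c z

/-- The block of a map between two slices. -/
noncomputable def slM (J : Matrix (Fin k) (Fin k) F) (X : TMat F κ k) (i : κ) (u : Fin k → F) :
    (Fin k → F) →ₗ[F] TMat F (Rest i) k where
  toFun v := LinearMap.toMatrix' ((ctL J i u).comp (X.mulVecLin.comp (sl i v)))
  map_add' v v' := by
    rw [← map_add]
    congr 1
    refine LinearMap.ext fun w => ?_
    simp [ctL, sl_add, Matrix.mulVec_add, ct_add]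
  map_smul' c v := by
    rw [RingHom.id_apply, ← map_smul]
    congr 1
    refine LinearMap.ext fun w => ?_
    simp [ctL, sl_smul, Matrix.mulVec_smul, ct_smul]

theorem slM_mulVec (X : TMat F κ k) (i : κ) (u v : Fin k → F) (w : (Rest i → Fin k) → F) :
    slM J X i u v *ᵥ w = ct J i u (X *ᵥ sl i v w) := by
  simp only [slM, LinearMap.coe_mk, AddHom.coe_mk, LinearMap.toMatrix'_mulVec]
  rfl

theorem bJ_sl_sl (hJ : OG J) (i : κ) (x y : Fin k → F) (u w : (Rest i → Fin k) → F) :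
    bJ (gT κ J) (sl i x u) (sl i y w) = bJ J x y * bJ (gT (Rest i) J) u w := by
  rw [bJ_sl hJ, ct_sl, bJ_smul_right]

/-- A bilinear form is given by a matrix. -/
theorem OG.exists_repr (hJ : OG J) (β : (Fin k → F) →ₗ[F] (Fin k → F) →ₗ[F] F) :
    ∃ E : Matrix (Fin k) (Fin k) F, ∀ c v, bJ J c (E *ᵥ v) = β c v := by
  refine ⟨J⁻¹ * LinearMap.toMatrix₂' F β, fun c v => ?_⟩
  rw [bJ, Matrix.mulVec_mulVec, ← Matrix.mul_assoc, Matrix.mul_nonsing_inv J hJ.unit, Matrix.one_mul,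
    ← Matrix.toLinearMap₂'_apply', Matrix.toLinearMap₂'_toMatrix']

theorem Pair.exists_riesz (hJ : OG J) (hp : Pair J e f) (φ : (Fin k → F) →ₗ[F] F) :
    ∃ c ∈ Hyp J e f, ∀ v ∈ Hyp J e f, bJ J c v = φ v := by
  obtain ⟨E, hE⟩ := hJ.exists_repr (LinearMap.mk₂ F (fun c v => φ c * bJ J f v)
    (fun a b v => by rw [map_add, add_mul]) (fun r a v => by rw [map_smul, smul_eq_mul, smul_eq_mul, mul_assoc])
    (fun a u v => by rw [bJ_add_right, mul_add]) (fun r a v => by rw [bJ_smul_right, smul_eq_mul]; ring))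
  obtain ⟨h, hh, e'⟩ := hp.expand hJ (E *ᵥ e)
  refine ⟨h, hh, fun v hv => ?_⟩
  have h1 := hE v e
  rw [e'] at h1
  simpa [hp.fe hJ, hJ.swap v e, hJ.swap v f, (mem_Hyp.1 hv).1, (mem_Hyp.1 hv).2, hJ.swap v h] using h1

theorem OG.exists_dual {n : Type} [Fintype n] [DecidableEq n] {K : Matrix n n F} (hK : OG K) {x : n → F}
    (hx : x ≠ 0) : ∃ u, bJ K u x = 1 := by
  obtain ⟨v, hv⟩ : ∃ v, bJ K x v ≠ 0 := by
    by_contra! hall
    exact hx (hK.eq_zero hall)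
  exact ⟨(bJ K x v)⁻¹ • v, by rw [bJ_smul_left, hK.swap v x, inv_mul_cancel₀ hv]⟩

theorem Pair.mem_Hyp_mulVec (hJ : OG J) {C : GL (Fin k) F} (hC : C ∈ IsoG J) {a b : F} (ha : a ≠ 0) (hb : b ≠ 0)
    (hCe : C.1 *ᵥ e = a • e) (hCf : C.1 *ᵥ f = b • f) {v : Fin k → F} (hv : v ∈ Hyp J e f) :
    C.1 *ᵥ v ∈ Hyp J e f := by
  have hiso := (mem_IsoG_iff_bJ hJ).1 hC
  refine mem_Hyp.2 ⟨?_, ?_⟩
  · have := hiso e v
    rw [hCe, bJ_smul_left, (mem_Hyp.1 hv).1] at this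
    exact (mul_eq_zero.1 this).resolve_left ha
  · have := hiso f v
    rw [hCf, bJ_smul_left, (mem_Hyp.1 hv).2] at this
    exact (mul_eq_zero.1 this).resolve_left hb

/-! ### The first step: the map on the middle -/

theorem Over.lev_middle (hM : Over J M) (hp : Pair J e f) (hc0 : ∀ S ∈ centSub M i hp.ee, S = 0)
    (hγ : Lev J M γ) (hmap : (slice i e).map γ.1.mulVecLin = slice i e) :
    ∃ (γ' : GL (κ → Fin k) F) (A : GL (Rest i → Fin k) F) (μ : F), μ ≠ 0 ∧ Lev J M γ' ∧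
      adjJ (gT (Rest i) J) A.1 * A.1 = μ • 1 ∧ adjJ (gT κ J) γ'.1 * γ'.1 = μ • 1 ∧
      (∀ w, γ'.1 *ᵥ sl i e w = sl i e (A.1 *ᵥ w)) ∧
      ∀ v ∈ Hyp J e f, ∀ w,
        γ'.1 *ᵥ sl i v w = sl i v (A.1 *ᵥ w) + sl i e (slM J γ'.1 i f v *ᵥ w) := by
  have hJ := hM.og
  have hk := hM.good.three
  have hR := gT_og (κ := Rest i) hJ
  haveI : Nonempty (Fin k) := ⟨⟨0, by omega⟩⟩
  obtain ⟨ν, hν, eν⟩ := hγ.sim
  have hbν := (adjJ_mul_self_iff (gT_og hJ)).1 eν
  set A₀ := slM J γ.1 i f e with hA₀def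
  have hA : ∀ w, γ.1 *ᵥ sl i e w = sl i e (A₀ *ᵥ w) := fun w => by
    obtain ⟨w', hw'⟩ : γ.1 *ᵥ sl i e w ∈ slice i e := hmap ▸ Submodule.mem_map.2 ⟨_, ⟨w, rfl⟩, rfl⟩
    rw [hA₀def, slM_mulVec, ← hw', ct_sl, hp.fe hJ, one_smul]
  have hAinj : Function.Injective A₀.mulVec := fun u w h => by
    refine sl_injective i hp.left_ne ?_
    rw [← inv_mulVec_mulVec γ (sl i e u), hA, h, ← hA, inv_mulVec_mulVec]
  obtain ⟨A, hAA⟩ := Matrix.mulVec_injective_iff_isUnit.1 hAinj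
  rw [← hAA] at hA hA₀def
  have hct : ∀ v ∈ Hyp J e f, ∀ w, ct J i e (γ.1 *ᵥ sl i v w) = 0 := fun v hv w => hR.eq_zero fun u => by
    have h1 := hbν (sl i e (A⁻¹.1 *ᵥ u)) (sl i v w)
    rw [hA, mulVec_inv_mulVec, bJ_sl_sl hJ, (mem_Hyp.1 hv).1, zero_mul, mul_zero, bJ_sl hJ] at h1
    rw [hR.swap]
    exact h1
  -- the parameters are scalar
  have hφ : ∀ c ∈ Hyp J e f, ∀ v ∈ Hyp J e f, ∃ d : F, slM J γ.1 i c v = d • A.1 := fun c hc v hv => by
    have hec := (mem_Hyp.1 hc).1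
    have hy : opU i (uH hJ hp.ee hec) ∈ wreathT F κ k ⊓ OmG (gT κ J) :=
      ⟨opU_mem_wreathT i _, opU_mem_OmG hJ i (uH_mem_OmG hJ hp.ee hec)⟩
    have hmove : ∀ x x', (opU i (uH hJ hp.ee hec)).1 *ᵥ (γ.1 *ᵥ x) = γ.1 *ᵥ x' →
        (γ⁻¹ * opU i (uH hJ hp.ee hec) * γ).1 *ᵥ x = x' := fun x x' h => by
      rw [Units.val_mul, Units.val_mul, ← Matrix.mulVec_mulVec, ← Matrix.mulVec_mulVec, h, inv_mulVec_mulVec]
    have hEl : El J M i e f ((LinearMap.mulLeft F A⁻¹.1).comp (slM J γ.1 i c)) := by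
      refine ⟨_, hγ.conj _ hy, fun w => hmove _ _ ?_, fun v' hv' w => hmove _ _ ?_⟩
      · rw [hA, opU_uH_mulVec hJ hp.ee hec]
        simp [ct_sl, hp.ee, hJ.swap c e, hec]
      · rw [Matrix.mulVec_add, hA, opU_uH_mulVec hJ hp.ee hec, hct v' hv', LinearMap.comp_apply,
          LinearMap.mulLeft_apply, ← Matrix.mulVec_mulVec, mulVec_inv_mulVec, slM_mulVec]
        simp
    obtain ⟨d, hd⟩ := hM.el_scalar hp hc0 hEl v hv
    refine ⟨d, ?_⟩
    have h1 := congrArg (A.1 * ·) hd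
    simpa [LinearMap.comp_apply, ← Matrix.mul_assoc, ← Units.val_mul] using h1
  obtain ⟨a, ha, haa⟩ := hp.exists_aniso_hyp hJ hk
  haveI : Nonempty (Rest i → Fin k) := ⟨fun _ => ⟨0, by omega⟩⟩
  obtain ⟨w₀, hw₀⟩ : ∃ w₀ : (Rest i → Fin k) → F, w₀ ≠ 0 := ⟨fun _ => 1, fun h0 =>
    one_ne_zero (congrFun h0 (Classical.arbitrary _))⟩
  obtain ⟨w₁, hw₁⟩ := hR.exists_dual (x := A.1 *ᵥ w₀) fun h0 => hw₀ (by
    rw [← inv_mulVec_mulVec A w₀, h0, Matrix.mulVec_zero])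
  obtain ⟨E, hE⟩ := hJ.exists_repr (LinearMap.mk₂ F
    (fun c v => bJ (gT κ J) (sl i c w₁) (γ.1 *ᵥ sl i v w₀))
    (fun a b v => by rw [sl_add, bJ_add_left]) (fun r a v => by rw [sl_smul, bJ_smul_left, smul_eq_mul])
    (fun a u v => by rw [sl_add, Matrix.mulVec_add, bJ_add_right])
    (fun r a v => by rw [sl_smul, Matrix.mulVec_smul, bJ_smul_right, smul_eq_mul]))
  set P : Matrix (Fin k) (Fin k) F := 1 - dyad J e f - dyad J f e with hP
  have hPmul : ∀ x, P *ᵥ x = x - bJ J f x • e - bJ J e x • f := fun x => by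
    rw [hP, Matrix.sub_mulVec, Matrix.sub_mulVec, Matrix.one_mulVec, dyad_mulVec, dyad_mulVec]
  have hPH : ∀ x, P *ᵥ x ∈ Hyp J e f := fun x => by
    rw [hPmul]
    exact mem_Hyp.2 ⟨by simp [hp.ee, hp.ef], by simp [hp.ff, hp.fe hJ]⟩
  have hshape : ∀ v ∈ Hyp J e f, ∀ w,
      γ.1 *ᵥ sl i v w = sl i (P *ᵥ (E *ᵥ v)) (A.1 *ᵥ w) + sl i e (ct J i f (γ.1 *ᵥ sl i v w)) := by
    intro v hv w
    refine hp.ext_ct hJ (i := i) ?_ ?_ fun c hc => ?_
    · simp [-Matrix.mulVec_mulVec, ct_add, ct_sl, hct v hv, (mem_Hyp.1 (hPH _)).1, hp.ee]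
    · simp [-Matrix.mulVec_mulVec, ct_add, ct_sl, (mem_Hyp.1 (hPH _)).2, hp.fe hJ]
    · obtain ⟨d, hd⟩ := hφ c hc v hv
      have hd' : d = bJ J c (P *ᵥ (E *ᵥ v)) := by
        rw [hPmul, bJ_sub_right, bJ_sub_right, bJ_smul_right, bJ_smul_right, hJ.swap c e, hJ.swap c f,
          (mem_Hyp.1 hc).1, (mem_Hyp.1 hc).2, mul_zero, mul_zero, sub_zero, sub_zero, hE, LinearMap.mk₂_apply,
          bJ_sl hJ, ← slM_mulVec, hd, Matrix.smul_mulVec, bJ_smul_right, hw₁, mul_one]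
      rw [← slM_mulVec, hd, ct_add, ct_sl, ct_sl, hJ.swap c e, (mem_Hyp.1 hc).1, zero_smul, add_zero,
        Matrix.smul_mulVec, hd']
  have hgram : ∀ v ∈ Hyp J e f, ∀ v' ∈ Hyp J e f, ∀ w w', bJ J (P *ᵥ (E *ᵥ v)) (P *ᵥ (E *ᵥ v')) *
      bJ (gT (Rest i) J) (A.1 *ᵥ w) (A.1 *ᵥ w') = ν * (bJ J v v' * bJ (gT (Rest i) J) w w') := fun v hv v' hv' w w' => by
    rw [← bJ_sl_sl hJ i v v', ← hbν, hshape v hv, hshape v' hv']
    simp [-Matrix.mulVec_mulVec, bJ_sl_sl hJ, hp.ee, hJ.swap (P *ᵥ (E *ᵥ v)) e, (mem_Hyp.1 (hPH _)).1]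
  set η := bJ J (P *ᵥ (E *ᵥ a)) (P *ᵥ (E *ᵥ a))
  have hη : η ≠ 0 := fun h0 => by
    obtain ⟨u, hu⟩ := hR.exists_dual hw₀
    have h1 := hgram a ha a ha u w₀
    rw [show bJ J (P *ᵥ (E *ᵥ a)) (P *ᵥ (E *ᵥ a)) = 0 from h0, zero_mul, hu, mul_one] at h1
    exact mul_ne_zero hν haa h1.symm
  set μ := ν * bJ J a a / η with hμdef
  have hμ : μ ≠ 0 := div_ne_zero (mul_ne_zero hν haa) hη
  have hAμ : ∀ w w', bJ (gT (Rest i) J) (A.1 *ᵥ w) (A.1 *ᵥ w') = μ * bJ (gT (Rest i) J) w w' := fun w w' => by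
    refine mul_left_cancel₀ hη ?_
    rw [hgram a ha a ha, ← mul_assoc, ← mul_assoc, hμdef, mul_div_cancel₀ _ hη]
  set κ₀ := ν / μ with hκdef
  have hκ₀ : κ₀ ≠ 0 := div_ne_zero hν hμ
  have hEH : ∀ v ∈ Hyp J e f, ∀ v' ∈ Hyp J e f,
      bJ J (P *ᵥ (E *ᵥ v)) (P *ᵥ (E *ᵥ v')) = κ₀ * bJ J v v' := fun v hv v' hv' => by
    obtain ⟨u, hu⟩ := hR.exists_dual hw₀
    have h1 := hgram v hv v' hv' u w₀
    rw [hAμ, hu, mul_one, mul_one] at h1
    rw [hκdef, div_mul_eq_mul_div, eq_div_iff hμ]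
    exact h1
  set Et : Matrix (Fin k) (Fin k) F := dyad J e f + κ₀ • dyad J f e + P * E * P with hEt
  have hEt' : ∀ x, Et *ᵥ x = bJ J f x • e + (κ₀ * bJ J e x) • f + P *ᵥ (E *ᵥ (P *ᵥ x)) := fun x => by
    rw [hEt, Matrix.add_mulVec, Matrix.add_mulVec, Matrix.smul_mulVec, dyad_mulVec, dyad_mulVec, smul_smul,
      ← Matrix.mulVec_mulVec, ← Matrix.mulVec_mulVec]
  have hEsim : adjJ J Et * Et = κ₀ • 1 := (adjJ_mul_self_iff hJ).2 fun x y => by
    have hx : x = bJ J f x • e + bJ J e x • f + P *ᵥ x := by rw [hPmul]; abel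
    have hy : y = bJ J f y • e + bJ J e y • f + P *ᵥ y := by rw [hPmul]; abel
    rw [hEt', hEt']
    conv_rhs => rw [hx, hy]
    simp only [bJ_add_left, bJ_add_right, bJ_smul_left, bJ_smul_right, hp.ee, hp.ff, hp.ef, hp.fe hJ,
      hJ.swap (P *ᵥ _) e, hJ.swap (P *ᵥ _) f, (mem_Hyp.1 (hPH _)).1, (mem_Hyp.1 (hPH _)).2, hEH _ (hPH x) _ (hPH y)]
    ring
  have hEu : (κ₀⁻¹ • adjJ J Et) * Et = 1 := by
    rw [Matrix.smul_mul, hEsim, smul_smul, inv_mul_cancel₀ hκ₀, one_smul]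
  let Eg : GL (Fin k) F := ⟨Et, κ₀⁻¹ • adjJ J Et, mul_eq_one_comm.1 hEu, hEu⟩
  have hEg : ∀ x y, Et *ᵥ x = y → Eg⁻¹.1 *ᵥ y = x := fun x y h => by rw [← h]; exact inv_mulVec_mulVec Eg x
  have hEi : adjJ J Eg⁻¹.1 * Eg⁻¹.1 = κ₀⁻¹ • 1 := (adjJ_mul_self_iff hJ).2 fun x y => by
    conv_rhs => rw [← mulVec_inv_mulVec Eg x, ← mulVec_inv_mulVec Eg y]
    show _ = κ₀⁻¹ * bJ J (Et *ᵥ _) (Et *ᵥ _)
    rw [(adjJ_mul_self_iff hJ).1 hEsim, inv_mul_cancel_left₀ hκ₀]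
  have hPe : P *ᵥ e = 0 := by rw [hPmul, hp.fe hJ, hp.ee, one_smul, zero_smul, sub_self, sub_zero]
  have hPv : ∀ v ∈ Hyp J e f, P *ᵥ v = v := fun v hv => by
    rw [hPmul, (mem_Hyp.1 hv).1, (mem_Hyp.1 hv).2, zero_smul, zero_smul, sub_zero, sub_zero]
  have hee' : Eg⁻¹.1 *ᵥ e = e := hEg _ _ (by
    rw [hEt', hPe, Matrix.mulVec_zero, Matrix.mulVec_zero, hp.fe hJ, hp.ee, one_smul, mul_zero, zero_smul, add_zero,
      add_zero])
  set γ' := opU i Eg⁻¹ * γ with hγ'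
  have hγe : ∀ w, γ'.1 *ᵥ sl i e w = sl i e (A.1 *ᵥ w) := fun w => by
    rw [hγ', Units.val_mul, ← Matrix.mulVec_mulVec, hA, opU_coe, op_sl, hee']
  have hγv : ∀ v ∈ Hyp J e f, ∀ w,
      γ'.1 *ᵥ sl i v w = sl i v (A.1 *ᵥ w) + sl i e (ct J i f (γ.1 *ᵥ sl i v w)) := fun v hv w => by
    have hv' : Eg⁻¹.1 *ᵥ (P *ᵥ (E *ᵥ v)) = v := hEg _ _ (by
      rw [hEt', hPv v hv, (mem_Hyp.1 hv).1, (mem_Hyp.1 hv).2, zero_smul, mul_zero, zero_smul, zero_add, zero_add])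
    rw [hγ', Units.val_mul, ← Matrix.mulVec_mulVec, hshape v hv, Matrix.mulVec_add, opU_coe, op_sl, op_sl, hv', hee',
      ← hshape v hv]
  have hlev := hγ.lmul hJ (simG_opU hJ i (inv_ne_zero hκ₀) hEi) (opU_mem_wreathT i _)
  refine ⟨γ', A, μ, hμ, hlev, (adjJ_mul_self_iff hR).2 hAμ, ?_, hγe, fun v hv w => ?_⟩
  · rw [hγ', Units.val_mul, adjJ_mul (gT_og hJ), opU_coe, adjJ_op hJ, Matrix.mul_assoc, ← Matrix.mul_assoc (op i _),
      ← map_mul, hEi, op_smul, map_one, Matrix.smul_mul, Matrix.one_mul, Matrix.mul_smul, eν, smul_smul, hκdef,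
      inv_div, div_mul_cancel₀ _ hν]
  · rw [slM_mulVec, hγv v hv]
    congr 1
    rw [ct_add, ct_sl, ct_sl, (mem_Hyp.1 hv).2, hp.fe hJ, zero_smul, one_smul, zero_add]

/-! ### The second step: the unipotent radical -/

theorem Over.lev_radical (hM : Over J M) (hp : Pair J e f) (hc0 : ∀ S ∈ centSub M i hp.ee, S = 0)
    (hγ : Lev J M γ) {A : GL (Rest i → Fin k) F} {μ : F} (hsim : adjJ (gT κ J) γ.1 * γ.1 = μ • 1)
    (he : ∀ w, γ.1 *ᵥ sl i e w = sl i e (A.1 *ᵥ w))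
    (hv : ∀ v ∈ Hyp J e f, ∀ w, γ.1 *ᵥ sl i v w = sl i v (A.1 *ᵥ w) + sl i e (slM J γ.1 i f v *ᵥ w)) :
    ∃ γ' : GL (κ → Fin k) F, Lev J M γ' ∧ adjJ (gT κ J) γ'.1 * γ'.1 = μ • 1 ∧
      (∀ w, γ'.1 *ᵥ sl i e w = sl i e (A.1 *ᵥ w)) ∧
      ∀ v ∈ Hyp J e f, ∀ w, γ'.1 *ᵥ sl i v w = sl i v (A.1 *ᵥ w) := by
  classical
  have hJ := hM.og
  have hk := hM.good.three
  have hR := gT_og (κ := Rest i) hJ
  haveI : Nonempty (Fin k) := ⟨⟨0, by omega⟩⟩
  set Q : (Fin k → F) →ₗ[F] TMat F (Rest i) k := (LinearMap.mulLeft F A⁻¹.1).comp (slM J γ.1 i f) with hQ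
  have hQmul : ∀ v w, A.1 *ᵥ (Q v *ᵥ w) = slM J γ.1 i f v *ᵥ w := fun v w => by
    rw [hQ, LinearMap.comp_apply, LinearMap.mulLeft_apply, ← Matrix.mulVec_mulVec, mulVec_inv_mulVec]
  -- the differences under the Levi elements are scalar
  have hdiff : ∀ C ∈ OmG J, ∀ l : F, l ≠ 0 → C.1 *ᵥ e = l • e → C.1 *ᵥ f = l⁻¹ • f → ∀ v ∈ Hyp J e f,
      ∃ d : F, Q v - l⁻¹ • Q (C.1 *ᵥ v) = d • 1 := by
    intro C hC l hl hCe hCf v hvH
    set y := opU i C
    have hyM : y ∈ M := hM.opU_mem i hC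
    have hCH : ∀ v ∈ Hyp J e f, C.1 *ᵥ v ∈ Hyp J e f := fun v hv =>
      Pair.mem_Hyp_mulVec hJ (OmG_le hC) hl (inv_ne_zero hl) hCe hCf hv
    have hmove : ∀ x x', y.1 *ᵥ (γ.1 *ᵥ x) = γ.1 *ᵥ (y.1 *ᵥ x') → (y⁻¹ * (γ⁻¹ * y * γ)).1 *ᵥ x = x' :=
      fun x x' h => by
        rw [Units.val_mul, Units.val_mul, Units.val_mul, ← Matrix.mulVec_mulVec, ← Matrix.mulVec_mulVec,
          ← Matrix.mulVec_mulVec, h, inv_mulVec_mulVec, inv_mulVec_mulVec]
    have hEl : El J M i e f (Q - l⁻¹ • Q.comp C.1.mulVecLin) := by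
      refine ⟨_, mul_mem (inv_mem hyM) (hγ.conj _ ⟨opU_mem_wreathT i _, opU_mem_OmG hJ i hC⟩),
        fun w => hmove _ _ ?_, fun v hvH w => hmove _ _ ?_⟩
      · simp only [y, opU_coe, he, op_sl, hCe, sl_smul, Matrix.mulVec_smul]
      · simp only [y, opU_coe, Matrix.mulVec_add, hv v hvH, op_sl, hCe, sl_smul, Matrix.mulVec_smul,
          hv _ (hCH v hvH), he, LinearMap.sub_apply, LinearMap.smul_apply, LinearMap.comp_apply,
          Matrix.mulVecLin_apply, Matrix.sub_mulVec, Matrix.smul_mulVec, Matrix.mulVec_sub, hQmul, map_sub, map_smul,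
          smul_sub, smul_smul, mul_inv_cancel₀ hl, inv_mul_cancel₀ hl, one_smul]
        abel
    exact hM.el_scalar hp hc0 hEl v hvH
  -- all parameters are scalar
  have hsc : ∀ v ∈ Hyp J e f, ∃ d : F, Q v = d • 1 := by
    intro v hvH
    by_cases h3 : Fintype.card F = 3
    · have hk3 : k ≠ 3 := hM.good.ex (by rw [Nat.card_eq_fintype_card, h3])
      set S : Submodule F (TMat F (Rest i) k) := F ∙ (1 : TMat F (Rest i) k)
      have h0 := (hp.nd hJ).eq_zero_of_aniso hJ (S.mkQ ∘ₗ Q) (fun b hb hbb => by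
        obtain ⟨c, hc, hbc, hcc⟩ := hp.exists_same hJ hb hbb (by
          rw [Fintype.card_fin]
          by_cases h5 : 5 ≤ k
          · exact Or.inl h5
          · exact Or.inr ⟨by omega, h3, hM.good.plane (by omega)⟩)
        have hcc0 : bJ J c c ≠ 0 := hcc ▸ hbb
        obtain ⟨C, hC, hCe, hCf, hCb, -⟩ := hp.exists_levi hJ hb hc hbb hcc0 hbc
        rw [hcc, div_self hbb] at hCe hCf
        obtain ⟨d, hd⟩ := hdiff C hC 1 one_ne_zero hCe (by rw [inv_one]; exact hCf) b hb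
        rw [inv_one, one_smul, hCb, map_neg, sub_neg_eq_add, ← two_smul F] at hd
        rw [LinearMap.comp_apply, Submodule.mkQ_apply, Submodule.Quotient.mk_eq_zero,
          ← inv_smul_smul₀ hJ.two (Q b), hd]
        exact S.smul_mem _ (S.smul_mem _ (Submodule.mem_span_singleton_self _))) hvH
      rw [LinearMap.comp_apply, Submodule.mkQ_apply, Submodule.Quotient.mk_eq_zero] at h0
      obtain ⟨c, hc⟩ := Submodule.mem_span_singleton.1 h0
      exact ⟨c, hc.symm⟩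
    · obtain ⟨r, hr⟩ : ∃ r : F, r ∉ ({0, 1, -1} : Finset F) := by
        by_contra! hc
        have h1 : Fintype.card F ≤ ({0, 1, -1} : Finset F).card := Finset.card_le_card fun z _ => hc z
        have h2 := h1.trans Finset.card_le_three
        have h5 := Fintype.one_lt_card (α := F)
        have : Fintype.card F ≠ 2 := fun e2 => hJ.two (by
          have := FiniteField.cast_card_eq_zero F
          rw [e2] at this
          exact_mod_cast this)
        omega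
      simp only [Finset.mem_insert, Finset.mem_singleton, not_or] at hr
      have hl := mul_ne_zero hr.1 hr.1
      have hl1 : 1 - (r * r)⁻¹ ≠ 0 := fun h0 => by
        have h1 : r * r = 1 := by rw [← inv_inv (r * r), ← sub_eq_zero.1 h0, inv_one]
        rcases mul_self_eq_one_iff.1 h1 with h2 | h2
        · exact hr.2.1 h2
        · exact hr.2.2 h2
      obtain ⟨d, hd⟩ := hdiff _ (tG_sq_mem_OmG hJ hp hr.1) (r * r) hl (tM_left hJ hp _) (tM_right hp _) v hvH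
      rw [show (tG hJ hp hl).1 *ᵥ v = v from tM_fix hvH _] at hd
      refine ⟨(1 - (r * r)⁻¹)⁻¹ * d, ?_⟩
      rw [mul_smul, ← hd, eq_inv_smul_iff₀ hl1, sub_smul, one_smul]
  obtain ⟨w₀, hw₀⟩ : ∃ w₀ : (Rest i → Fin k) → F, w₀ ≠ 0 := ⟨fun _ => 1, fun h0 =>
    one_ne_zero (congrFun h0 (fun _ => ⟨0, by omega⟩))⟩
  obtain ⟨w₁, hw₁⟩ := hR.exists_dual hw₀
  obtain ⟨c, hc, hcv⟩ := hp.exists_riesz hJ
    { toFun := fun v => bJ (gT (Rest i) J) w₁ (Q v *ᵥ w₀)
      map_add' := fun u v => by rw [map_add, Matrix.add_mulVec, bJ_add_right]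
      map_smul' := fun r v => by rw [map_smul, Matrix.smul_mulVec, bJ_smul_right, RingHom.id_apply, smul_eq_mul] }
  have hQc : ∀ v ∈ Hyp J e f, Q v = bJ J c v • 1 := fun v hvH => by
    obtain ⟨d, hd⟩ := hsc v hvH
    have h1 := hcv v hvH
    simp only [LinearMap.coe_mk, AddHom.coe_mk, hd, Matrix.smul_mulVec, Matrix.one_mulVec, bJ_smul_right, hw₁,
      mul_one] at h1
    rw [hd, h1]
  have hec' : bJ J e (-c) = 0 := by rw [bJ_neg_right, (mem_Hyp.1 hc).1, neg_zero]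
  set s := opU i (uH hJ hp.ee hec')
  have hsI : s ∈ IsoG (gT κ J) := opU_mem_IsoG hJ i (uH_mem_IsoG hJ hp.ee hec')
  refine ⟨s * γ, hγ.lmul hJ (simG_of_iso hJ hsI) (opU_mem_wreathT i _), ?_, fun w => ?_, fun v hvH w => ?_⟩
  · rw [Units.val_mul, adjJ_mul (gT_og hJ), Matrix.mul_assoc, ← Matrix.mul_assoc (adjJ _ s.1),
      (mem_IsoG_iff (gT_og hJ)).1 hsI, Matrix.one_mul, hsim]
  · rw [Units.val_mul, ← Matrix.mulVec_mulVec, he, opU_uH_mulVec hJ hp.ee hec']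
    simp [ct_sl, hp.ee, hJ.swap (-c) e, hec']
  · rw [Units.val_mul, ← Matrix.mulVec_mulVec, hv v hvH, ← hQmul, hQc v hvH, Matrix.smul_mulVec, Matrix.one_mulVec,
      Matrix.mulVec_smul, Matrix.mulVec_add, opU_uH_mulVec hJ hp.ee hec', opU_uH_mulVec hJ hp.ee hec']
    simp [ct_sl, hp.ee, (mem_Hyp.1 hvH).1, hJ.swap (-c) e, hec', sl_smul, ct_smul]

/-! ### The third step: the Levi factor -/

/-- The central element of a slice. -/
def nU (i : κ) (he : bJ J e e = 0) (S : TMat F (Rest i) k) : GL (κ → Fin k) F :=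
  ⟨1 + op i (eP J e) * liftRest i S, 1 - op i (eP J e) * liftRest i S, by
    rw [Matrix.mul_sub, Matrix.mul_one, Matrix.add_mul, Matrix.one_mul, opE_lift_mul he]; abel, by
    rw [Matrix.sub_mul, Matrix.one_mul, Matrix.mul_add, Matrix.mul_one, opE_lift_mul he]; abel⟩

theorem nU_coe (i : κ) (he : bJ J e e = 0) (S : TMat F (Rest i) k) :
    (nU i he S).1 = 1 + op i (eP J e) * liftRest i S := rfl

theorem nU_mul (i : κ) (he : bJ J e e = 0) (S S' : TMat F (Rest i) k) :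
    nU i he S * nU i he S' = nU i he (S + S') := by
  refine Units.ext ?_
  rw [Units.val_mul, nU_coe, nU_coe, nU_coe, Matrix.add_mul, Matrix.one_mul, Matrix.mul_add, Matrix.mul_one,
    opE_lift_mul he, liftRest_add, Matrix.mul_add]
  abel

theorem nU_zero (i : κ) (he : bJ J e e = 0) : nU i he (0 : TMat F (Rest i) k) = 1 := by
  refine Units.ext ?_
  rw [nU_coe, liftRest_zero, Matrix.mul_zero, add_zero, Units.val_one]

theorem nU_inv (i : κ) (he : bJ J e e = 0) (S : TMat F (Rest i) k) : (nU i he S)⁻¹ = nU i he (-S) :=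
  inv_eq_of_mul_eq_one_right (by rw [nU_mul, add_neg_cancel, nU_zero])

theorem nU_lift (i : κ) (he : bJ J e e = 0) (S : TMat F (Rest i) k) (G : GL (Rest i → Fin k) F) :
    nU i he S * Units.map (liftRest i) G = Units.map (liftRest i) G * nU i he (Ad G⁻¹ S) := by
  refine Units.ext ?_
  rw [Units.val_mul, Units.val_mul, Units.coe_map, nU_coe, nU_coe, Matrix.add_mul, Matrix.mul_add, Matrix.one_mul,
    Matrix.mul_one, ← Matrix.mul_assoc (liftRest i G.1), ← op_comm_liftRest, Matrix.mul_assoc, Matrix.mul_assoc,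
    ← map_mul, ← map_mul, Ad_apply, inv_inv, ← Matrix.mul_assoc G.1, ← Matrix.mul_assoc G.1, ← Units.val_mul,
    mul_inv_cancel, Units.val_one, Matrix.one_mul]

theorem lift_mul_nU (i : κ) (he : bJ J e e = 0) (S S' : TMat F (Rest i) k) (G G' : GL (Rest i → Fin k) F) :
    Units.map (liftRest i) G * nU i he S * (Units.map (liftRest i) G' * nU i he S') =
      Units.map (liftRest i) (G * G') * nU i he (Ad G'⁻¹ S + S') := by
  rw [mul_assoc, ← mul_assoc (nU i he S), nU_lift, map_mul, ← nU_mul]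
  group

/-- The projection of an overgroup on the other factors, up to the centre of a slice. -/
def projG (J : Matrix (Fin k) (Fin k) F) (M : Subgroup (GL (κ → Fin k) F)) (i : κ) (he : bJ J e e = 0) :
    Subgroup (GL (Rest i → Fin k) F) where
  carrier := {G | G ∈ IsoG (gT (Rest i) J) ∧ ∃ S, Units.map (liftRest i) G * nU i he S ∈ M}
  one_mem' := ⟨one_mem _, 0, by rw [nU_zero, map_one, mul_one]; exact M.one_mem⟩
  mul_mem' := fun {G G'} ⟨hG, S, h⟩ ⟨hG', S', h'⟩ =>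
    ⟨mul_mem hG hG', Ad G'⁻¹ S + S', by rw [← lift_mul_nU]; exact mul_mem h h'⟩
  inv_mem' := fun {G} ⟨hG, S, h⟩ => ⟨inv_mem hG, Ad G⁻¹⁻¹ (-S), by
    rw [← nU_lift, ← nU_inv, map_inv, ← _root_.mul_inv_rev]
    exact inv_mem h⟩

theorem Over.projG_over (hM : Over J M) (i : κ) (he : bJ J e e = 0) : Over J (projG J M i he) := by
  refine ⟨hM.good, fun G hG => hG.1, fun G hG => ⟨OmG_le hG.2, 0, ?_⟩⟩
  rw [nU_zero, mul_one]
  exact hM.ge ⟨liftRest_mem_wreathT i hG.1, liftRest_mem_OmG hM.og i hG.2⟩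

/-- A matrix commuting with the Siegel elements of the factors is a scalar. -/
theorem scalar_of_comm_siegel (hJ : OG J) (hk : 3 ≤ k) {S : TMat F κ k}
    (h : ∀ G ∈ wreathT F κ k ⊓ OmG (gT κ J), G.1 * S = S * G.1) : ∃ c : F, S = c • 1 := by
  refine scalar_of_comm_all hJ hk fun l e he => ?_
  rcases eq_or_ne e 0 with rfl | he0
  · simp [eP, dyad, op_zero]
  obtain ⟨f, hp⟩ := hJ.exists_pair_of he0 he
  obtain ⟨a, ha, haa⟩ := hp.exists_aniso_hyp hJ hk
  have hea := (mem_Hyp.1 ha).1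
  have hea' : bJ J e (-a) = 0 := by rw [bJ_neg_right, hea, neg_zero]
  have h1 : ∀ (b : Fin k → F) (hb : bJ J e b = 0), op l (uP J e b 1) * S = S * op l (uP J e b 1) := fun b hb =>
    h (opU l (uH hJ he hb)) ⟨opU_mem_wreathT l _, opU_mem_OmG hJ l (uH_mem_OmG hJ he hb)⟩
  have hsum : uP J e a 1 + uP J e (-a) 1 - (2 : F) • 1 = (-bJ J a a) • eP J e := by
    have hn : nP J e a * nP J e a = -bJ J a a • eP J e := nP_mul_nP he (by rw [hJ.swap, hea]) hea
    rw [← neg_one_smul F a, ← uP_smul, uP, uP, hn]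
    match_scalars <;> field_simp [hJ.two] <;> ring
  have h2 : op l ((-bJ J a a) • eP J e) * S = S * op l ((-bJ J a a) • eP J e) := by
    rw [← hsum, op_sub, op_add, op_smul, map_one, Matrix.sub_mul, Matrix.mul_sub, Matrix.add_mul, Matrix.mul_add,
      h1 a hea, h1 (-a) hea', Matrix.smul_mul, Matrix.mul_smul, Matrix.one_mul, Matrix.mul_one]
  rw [op_smul, Matrix.smul_mul, Matrix.mul_smul] at h2
  exact smul_right_injective _ (neg_ne_zero.2 haa) h2

theorem Over.lev_levi (hM : Over J M) (hp : Pair J e f) (hc0 : ∀ S ∈ centSub M i hp.ee, S = 0)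
    (IH : ∀ M' : Subgroup (GL (Rest i → Fin k) F), Over J M' → ∀ g, SimG J g → ConjIn J M' g →
      g ∈ wreathT F (Rest i) k ∨ OmG (gT (Rest i) J) ≤ M')
    (hγ : Lev J M γ) {A : GL (Rest i → Fin k) F} {μ : F} (hμ : μ ≠ 0)
    (hAsim : adjJ (gT (Rest i) J) A.1 * A.1 = μ • 1) (hsim : adjJ (gT κ J) γ.1 * γ.1 = μ • 1)
    (he : ∀ w, γ.1 *ᵥ sl i e w = sl i e (A.1 *ᵥ w))
    (hv : ∀ v ∈ Hyp J e f, ∀ w, γ.1 *ᵥ sl i v w = sl i v (A.1 *ᵥ w)) : RestBig M := by
  classical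
  have hJ := hM.og
  have hk := hM.good.three
  have hR := gT_og (κ := Rest i) hJ
  haveI : Nonempty (Fin k) := ⟨⟨0, by omega⟩⟩
  have hbν := (adjJ_mul_self_iff (gT_og hJ)).1 hsim
  have hbA := (adjJ_mul_self_iff hR).1 hAsim
  have hsurj : ∀ {X Y : (Rest i → Fin k) → F}, (∀ u, bJ (gT (Rest i) J) (A.1 *ᵥ u) X = bJ (gT (Rest i) J) (A.1 *ᵥ u) Y) →
      X = Y := fun h => hR.ext fun u => by
    have := h (A⁻¹.1 *ᵥ u)
    rwa [mulVec_inv_mulVec] at this
  have hef : ∀ w, ct J i e (γ.1 *ᵥ sl i f w) = A.1 *ᵥ w := fun w => hsurj fun u => by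
    rw [← bJ_sl hJ, ← he, hbν, bJ_sl_sl hJ, hp.ef, one_mul, hbA]
  have hvf : ∀ v ∈ Hyp J e f, ∀ w, ct J i v (γ.1 *ᵥ sl i f w) = 0 := fun v hvH w => hsurj fun u => by
    rw [← bJ_sl hJ, ← hv v hvH, hbν, bJ_sl_sl hJ, hJ.swap v f, (mem_Hyp.1 hvH).2, zero_mul, mul_zero, bJ_zero_right]
  set S := A⁻¹.1 * slM J γ.1 i f f with hSdef
  have hf : ∀ w, γ.1 *ᵥ sl i f w = sl i f (A.1 *ᵥ w) + sl i e (A.1 *ᵥ (S *ᵥ w)) := fun w => by
    rw [hSdef, ← Matrix.mulVec_mulVec, mulVec_inv_mulVec, slM_mulVec]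
    refine hp.ext_ct hJ (i := i) ?_ ?_ fun v hvH => ?_
    · simp [hef, ct_add, ct_sl, hp.ef, hp.ee]
    · simp [ct_add, ct_sl, hp.ff, hp.fe hJ]
    · simp [hvf v hvH, ct_add, ct_sl, hJ.swap v f, (mem_Hyp.1 hvH).2, hJ.swap v e, (mem_Hyp.1 hvH).1]
  set L : GL (Rest i → Fin k) F →* GL (κ → Fin k) F := Units.map (liftRest i)
  have hγeq : γ = L A * nU i hp.ee S := by
    have hR2 : ∀ x w, (L A * nU i hp.ee S).1 *ᵥ sl i x w =
        sl i x (A.1 *ᵥ w) + sl i e (A.1 *ᵥ (S *ᵥ (bJ J e x • w))) := fun x w => by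
      show (liftRest i A.1 * (1 + op i (eP J e) * liftRest i S)) *ᵥ sl i x w = _
      rw [← Matrix.mulVec_mulVec _ (liftRest i A.1), Matrix.add_mulVec, Matrix.one_mulVec,
        opE_lift_mulVec _ _ hJ, ct_sl, Matrix.mulVec_add, lift_sl, lift_sl]
    refine Units.ext (hp.ext_sl hJ (i := i) (fun w => ?_) (fun w => ?_) fun v hvH w => ?_)
    · rw [he, hR2, hp.ee, zero_smul, Matrix.mulVec_zero, Matrix.mulVec_zero, map_zero, add_zero]
    · rw [hR2, hp.ef, one_smul, hf]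
    · rw [hv v hvH, hR2, (mem_Hyp.1 hvH).1, zero_smul, Matrix.mulVec_zero, Matrix.mulVec_zero, map_zero, add_zero]
  have hskew : adjJ (gT (Rest i) J) S = -S := Matrix.ext_iff_mulVec.2 fun w => hR.ext fun u => by
    have h1 := hbν (sl i f u) (sl i f w)
    simp only [hf, bJ_add_left, bJ_add_right, bJ_sl_sl hJ, hp.ff, hp.fe hJ, hp.ef, hp.ee, hbA] at h1
    rw [Matrix.neg_mulVec, bJ_neg_right, ← bJ_mulVec hR]
    exact mul_left_cancel₀ hμ (by linear_combination h1)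
  have hAi : SimG J A⁻¹ := SimG.inv hJ ⟨μ, hμ, hAsim⟩
  have hkey : ∀ D ∈ wreathT F (Rest i) k ⊓ OmG (gT (Rest i) J),
      L (A⁻¹ * D * A) * nU i hp.ee (S - Ad (A⁻¹ * D * A)⁻¹ S) ∈ M := fun D hD => by
    convert hγ.conj (L D) ⟨liftRest_mem_wreathT i hD.1, liftRest_mem_OmG hJ i hD.2⟩ using 1
    rw [sub_eq_neg_add, ← map_neg, ← nU_mul, ← mul_assoc, ← nU_lift, hγeq, _root_.mul_inv_rev, nU_inv]
    simp only [L, map_mul, map_inv, mul_assoc]
  have hcent : ∀ {T : TMat F (Rest i) k}, nU i hp.ee T ∈ M → T = 0 := fun h => hc0 _ ⟨_, h, rfl⟩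
  have hAconj : ConjIn J (projG J M i hp.ee) A⁻¹ := fun D hD => by
    rw [inv_inv]
    refine ⟨?_, _, hkey D hD⟩
    have := hAi.conj_iso hJ (OmG_le hD.2)
    rwa [inv_inv] at this
  haveI : Nonempty (Rest i) := by
    by_contra hne
    rw [not_nonempty_iff] at hne
    haveI : Subsingleton κ := ⟨fun a b => by
      by_contra hab
      by_cases ha : a = i
      · exact hne.false ⟨b, fun hb => hab (ha.trans hb.symm)⟩
      · exact hne.false ⟨a, ha⟩⟩
    haveI : Nonempty κ := ⟨i⟩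
    exact hγ.notT (mem_wreathT_one (Fintype.card_le_one_iff_subsingleton.2 inferInstance) γ)
  have hnotT : A ∉ wreathT F (Rest i) k := fun hAT => by
    have hS0 : ∃ c : F, S = c • 1 := scalar_of_comm_siegel hJ hk fun G hG => by
      have hD := SimG.conj_stab hJ ⟨μ, hμ, hAsim⟩ hAT hG
      have h1 := hkey _ hD
      rw [show A⁻¹ * (A * G * A⁻¹) * A = G by group] at h1
      have h2 : nU i hp.ee (S - Ad G⁻¹ S) ∈ M := by
        have := mul_mem (inv_mem (hM.ge ⟨liftRest_mem_wreathT i hG.1, liftRest_mem_OmG hJ i hG.2⟩)) h1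
        rwa [← mul_assoc, inv_mul_cancel, one_mul] at this
      have h3 := sub_eq_zero.1 (hcent h2)
      rw [Ad_apply, inv_inv] at h3
      conv_lhs => rw [h3, ← Matrix.mul_assoc, ← Matrix.mul_assoc, ← Units.val_mul, mul_inv_cancel, Units.val_one,
        Matrix.one_mul]
    obtain ⟨c, hc⟩ := hS0
    have h2 : ((2 : F) * c) • (1 : TMat F (Rest i) k) = 0 := by
      rw [hc, adjJ_smul, adjJ_one hR] at hskew
      linear_combination (norm := module) hskew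
    have hc' : c = 0 := (mul_eq_zero.1 ((smul_eq_zero.1 h2).resolve_right one_ne_zero)).resolve_left hJ.two
    rw [hc', zero_smul] at hc
    exact hγ.notT (by rw [hγeq, hc, nU_zero, mul_one]; exact liftRest_mem_wreathT i hAT)
  have hΩ : OmG (gT (Rest i) J) ≤ projG J M i hp.ee :=
    (IH _ (hM.projG_over i hp.ee) _ hAi hAconj).resolve_left fun h => hnotT (by simpa using inv_mem h)
  have hcard : 2 ≤ Fintype.card (Rest i) := by
    by_contra hlt
    exact hnotT (mem_wreathT_one (by omega) A)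
  obtain ⟨b, b', hbb, hb', hbb'⟩ := hJ.exists_two_same (by rw [Fintype.card_fin]; exact hk)
  obtain ⟨G₀, hG₀, hG₀T, hG₀2, hG₀eq⟩ := exists_invol (κ := Rest i) hJ hk hcard hbb hb' hbb'
  obtain ⟨-, S', hS'⟩ := hΩ hG₀
  set π := lineP J b + lineP J b'
  have hb'0 : bJ J b' b' ≠ 0 := hb' ▸ hbb
  have hcomm : ∀ m : Rest i, op m π * S' = S' * op m π := fun m => by
    set K : GL (Rest i → Fin k) F := opU m (rG J hbb * rG J hb'0) with hK
    have hKT : K ∈ wreathT F (Rest i) k ⊓ OmG (gT (Rest i) J) :=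
      ⟨opU_mem_wreathT m _, opU_mem_OmG hJ m (rG_mul_mem_OmG hJ hbb hb'0 hb')⟩
    have hKπ : K.1 = 1 - (2 : F) • op m π := by
      rw [hK, opU_coe]
      show op m (rM J b * rM J b') = _
      rw [rM_eq_lineP, rM_eq_lineP, show (1 - (2 : F) • lineP J b) * (1 - (2 : F) • lineP J b') = 1 - (2 : F) • π by
        simp only [π, Matrix.sub_mul, Matrix.mul_sub, Matrix.one_mul, Matrix.mul_one, Matrix.smul_mul,
          Matrix.mul_smul, lineP_mul_zero hbb', smul_zero, sub_zero, smul_add]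
        abel, op_sub, map_one, op_smul]
    have hKG : K * G₀ = G₀ * K := by
      refine Units.ext ?_
      have hππ : op m π * tens (fun _ : Rest i => π) = tens (fun _ : Rest i => π) * op m π := by
        rw [op_eq_tens, tens_mul_tens, tens_mul_tens]
        congr 1
        funext z
        by_cases hz : z = m
        · subst hz; simp
        · simp [hz]
      rw [Units.val_mul, Units.val_mul, hKπ, hG₀eq]
      simp only [Matrix.sub_mul, Matrix.mul_sub, Matrix.one_mul, Matrix.mul_one, Matrix.smul_mul, Matrix.mul_smul,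
        hππ]
      module
    have hLK : L K ∈ M := hM.ge ⟨liftRest_mem_wreathT i hKT.1, liftRest_mem_OmG hJ i hKT.2⟩
    have h1 : L G₀ * nU i hp.ee (Ad K S') ∈ M := by
      convert mul_mem (mul_mem hLK hS') (inv_mem hLK) using 1
      rw [mul_assoc, mul_assoc, ← map_inv, nU_lift, inv_inv, ← mul_assoc, ← mul_assoc, ← map_mul, ← map_mul, hKG,
        mul_assoc, mul_inv_cancel, mul_one]
    have h2 : nU i hp.ee (Ad K S' - S') ∈ M := by
      convert mul_mem (inv_mem hS') h1 using 1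
      rw [_root_.mul_inv_rev, nU_inv, mul_assoc, ← mul_assoc _ (L G₀), inv_mul_cancel, one_mul, nU_mul, sub_eq_neg_add]
    have h3 := congrArg (· * K.1) (sub_eq_zero.1 (hcent h2))
    simp only [Ad_apply, Matrix.mul_assoc, ← Units.val_mul, inv_mul_cancel, Units.val_one, Matrix.mul_one] at h3
    rw [hKπ, Matrix.sub_mul, Matrix.mul_sub, Matrix.one_mul, Matrix.mul_one, sub_right_inj, Matrix.smul_mul,
      Matrix.mul_smul] at h3
    exact smul_right_injective _ hJ.two h3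
  have htens : tens (fun _ : Rest i => π) * S' = S' * tens (fun _ : Rest i => π) := by
    suffices H : ∀ s : Finset (Rest i), tens (fun z => if z ∈ s then π else 1) * S' =
        S' * tens (fun z => if z ∈ s then π else 1) by simpa using H Finset.univ
    intro s
    induction s using Finset.induction with
    | empty =>
      simp only [Finset.notMem_empty, if_false]
      rw [show (fun _ : Rest i => (1 : Matrix (Fin k) (Fin k) F)) = 1 from rfl, map_one, Matrix.one_mul, Matrix.mul_one]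
    | @insert a s has ih =>
      have e1 : tens (fun z => if z ∈ insert a s then π else 1) = tens (fun z => if z ∈ s then π else 1) * op a π := by
        rw [tens_mul_op]
        congr 1
        funext z
        by_cases hz : z = a
        · subst hz; simp [has]
        · simp [hz]
      rw [e1, Matrix.mul_assoc, hcomm, ← Matrix.mul_assoc, ih, Matrix.mul_assoc]
  have hS'0 : S' = 0 := by
    have hG₀S : Ad G₀⁻¹ S' = S' := by
      have hsc : G₀.1 * S' = S' * G₀.1 := by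
        rw [hG₀eq, Matrix.sub_mul, Matrix.mul_sub, Matrix.one_mul, Matrix.mul_one, Matrix.smul_mul, Matrix.mul_smul,
          htens]
      rw [Ad_apply, inv_inv, Matrix.mul_assoc, ← hsc, ← Matrix.mul_assoc, ← Units.val_mul, inv_mul_cancel,
        Units.val_one, Matrix.one_mul]
    have h1 : nU i hp.ee (S' + S') ∈ M := by
      have := mul_mem hS' hS'
      rwa [lift_mul_nU, hG₀2, map_one, one_mul, hG₀S] at this
    have h2 := hcent h1
    rw [← two_smul F] at h2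
    exact (smul_eq_zero.1 h2).resolve_left hJ.two
  rw [hS'0, nU_zero, mul_one] at hS'
  exact ⟨i, fun hle => hG₀T (hle (Subgroup.mem_comap.2 hS'))⟩

/-- A map of slices outside the stabiliser gives a pure element or a big group on the other factors. -/
theorem Over.levi_cases (hM : Over J M)
    (IH : ∀ (i : κ) (M' : Subgroup (GL (Rest i → Fin k) F)), Over J M' → ∀ g, SimG J g → ConjIn J M' g →
      g ∈ wreathT F (Rest i) k ∨ OmG (gT (Rest i) J) ≤ M')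
    {g : GL (κ → Fin k) F} (hg : SimG J g) (hgC : ConjIn J M g) (hgT : g ∉ wreathT F κ k) (hs : SliceTo J g) :
    RestBig M ∨ PureM J M := by
  classical
  have hJ := hM.og
  obtain ⟨i, j, e₀, x, he0, hee, hx0, hxx, hmap⟩ := hs
  obtain ⟨C, hC, hCx⟩ := hJ.exists_map_singular hx0 he0 hxx hee
  -- a monomial isometry carrying the image slice back
  set w : GL (κ → Fin k) F := opU i C * permU (Equiv.swap i j) with hw
  have hwI : w ∈ IsoG (gT κ J) := mul_mem (opU_mem_IsoG hJ i hC) (permU_mem_IsoG hJ _)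
  have hwT : w ∈ wreathT F κ k := mul_mem (opU_mem_wreathT i C) (permU_mem _)
  have hwmap : (slice j x).map w.1.mulVecLin = slice i e₀ := by
    refine Submodule.eq_of_le_of_finrank_le ?_ ?_
    · rintro _ ⟨_, ⟨u, rfl⟩, rfl⟩
      obtain ⟨v, hv⟩ := hJ.exists_dual hx0
      have h1 : sl j x u = op j (dyad J x v) *ᵥ sl j x u := by rw [op_sl, dyad_mulVec, hv, one_smul]
      rw [h1, Matrix.mulVecLin_apply, Matrix.mulVec_mulVec, hw, Units.val_mul, permU_coe, Matrix.mul_assoc,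
        permM_mul_op, Equiv.swap_apply_right, ← Matrix.mul_assoc, ← Matrix.mulVec_mulVec, ← Matrix.mulVec_mulVec,
        op_dyad_mulVec, opU_coe, op_sl, hCx]
      exact ⟨_, rfl⟩
    · rw [finrank_map_slice w j hx0, finrank_slice i he0, card_rest i j]
  set γ := (g * w)⁻¹ with hγdef
  have hγ : Lev J M γ := by
    refine ⟨(hg.mul hJ (simG_of_iso hJ hwI)).inv hJ, fun y hy => ?_, fun hT => hgT ?_⟩
    · have h1 := hgC _ ((simG_of_iso hJ hwI).conj_stab hJ hwT hy)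
      convert h1 using 1
      rw [hγdef]
      group
    · have := mul_mem (inv_mem hT) (inv_mem hwT)
      simpa [hγdef] using this
  have hfix : (slice j x).map γ.1.mulVecLin = slice j x := by
    have h2 : (slice j x).map (g * w).1.mulVecLin = slice j x := by
      rw [Units.val_mul, Matrix.mulVecLin_mul, Submodule.map_comp, hwmap, hmap]
    conv_lhs => rw [← h2]
    rw [← Submodule.map_comp, ← Matrix.mulVecLin_mul, hγdef, ← Units.val_mul, inv_mul_cancel, Units.val_one,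
      Matrix.mulVecLin_one, Submodule.map_id]
  obtain ⟨f, hp⟩ := hJ.exists_pair_of hx0 hxx
  by_cases hc : ∃ S ∈ centSub M j hp.ee, S ≠ 0
  · obtain ⟨S, hS, hS0⟩ := hc
    exact hM.centre_cases hp hS hS0
  push Not at hc
  obtain ⟨γ₁, A, μ, hμ, hγ₁, hA, hs₁, he₁, hv₁⟩ := hM.lev_middle hp hc hγ hfix
  obtain ⟨γ₂, hγ₂, hs₂, he₂, hv₂⟩ := hM.lev_radical hp hc hγ₁ hs₁ he₁ hv₁
  exact Or.inl (hM.lev_levi hp hc (IH j) hγ₂ hμ hA hs₂ he₂ hv₂)

end CfsgLib.Classical.WreathMaxO
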