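import Cfsg.Agent.Lib.Classical.WreathMaxO.SliceMap
import Cfsg.Agent.Lib.Classical.WreathMax.Climb

/-!
# Operators on the other factors, pure vectors, and commutators of square-zero elements
-/

set_option autoImplicit false
set_option linter.unusedSectionVars false

open Matrix Module
open scoped Kronecker

namespace CfsgLib.Classical.WreathMaxO

open CfsgLib.Classical.WreathMax
open CfsgLib.Classical.WreathMaxSp (pv tens_mulVec_pv permM_mulVec_pv pv_ne_zero pv_dot not_two_differ)

variable {F : Type*} [Field F]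

section Single

variable {n : Type} [Fintype n] [DecidableEq n] {J : Matrix n n F} {M : Subgroup (GL n F)}

theorem nP_add_left (e e' b : n → F) : nP J (e + e') b = nP J e b + nP J e' b := by
  rw [nP, nP, nP, dyad_add_left, dyad_add_right]; abel

theorem nP_smul_left (c : F) (e b : n → F) : nP J (c • e) b = c • nP J e b := by
  rw [nP, nP, dyad_smul_left, dyad_smul_right, smul_sub]

theorem nP_swap (e b : n → F) : nP J b e = -nP J e b := by rw [nP, nP, neg_sub]

theorem nP_zero (e : n → F) : nP J e 0 = 0 := by simp [nP, dyad, bt]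

theorem nP_sub (e b b' : n → F) : nP J e (b - b') = nP J e b - nP J e b' := by
  rw [sub_eq_add_neg, nP_add, ← neg_one_smul F b', nP_smul, neg_one_smul, sub_eq_add_neg]

theorem uP_smul (e b : n → F) (s : F) : uP J e b s = uP J e (s • b) 1 := by
  simp only [uP, nP_smul, Matrix.smul_mul, Matrix.mul_smul, smul_smul, one_smul, one_mul]
  match_scalars <;> ring

theorem uP_mul_gen (hJ : OG J) {e b b' : n → F} (he : bJ J e e = 0) (hb : bJ J e b = 0) (hb' : bJ J e b' = 0) :
    uP J e b 1 * uP J e b' 1 = uP J e (b + b') 1 := by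
  have hbe : bJ J b e = 0 := by rw [hJ.swap, hb]
  have hbe' : bJ J b' e = 0 := by rw [hJ.swap, hb']
  have h1 := nP_mul_nP he hbe hb'
  have h1' := nP_mul_nP he hbe' hb
  have h2 := nP_mul_nP he hbe hb
  have h2' := nP_mul_nP he hbe' hb'
  simp only [uP, nP_add, Matrix.add_mul, Matrix.mul_add, Matrix.one_mul, Matrix.mul_one, Matrix.smul_mul,
    Matrix.mul_smul, one_smul, one_mul, h1, h1', h2, h2', nP_mul_eP he hbe, eP_mul_nP he hb', eP_sq he, smul_zero,
    smul_smul, hJ.swap b' b]
  match_scalars <;> field_simp [hJ.two] <;> ring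

/-- The Siegel element of a singular vector and an orthogonal one. -/
def uH (hJ : OG J) {e b : n → F} (he : bJ J e e = 0) (hb : bJ J e b = 0) : GL n F :=
  ⟨uP J e b 1, uP J e (-b) 1, by
    rw [uP_mul_gen hJ he hb (by simp [hb]), add_neg_cancel]; simp [uP, nP_zero], by
    rw [uP_mul_gen hJ he (by simp [hb]) hb, neg_add_cancel]; simp [uP, nP_zero]⟩

theorem uH_inv (hJ : OG J) {e b : n → F} (he : bJ J e e = 0) (hb : bJ J e b = 0) :
    (uH hJ he hb)⁻¹.1 = uP J e (-b) 1 := rfl

theorem uH_mem_IsoG (hJ : OG J) {e b : n → F} (he : bJ J e e = 0) (hb : bJ J e b = 0) :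
    uH hJ he hb ∈ IsoG J := by
  rw [mem_IsoG_iff hJ]
  show adjJ J (uP J e b 1) * uP J e b 1 = 1
  rw [adjJ_uP hJ, uP_smul, neg_one_smul, uP_mul_gen hJ he (by simp [hb]) hb, neg_add_cancel]
  simp [uP, nP_zero]

theorem uH_mem_OmG [Fintype F] (hJ : OG J) {e b : n → F} (he : bJ J e e = 0) (hb : bJ J e b = 0) :
    uH hJ he hb ∈ OmG J := by
  have hh : bJ J e ((2 : F)⁻¹ • b) = 0 := by rw [bJ_smul_right, hb, mul_zero]
  have h := sq_mem_OmG hJ (uH_mem_IsoG hJ he hh)
  convert h using 1
  refine Units.ext ?_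
  show uP J e b 1 = uP J e _ 1 * uP J e _ 1
  rw [uP_mul_gen hJ he hh hh, ← add_smul, ← two_mul, mul_inv_cancel₀ hJ.two, one_smul]

/-- The action of a Siegel element. -/
theorem uP_mulVec (hJ : OG J) {e b : n → F} (he : bJ J e e = 0) (hb : bJ J e b = 0) (v : n → F) :
    uP J e b 1 *ᵥ v = v + bJ J b v • e - bJ J e v • b - ((2 : F)⁻¹ * bJ J b b * bJ J e v) • e := by
  rw [uP, nP_mul_nP he (by rw [hJ.swap, hb]) hb, smul_smul, Matrix.add_mulVec, Matrix.add_mulVec, Matrix.one_mulVec,
    Matrix.smul_mulVec, Matrix.smul_mulVec, nP_mulVec, eP_mulVec]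
  match_scalars <;> field_simp [hJ.two] <;> ring

theorem _root_.CfsgLib.Classical.WreathMax.HasM.smul_natO {A : Matrix n n F} (h : HasM M A) (h0 : A * A = 0) (j : ℕ) : HasM M ((j : F) • A) := by
  induction j with
  | zero => rw [Nat.cast_zero, zero_smul]; exact HasM.zero
  | succ j ih =>
    rw [Nat.cast_succ, add_smul, one_smul]
    exact ih.add h (by rw [Matrix.smul_mul, h0, smul_zero])

theorem _root_.CfsgLib.Classical.WreathMax.HasM.commO {A B : Matrix n n F} (hA : HasM M A) (hB : HasM M B) (hA2 : A * A = 0) (hB2 : B * B = 0)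
    (hABA : A * B * A = 0) (hBAB : B * A * B = 0) : HasM M (A * B - B * A) := by
  obtain ⟨a, ha, ea⟩ := hA
  obtain ⟨b, hb, eb⟩ := hB
  obtain ⟨a', ha', ea'⟩ := HasM.neg ⟨a, ha, ea⟩ hA2
  obtain ⟨b', hb', eb'⟩ := HasM.neg ⟨b, hb, eb⟩ hB2
  refine ⟨a * b * a' * b', mul_mem (mul_mem (mul_mem ha hb) ha') hb', ?_⟩
  rw [Units.val_mul, Units.val_mul, Units.val_mul, ea, eb, ea', eb']
  have h1 : A * (B * A) = 0 := by rw [← Matrix.mul_assoc, hABA]
  have h2 : B * (A * B) = 0 := by rw [← Matrix.mul_assoc, hBAB]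
  have h3 : A * (B * (A * B)) = 0 := by rw [h2, Matrix.mul_zero]
  noncomm_ring [hA2, hB2, h1, h2, h3]

theorem _root_.CfsgLib.Classical.WreathMax.HasM.adO {A : Matrix n n F} (h : HasM M A) {g : GL n F} (hg : g ∈ M) : HasM M (Ad g A) := by
  rw [Ad_apply]; exact h.conj hg

/-- The commutator of two maps of pairs spanning singular planes. -/
theorem nP_comm (hJ : OG J) {p q r s : n → F} (hpr : bJ J p r = 0) (hps : bJ J p s = 0) (hqs : bJ J q s = 0) :
    nP J p q * nP J r s = bJ J q r • dyad J p s ∧ nP J r s * nP J p q = bJ J q r • dyad J s p := by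
  constructor <;>
    simp only [nP, Matrix.sub_mul, Matrix.mul_sub, dyad_mul, hJ.swap r p, hJ.swap s p, hJ.swap s q, hJ.swap r q, hpr,
      hps, hqs, zero_smul, sub_zero, zero_sub, neg_neg]

theorem nP_mul_zero (hJ : OG J) {p q r s : n → F} (hpr : bJ J p r = 0) (hps : bJ J p s = 0) (hqr : bJ J q r = 0)
    (hqs : bJ J q s = 0) : nP J p q * nP J r s = 0 := by
  rw [(nP_comm hJ hpr hps hqs).1, hqr, zero_smul]

/-- The commutator of root elements of singular planes. -/
theorem _root_.CfsgLib.Classical.WreathMax.HasM.nP_commO (hJ : OG J) {p q r s : n → F} {c d : F} (hA : HasM M (c • nP J p q))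
    (hB : HasM M (d • nP J r s)) (hpp : bJ J p p = 0) (hpq : bJ J p q = 0) (hqq : bJ J q q = 0) (hrr : bJ J r r = 0)
    (hrs : bJ J r s = 0) (hss : bJ J s s = 0) (hpr : bJ J p r = 0) (hps : bJ J p s = 0) (hqs : bJ J q s = 0) :
    HasM M ((c * d * bJ J q r) • nP J p s) := by
  obtain ⟨h1, h2⟩ := nP_comm hJ hpr hps hqs
  have hsp : bJ J s p = 0 := by rw [hJ.swap, hps]
  have hsq : bJ J s q = 0 := by rw [hJ.swap, hqs]
  have h := hA.commO hB
    (by rw [Matrix.smul_mul, Matrix.mul_smul, nP_mul_zero hJ hpp hpq (by rw [hJ.swap, hpq]) hqq, smul_zero, smul_zero])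
    (by rw [Matrix.smul_mul, Matrix.mul_smul, nP_mul_zero hJ hrr hrs (by rw [hJ.swap, hrs]) hss, smul_zero, smul_zero])
    (by
      simp only [Matrix.smul_mul, Matrix.mul_smul, h1]
      simp only [nP, Matrix.mul_sub, dyad_mul, hsp, hsq, zero_smul, sub_zero, smul_zero])
    (by
      simp only [Matrix.smul_mul, Matrix.mul_smul, h2]
      simp only [nP, Matrix.mul_sub, dyad_mul, hpr, hps, zero_smul, sub_zero, smul_zero])
  convert h using 1
  rw [Matrix.smul_mul, Matrix.mul_smul, Matrix.smul_mul, Matrix.mul_smul, h1, h2, nP, smul_sub]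
  match_scalars <;> ring

/-- An endomorphism commuting with the squares of the roots is a scalar. -/
theorem OG.scalar_of_comm [Fintype F] (hJ : OG J) (hn : 3 ≤ Fintype.card n) {T : Matrix n n F}
    (hT : ∀ e, bJ J e e = 0 → T * eP J e = eP J e * T) : ∃ c : F, T = c • 1 := by
  refine hJ.scalar_of_eigen hn fun e he => ?_
  rcases eq_or_ne e 0 with rfl | he0
  · rw [Matrix.mulVec_zero]; exact zero_mem _
  obtain ⟨f, hf⟩ := hJ.exists_pair_of he0 he
  have h := congrArg (· *ᵥ f) (hT e he)
  simp only [← Matrix.mulVec_mulVec, eP_mulVec, hf.ef, one_smul] at h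
  exact h ▸ Submodule.smul_mem _ _ (Submodule.mem_span_singleton_self e)

end Single

section Tensor

variable {κ : Type} [Fintype κ] [DecidableEq κ] {k : ℕ} {J : Matrix (Fin k) (Fin k) F}

theorem split_inj {i : κ} {X Y : TMat F κ k} (h : split i X = split i Y) : X = Y := (split i).injective h

theorem liftRest_add (i : κ) (W W' : TMat F (Rest i) k) : liftRest i (W + W') = liftRest i W + liftRest i W' :=
  split_inj (i := i) (by rw [map_add (split i), split_liftRest, split_liftRest, split_liftRest, Matrix.kronecker_add])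

theorem liftRest_smul (i : κ) (c : F) (W : TMat F (Rest i) k) : liftRest i (c • W) = c • liftRest i W :=
  split_inj (i := i) (by rw [map_smul (split i), split_liftRest, split_liftRest, Matrix.kronecker_smul])

theorem liftRest_zero (i : κ) : liftRest i (0 : TMat F (Rest i) k) = 0 := by
  rw [← zero_smul F (0 : TMat F (Rest i) k), liftRest_smul, zero_smul]

theorem liftRest_sub (i : κ) (W W' : TMat F (Rest i) k) : liftRest i (W - W') = liftRest i W - liftRest i W' := by
  rw [sub_eq_add_neg, liftRest_add, ← neg_one_smul F W', liftRest_smul, neg_one_smul, sub_eq_add_neg]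

theorem op_comm_liftRest (i : κ) (A : Matrix (Fin k) (Fin k) F) (W : TMat F (Rest i) k) :
    op i A * liftRest i W = liftRest i W * op i A :=
  split_inj (i := i) (by
    rw [map_mul, map_mul, split_op_self, split_liftRest, ← Matrix.mul_kronecker_mul, ← Matrix.mul_kronecker_mul,
      Matrix.one_mul, Matrix.mul_one, Matrix.one_mul, Matrix.mul_one])

theorem split_op_lift (i : κ) (A : Matrix (Fin k) (Fin k) F) (W : TMat F (Rest i) k) :
    split i (op i A * liftRest i W) = A ⊗ₖ W := by
  rw [map_mul, split_op_self, split_liftRest, ← Matrix.mul_kronecker_mul, Matrix.mul_one, Matrix.one_mul]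

theorem op_lift_mul (i : κ) (A A' : Matrix (Fin k) (Fin k) F) (W W' : TMat F (Rest i) k) :
    (op i A * liftRest i W) * (op i A' * liftRest i W') = op i (A * A') * liftRest i (W * W') :=
  split_inj (i := i) (by rw [map_mul, split_op_lift, split_op_lift, split_op_lift, Matrix.mul_kronecker_mul])

theorem eq_liftRest_of_comm (hk : 0 < k) (i : κ) {Y : TMat F κ k} (h : ∀ A, op i A * Y = Y * op i A) :
    ∃ W, Y = liftRest i W := by
  set o : Fin k := ⟨0, hk⟩
  refine ⟨Matrix.of fun u v => split i Y (o, u) (o, v), split_inj (i := i) ?_⟩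
  have key : ∀ A, (A ⊗ₖ (1 : TMat F (Rest i) k)) * split i Y = split i Y * (A ⊗ₖ (1 : TMat F (Rest i) k)) :=
    fun A => by rw [← split_op_self, ← map_mul, h, map_mul]
  ext ⟨a, u⟩ ⟨c, v⟩
  have h1 := congrFun (congrFun (key (Matrix.single o a 1)) (o, u)) (c, v)
  simp only [Matrix.mul_apply, Fintype.sum_prod_type, Matrix.kroneckerMap_apply, Matrix.single_apply, Matrix.one_apply,
    mul_ite, mul_one, mul_zero, ite_mul, one_mul, zero_mul, Finset.sum_ite_eq, Finset.sum_ite_eq', Finset.mem_univ,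
    if_true, ite_and, Finset.sum_ite_irrel, Finset.sum_const_zero] at h1
  rw [split_liftRest, Matrix.kroneckerMap_apply, Matrix.one_apply, Matrix.of_apply, h1]
  by_cases hac : a = c <;> simp [hac]

/-- A map commuting with the squares of the roots of a factor lives on the others. -/
theorem eq_liftRest_of_comm_eP [Fintype F] (hJ : OG J) (hk : 3 ≤ k) (i : κ) {Y : TMat F κ k}
    (h : ∀ e, bJ J e e = 0 → op i (eP J e) * Y = Y * op i (eP J e)) : ∃ W, Y = liftRest i W := by
  have hblk : ∀ u v, ∃ c : F, (Matrix.of fun a b => split i Y (a, u) (b, v)) = c • (1 : Matrix (Fin k) (Fin k) F) :=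
    fun u v => hJ.scalar_of_comm (by rw [Fintype.card_fin]; exact hk) fun e he => by
      have h1 := congrArg (split i) (h e he)
      rw [map_mul, map_mul, split_op_self] at h1
      ext a b
      have h2 := congrFun (congrFun h1 (a, u)) (b, v)
      simp only [Matrix.mul_apply, Fintype.sum_prod_type, Matrix.kroneckerMap_apply, Matrix.one_apply, mul_ite,
        mul_one, mul_zero, ite_mul, zero_mul, Finset.sum_ite_eq, Finset.sum_ite_eq', Finset.mem_univ, if_true] at h2
      simpa [Matrix.mul_apply] using h2.symm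
  choose c hc using hblk
  refine ⟨Matrix.of c, split_inj (i := i) ?_⟩
  ext ⟨a, u⟩ ⟨b, v⟩
  have h1 := congrFun (congrFun (hc u v) a) b
  simp only [Matrix.of_apply, Matrix.smul_apply, smul_eq_mul] at h1
  rw [h1, split_liftRest, Matrix.kroneckerMap_apply, Matrix.of_apply]
  ring

/-- The commutant of the roots of all factors. -/
theorem scalar_of_comm_all [Fintype F] (hJ : OG J) (hk : 3 ≤ k) {Y : TMat F κ k}
    (h : ∀ l e, bJ J e e = 0 → op l (eP J e) * Y = Y * op l (eP J e)) : ∃ c : F, Y = c • 1 := by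
  haveI : Nonempty (Fin k) := ⟨⟨0, by omega⟩⟩
  haveI : Nonempty (κ → Fin k) := ⟨fun _ => Classical.arbitrary _⟩
  let S : Subalgebra F (TMat F κ k) := Subalgebra.centralizer F {Y}
  have hS : ∀ Z, Z ∈ S := mem_subalgebra_of_op fun l A => by
    rw [Subalgebra.mem_centralizer_iff]
    rintro _ rfl
    obtain ⟨W, rfl⟩ := eq_liftRest_of_comm_eP hJ hk l (h l)
    exact (op_comm_liftRest l A W).symm
  have hc : ∀ Z, Y * Z = Z * Y := fun Z => (Subalgebra.mem_centralizer_iff F).1 (hS Z) Y rfl
  obtain ⟨c, hc'⟩ := Matrix.mem_range_scalar_iff_commute_single'.2 fun a b => (hc _).symm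
  exact ⟨c, by rw [← hc']; simp [Matrix.scalar_apply, Matrix.smul_one_eq_diagonal]⟩

/-- A pure vector, linear in one factor. -/
def pvL (u : κ → Fin k → F) (m : κ) : (Fin k → F) →ₗ[F] ((κ → Fin k) → F) where
  toFun a := pv (Function.update u m a)
  map_add' a b := by
    funext x
    simp only [pv, Pi.add_apply]
    have key : ∀ w : Fin k → F, ∏ l, Function.update u m w l (x l) =
        w (x m) * ∏ l ∈ Finset.univ.erase m, u l (x l) := fun w => by
      rw [← Finset.mul_prod_erase Finset.univ _ (Finset.mem_univ m), Function.update_self]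
      exact congrArg _ (Finset.prod_congr rfl fun l hl => by rw [Function.update_of_ne (Finset.ne_of_mem_erase hl)])
    rw [key, key, key, Pi.add_apply, add_mul]
  map_smul' c a := by
    funext x
    simp only [pv, Pi.smul_apply, RingHom.id_apply, smul_eq_mul]
    have key : ∀ w : Fin k → F, ∏ l, Function.update u m w l (x l) =
        w (x m) * ∏ l ∈ Finset.univ.erase m, u l (x l) := fun w => by
      rw [← Finset.mul_prod_erase Finset.univ _ (Finset.mem_univ m), Function.update_self]
      exact congrArg _ (Finset.prod_congr rfl fun l hl => by rw [Function.update_of_ne (Finset.ne_of_mem_erase hl)])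
    rw [key, key, Pi.smul_apply, smul_eq_mul, mul_assoc]

theorem pvL_apply (u : κ → Fin k → F) (m : κ) (a : Fin k → F) : pvL u m a = pv (Function.update u m a) := rfl

theorem op_mulVec_pv (m : κ) (A : Matrix (Fin k) (Fin k) F) (u : κ → Fin k → F) :
    op m A *ᵥ pv u = pv (Function.update u m (A *ᵥ u m)) := by
  rw [op_eq_tens, tens_mulVec_pv]
  congr 1
  funext l
  by_cases hl : l = m
  · subst hl; simp
  · simp [hl]

theorem bt_pv (v : κ → Fin k → F) : bt (gT κ J) (pv v) = pv fun l => bt J (v l) := by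
  funext y
  simp only [bt, gT, Matrix.vecMul, dotProduct, pv, tens_apply, Fintype.prod_sum, ← Finset.prod_mul_distrib]

theorem bJ_pv (u v : κ → Fin k → F) : bJ (gT κ J) (pv u) (pv v) = ∏ l, bJ J (u l) (v l) := by
  rw [← bt_dot, bt_pv, pv_dot]
  exact Finset.prod_congr rfl fun l _ => bt_dot _ _

theorem bJ_pv_zero {u v : κ → Fin k → F} (l : κ) (h : bJ J (u l) (v l) = 0) :
    bJ (gT κ J) (pv u) (pv v) = 0 := by rw [bJ_pv]; exact Finset.prod_eq_zero (Finset.mem_univ l) h

theorem dyad_pv (u v : κ → Fin k → F) :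
    dyad (gT κ J) (pv u) (pv v) = tens fun l => dyad J (u l) (v l) := by
  ext x y
  rw [dyad, vecMulVec_apply, bt_pv, tens_apply]
  simp [pv, dyad, vecMulVec_apply, Finset.prod_mul_distrib]

/-- The skew map of pure vectors differing in one factor. -/
theorem nP_pv_update (u : κ → Fin k → F) (m : κ) (a : Fin k → F) :
    nP (gT κ J) (pv u) (pv (Function.update u m a)) =
      tens (Function.update (fun l => eP J (u l)) m (nP J (u m) a)) := by
  rw [nP, dyad_pv, dyad_pv, nP, tens_update_sub]
  congr 2 <;>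
  · funext l
    by_cases hl : l = m
    · subst hl; simp
    · simp [hl, eP]

theorem conj_op_nP (hJ : OG J) {A : GL (Fin k) F} (hA : A ∈ IsoG J) (m : κ) (u v : κ → Fin k → F) :
    Ad (opU m A) (nP (gT κ J) (pv u) (pv v)) =
      nP (gT κ J) (pv (Function.update u m (A.1 *ᵥ u m))) (pv (Function.update v m (A.1 *ᵥ v m))) := by
  rw [Ad_apply, conj_nP (gT_og hJ) (opU_mem_IsoG hJ m hA), opU_coe, op_mulVec_pv, op_mulVec_pv]

theorem Ad_opU_op (m : κ) (A : GL (Fin k) F) (X : Matrix (Fin k) (Fin k) F) :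
    Ad (opU m A) (op m X : TMat F κ k) = op m (Ad A X) := by
  rw [Ad_apply, Ad_apply, opU_coe, opU_inv_coe, map_mul, map_mul]

theorem Ad_opU_op_lift (m : κ) (A : GL (Fin k) F) (X : Matrix (Fin k) (Fin k) F) (W : TMat F (Rest m) k) :
    Ad (opU m A) (op m X * liftRest m W) = op m (Ad A X) * liftRest m W := by
  rw [Ad_apply, Ad_apply, opU_coe, opU_inv_coe, map_mul, map_mul, Matrix.mul_assoc, Matrix.mul_assoc (op m X),
    ← op_comm_liftRest m (A⁻¹).1 W]
  simp only [Matrix.mul_assoc]

theorem Ad_opU_other {m l : κ} (h : l ≠ m) (A : GL (Fin k) F) (X : Matrix (Fin k) (Fin k) F)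
    (W : TMat F (Rest m) k) :
    Ad (opU l A) (op m X * liftRest m W) = op m X * liftRest m (Ad (opU (⟨l, h⟩ : Rest m) A) W) := by
  rw [Ad_apply, Ad_apply, opU_coe, opU_inv_coe, opU_coe, opU_inv_coe, map_mul, map_mul,
    liftRest_op (⟨l, h⟩ : Rest m), liftRest_op (⟨l, h⟩ : Rest m), ← Matrix.mul_assoc (op l A.1), op_comm h]
  simp only [Matrix.mul_assoc]

end Tensor

end CfsgLib.Classical.WreathMaxO
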