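import Cfsg.Agent.Lib.Classical.TensorNonMax
import Cfsg.Agent.Lib.Classical.OrthMaxPair
import Cfsg.Agent.Lib.Classical.WreathMax.Main
import Cfsg.Agent.Lib.Classical.WreathMaxO.Finish

/-!
# The stabiliser of a tensor power of a symmetric form is maximal in `Ω`
-/

set_option autoImplicit false
set_option linter.unusedSectionVars false

open Matrix Module QuadraticMap

namespace CfsgLib.Classical.WreathMaxO

open CfsgLib.Orth CfsgLib.Classical CfsgLib.Classical.WreathMax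

variable {F : Type*} [Field F] [Fintype F]

section Range

variable {n : Type} [Fintype n] [DecidableEq n] {K : Matrix n n F} {Q : QuadraticForm F (n → F)} {c : F}

theorem range_of_polar (hK : OG K) (hc : c ≠ 0) (hpol : ∀ u v, polar Q u v = c * bJ K u v) :
    (orthToGL Q (Qf := ⇑Q) fun _ => rfl).range = IsoG K := by
  have happ : ∀ (o : orthGroup Q) (v : n → F), (orthToGL Q (Qf := ⇑Q) (fun _ => rfl) o).1 *ᵥ v = o.1 v := fun o v => by
    rw [← Matrix.toLin'_apply, toLin'_orthToGL]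
    rfl
  ext g
  rw [mem_IsoG_iff_bJ hK]
  refine ⟨?_, fun h => ?_⟩
  · rintro ⟨o, rfl⟩ u v
    refine mul_left_cancel₀ hc ?_
    rw [happ, happ, ← hpol, ← hpol, polar_isom]
  · let L : (n → F) ≃ₗ[F] (n → F) := LinearMap.GeneralLinearGroup.toLinearEquiv (Matrix.GeneralLinearGroup.toLin g)
    have hL : ∀ w, L w = g.1 *ᵥ w := fun w => rfl
    have hm : L ∈ orthGroup Q := fun v => by
      rw [hL]
      refine mul_left_cancel₀ hK.two ?_
      rw [← polar_self', ← polar_self', hpol, hpol, h]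
    exact ⟨⟨L, hm⟩, Units.ext (Matrix.ext_iff_mulVec.2 fun w => (happ _ w).trans (hL w))⟩

theorem map_commutator_of_polar (hK : OG K) (hc : c ≠ 0) (hpol : ∀ u v, polar Q u v = c * bJ K u v) :
    (commutator (orthGroup Q)).map (orthToGL Q (Qf := ⇑Q) fun _ => rfl) = OmG K := by
  rw [commutator_def, Subgroup.map_commutator, ← MonoidHom.range_eq_map, range_of_polar hK hc hpol, OmG_eq]

end Range

variable {ι : Type} [Fintype ι] [DecidableEq ι] {k t : ℕ}

/-- The stabiliser of a tensor power is maximal in `Ω`. -/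
theorem omega_isMaximal {Qf : (ι → F) → F} (hQ : Cfsg.Geo.IsNondegenerateQuadraticForm Qf) (h2 : (2 : F) ≠ 0)
    {e : ι ≃ (Fin t → Fin k)} {P : GL ι F} {f₁ : (Fin k → F) → (Fin k → F) → F}
    (hf₁ : Cfsg.Geo.IsSymmetricForm f₁) (ht : 2 ≤ t) (hk : 3 ≤ k) (hex : Nat.card F = 3 → k ≠ 3)
    (hplane : k = 4 → ∀ u v, u ≠ 0 → f₁ u u = 0 → f₁ v v = 0 → f₁ u v = 0 → v ∈ F ∙ u)
    (hT : Cfsg.Geo.IsTensorPowerFormStructure id (polar Qf) f₁ e P) :
    Cfsg.Geo.IsMaximalIn (Cfsg.Geo.omegaGL Qf) (Cfsg.Geo.tensorWreathSubgroup k t e P ⊓ Cfsg.Geo.omegaGL Qf) := by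
  classical
  obtain ⟨Q, hQf, -⟩ := exists_quadOf hQ
  obtain ⟨c, hc0, hc⟩ := hT
  set J := Cfsg.Geo.gramMatrix f₁ with hJdef
  have hb : ∀ u v, bJ J u v = f₁ u v := fun u v => by
    rw [← TensorNonMax.gram_expand (τ := id) hf₁.bilinear.add_left hf₁.bilinear.smul_left hf₁.bilinear.add_right
      (fun t v x => hf₁.bilinear.smul_right t v x) u v, Cfsg.Geo.formOfGram, bJ, hJdef]
    simp [dotProduct, Matrix.mulVec, Finset.mul_sum, mul_assoc]
  have hJ : OG J := by
    refine ⟨h2, Matrix.ext fun a b => hf₁.symm _ _, isUnit_iff_ne_zero.2 fun h0 => ?_⟩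
    obtain ⟨u, hu, hu0⟩ := Matrix.exists_vecMul_eq_zero_iff.2 h0
    obtain ⟨-, v, hv⟩ := hf₁.nondegenerate u hu
    exact hv (by rw [← hb, bJ, dotProduct_mulVec, hu0, zero_dotProduct])
  have hG : GoodF J := ⟨hJ, hk, hex, fun h4 u v hu huu hvv huv => by
    simp only [hb] at huu hvv huv
    exact hplane h4 u v hu huu hvv huv⟩
  haveI : Nonempty (Fin t) := ⟨⟨0, by omega⟩⟩
  have hgT : OG (gT (Fin t) J) := gT_og hJ
  set φ : GL (Fin t → Fin k) F →* GL ι F :=
    (MulAut.conj P).toMonoidHom.comp (Cfsg.Geo.glReindex e.symm).toMonoidHom with hφ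
  have hPi : (P⁻¹).1 * P.1 = 1 := by rw [← Units.val_mul, inv_mul_cancel, Units.val_one]
  let Φ : ((Fin t → Fin k) → F) ≃ₗ[F] (ι → F) :=
    (LinearEquiv.funCongrLeft F F e).trans (Matrix.GeneralLinearGroup.toLin P).toLinearEquiv
  have hΦ : ∀ x, Φ x = P.1 *ᵥ (x ∘ e) := fun x => rfl
  set Q' : QuadraticForm F ((Fin t → Fin k) → F) := Q.comp Φ.toLinearMap with hQ'
  have hQ'v : ∀ x, Q (Φ x) = Q' x := fun x => rfl
  have hpol : ∀ x y, polar Q' x y = c * bJ (gT (Fin t) J) x y := fun x y => by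
    have e1 : polar Q' x y = polar Qf (Φ x) (Φ y) := by
      simp only [QuadraticMap.polar, hQf, ← map_add]
      rfl
    rw [e1, hΦ, hΦ, hc, bJ, gT]
    simp [dotProduct, Matrix.mulVec, Finset.mul_sum, tens_apply, mul_assoc, hJdef]
  set D : orthGroup Q' ≃* orthGroup Q := orthGroupCongr Φ hQ'v with hD
  set ψ := orthToGL Q' (Qf := ⇑Q') fun _ => rfl with hψ
  have hΩ : (commutator (orthGroup Q')).map ψ = OmG (gT (Fin t) J) := map_commutator_of_polar hgT hc0 hpol
  have hrange : ψ.range = IsoG (gT (Fin t) J) := range_of_polar hgT hc0 hpol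
  have hφmul : ∀ (x : GL (Fin t → Fin k) F) v, (φ x).1 *ᵥ Φ v = Φ (x.1 *ᵥ v) := fun x v => by
    show (P.1 * Matrix.reindex e.symm e.symm x.1 * (P⁻¹).1) *ᵥ (P.1 *ᵥ (v ∘ e)) = P.1 *ᵥ ((x.1 *ᵥ v) ∘ e)
    rw [Matrix.mulVec_mulVec, Matrix.mul_assoc, hPi, Matrix.mul_one, ← Matrix.mulVec_mulVec]
    congr 1
    funext a
    simp only [Matrix.mulVec, dotProduct, Matrix.reindex_apply, Matrix.submatrix_apply, Function.comp_apply,
      Equiv.symm_symm]
    exact e.sum_comp fun b => x.1 (e a) b * v b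
  have hDφ : ∀ o, orthToGL Q hQf (D o) = φ (ψ o) := fun o => by
    refine Units.ext (Matrix.ext_of_mulVec_single fun a => ?_)
    rw [← Φ.apply_symm_apply (Pi.single a 1), hφmul, ← Matrix.toLin'_apply, toLin'_orthToGL, ← Matrix.toLin'_apply,
      hψ, toLin'_orthToGL]
    show Φ (o.1 (Φ.symm (Φ _))) = _
    rw [Φ.symm_apply_apply]
    rfl
  have hmem : ∀ o, orthToGL Q hQf (D o) ∈ Cfsg.Geo.tensorWreathSubgroup k t e P ↔ ψ o ∈ wreathT F (Fin t) k :=
    fun o => by
      rw [hDφ, Cfsg.Geo.tensorWreathSubgroup, WreathMax.tensorWreathStandard_eq, Subgroup.map_map]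
      refine ⟨fun h => ?_, fun h => Subgroup.mem_map_of_mem _ h⟩
      obtain ⟨y, hy, hyx⟩ := Subgroup.mem_map.1 h
      rwa [((MulAut.conj P).injective.comp (Cfsg.Geo.glReindex e.symm).injective) hyx] at hy
  have hcomm : ∀ o, D o ∈ commutator (orthGroup Q) ↔ o ∈ commutator (orthGroup Q') := fun o => by
    have e1 : (commutator (orthGroup Q')).map D.toMonoidHom = commutator (orthGroup Q) := by
      rw [commutator_def, Subgroup.map_commutator, Subgroup.map_top_of_surjective _ D.surjective, commutator_def]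
    rw [← e1]
    exact Subgroup.mem_map_equiv.trans (by rw [D.symm_apply_apply])
  refine omega_isMaximalIn_inf Q hQf _ ?_ fun M hM g hgM _ hgN => ?_
  · obtain ⟨b, b', hbb, hb', hbb'⟩ := hJ.exists_two_same (by rw [Fintype.card_fin]; exact hk)
    obtain ⟨G, hGΩ, hGT, -, -⟩ := exists_invol (κ := Fin t) hJ hk (by rw [Fintype.card_fin]; exact ht) hbb hb' hbb'
    rw [← hΩ] at hGΩ
    obtain ⟨o, ho, rfl⟩ := hGΩ
    exact ⟨D o, (hcomm o).2 ho, fun hN => hGT ((hmem o).1 hN)⟩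
  · obtain ⟨g', rfl⟩ := D.surjective g
    set M' := (M.comap D.toMonoidHom).map ψ with hM'
    have hOver : Over J M' := ⟨hG, by rw [hM', ← hrange]; exact Subgroup.map_le_range _ _, fun y hy => by
      obtain ⟨hyT, hyΩ⟩ := hy
      rw [SetLike.mem_coe, ← hΩ] at hyΩ
      obtain ⟨o, ho, rfl⟩ := hyΩ
      exact Subgroup.mem_map_of_mem ψ (Subgroup.mem_comap.2 (hM _ ((hcomm o).2 ho) ((hmem o).2 hyT)))⟩
    have hg' : ψ g' ∈ M' := Subgroup.mem_map_of_mem ψ (Subgroup.mem_comap.2 hgM)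
    have hle : OmG (gT (Fin t) J) ≤ M' :=
      (mem_or_le hG _ (Fin t) rfl M' hOver (ψ g') (hOver.simG_of_mem hg') (hOver.conjIn_of_mem hg')).resolve_left
        fun h => hgN ((hmem g').2 h)
    intro x hx
    obtain ⟨o, rfl⟩ := D.surjective x
    rw [← hΩ] at hle
    obtain ⟨o', ho', eo⟩ := hle (Subgroup.mem_map_of_mem ψ ((hcomm o).1 hx))
    rw [← orthToGL_injective Q' _ eo]
    exact ho'

end CfsgLib.Classical.WreathMaxO
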