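import Cfsg.Agent.Lib.Classical.WreathMaxO.Kill

/-!
# An overgroup not inside the stabiliser conjugates some root group of a factor into it
-/

set_option autoImplicit false
set_option linter.unusedSectionVars false
set_option maxHeartbeats 1000000

open Matrix Module
open scoped Kronecker

namespace CfsgLib.Classical.WreathMaxO

open CfsgLib.Classical.WreathMax

section Nilpotent

variable {F : Type*} [Field F] [Fintype F] {n : Type} [Fintype n] [DecidableEq n] {J : Matrix n n F}

theorem adjJ_pow (hJ : OG J) (X : Matrix n n F) (j : ℕ) : adjJ J (X ^ j) = adjJ J X ^ j := by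
  induction j with
  | zero => rw [pow_zero, pow_zero, adjJ_one hJ]
  | succ j ih => rw [pow_succ, adjJ_mul hJ, ih, ← pow_succ']

theorem skew_pow_self (hJ : OG J) {S : Matrix n n F} (hS : adjJ J S = -S) (v : n → F) {j : ℕ}
    (h : bJ J v ((S ^ (j + j)) *ᵥ v) = 0) : bJ J ((S ^ j) *ᵥ v) ((S ^ j) *ᵥ v) = 0 := by
  rw [bJ_mulVec hJ, adjJ_pow hJ, hS, neg_pow, Matrix.mulVec_mulVec, Matrix.mul_assoc, ← pow_add]
  rcases neg_one_pow_eq_or (Matrix n n F) j with e | e <;> simp [e, h, Matrix.neg_mulVec]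

/-- A nilpotent skew map commutes with an admissible root. -/
theorem exists_commuting_root (hJ : OG J) (hn : 3 ≤ Fintype.card n) {S : Matrix n n F} (hS : adjJ J S = -S) {m : ℕ}
    (hm : S ^ m = 0) :
    ∃ e b, Root J e b ∧ (5 ≤ Fintype.card n → bJ J b b = 0) ∧ nP J e b * S = S * nP J e b := by
  classical
  suffices H : ∃ e b, Root J e b ∧ (5 ≤ Fintype.card n → bJ J b b = 0) ∧ S *ᵥ e = 0 ∧ S *ᵥ b ∈ F ∙ e by
    obtain ⟨e, b, hr, hb, hSe, hSb⟩ := H
    obtain ⟨c, hc⟩ := Submodule.mem_span_singleton.1 hSb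
    refine ⟨e, b, hr, hb, Matrix.ext_iff_mulVec.2 fun v => ?_⟩
    have hskew : ∀ u, bJ J u (S *ᵥ v) = -bJ J (S *ᵥ u) v := fun u => by
      rw [bJ_mulVec hJ, hS, Matrix.neg_mulVec, bJ_neg_right, neg_neg]
    rw [← Matrix.mulVec_mulVec, ← Matrix.mulVec_mulVec, nP_mulVec, nP_mulVec, Matrix.mulVec_sub, Matrix.mulVec_smul,
      Matrix.mulVec_smul, hSe, ← hc, hskew, hskew, hSe, ← hc, bJ_smul_left, bJ_zero_left]
    module
  obtain ⟨e, he0, hee, hSe⟩ : ∃ e, e ≠ 0 ∧ bJ J e e = 0 ∧ S *ᵥ e = 0 := by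
    rcases eq_or_ne S 0 with rfl | hS0
    · obtain ⟨e, f, hp⟩ := hJ.exists_pair hn
      exact ⟨e, hp.left_ne, hp.ee, Matrix.zero_mulVec e⟩
    · have hex : ∃ j, S ^ j = 0 := ⟨m, hm⟩
      have hj := Nat.find_spec hex
      have h1 : 2 ≤ Nat.find hex := by
        by_contra hlt
        rcases Nat.lt_succ_iff.1 (not_le.1 hlt) |>.eq_or_lt with e | e
        · rw [e, pow_one] at hj; exact hS0 hj
        · rw [Nat.lt_one_iff.1 e, pow_zero] at hj
          exact hS0 (by rw [← Matrix.mul_one S, hj, Matrix.mul_zero])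
      obtain ⟨v, hv⟩ : ∃ v, (S ^ (Nat.find hex - 1)) *ᵥ v ≠ 0 := by
        by_contra! hall
        exact Nat.find_min hex (by omega : Nat.find hex - 1 < _) (Matrix.ext_iff_mulVec.2 fun v => by simp [hall])
      refine ⟨_, hv, skew_pow_self hJ hS v ?_, ?_⟩
      · rw [pow_eq_zero_of_le (by omega) hj, Matrix.zero_mulVec, bJ_zero_right]
      · rw [Matrix.mulVec_mulVec, ← pow_succ', Nat.sub_add_cancel (by omega), hj, Matrix.zero_mulVec]
  obtain ⟨f, hp⟩ := hJ.exists_pair_of he0 hee
  have hdim := finrank_Hyp (J := J) e f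
  by_cases hall : ∀ w, bJ J e w = 0 → S *ᵥ w ∈ F ∙ e
  · by_cases h5 : 5 ≤ Fintype.card n
    · obtain ⟨b, hb, hb0, hbb⟩ := hJ.exists_singular_in (S := Hyp J e f) (by omega)
      exact ⟨e, b, hp.root hJ hb hb0, fun _ => hbb, hSe, hall b (mem_Hyp.1 hb).1⟩
    · obtain ⟨b, hb, hb0⟩ := (hp.nd hJ).exists_aniso hJ (ne_bot_of_pos (by omega))
      exact ⟨e, b, hp.root hJ hb (fun e0 => hb0 (by rw [e0, bJ_zero_left])), fun h => absurd h h5, hSe,
        hall b (mem_Hyp.1 hb).1⟩
  · have hpow : ∀ j : ℕ, ∀ w, bJ J e w = 0 → bJ J e ((S ^ j) *ᵥ w) = 0 := fun j => by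
      induction j with
      | zero => intro w hw; rwa [pow_zero, Matrix.one_mulVec]
      | succ j ih =>
        intro w hw
        have h := bJ_mulVec hJ S e ((S ^ j) *ᵥ w)
        rw [hSe, bJ_zero_left, hS, Matrix.neg_mulVec, bJ_neg_right, Matrix.mulVec_mulVec, ← pow_succ'] at h
        exact neg_eq_zero.1 h.symm
    have hex : ∃ j, ∀ w, bJ J e w = 0 → (S ^ (j + 1)) *ᵥ w ∈ F ∙ e :=
      ⟨m, fun w _ => by rw [pow_succ, hm, Matrix.zero_mul, Matrix.zero_mulVec]; exact zero_mem _⟩
    obtain ⟨l, hl⟩ : ∃ l, Nat.find hex = l + 1 := Nat.exists_eq_succ_of_ne_zero fun h0 => hall fun w hw => by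
      simpa [h0] using Nat.find_spec hex w hw
    obtain ⟨w, hw, hwb⟩ : ∃ w, bJ J e w = 0 ∧ (S ^ (l + 1)) *ᵥ w ∉ F ∙ e := by
      have := Nat.find_min hex (m := l) (by omega)
      push Not at this
      exact this
    have hnext : (S ^ (l + 2)) *ᵥ w ∈ F ∙ e := by
      have := Nat.find_spec hex w hw
      rwa [hl] at this
    have hbb : bJ J ((S ^ (l + 1)) *ᵥ w) ((S ^ (l + 1)) *ᵥ w) = 0 := by
      obtain ⟨c, hc⟩ := Submodule.mem_span_singleton.1 hnext
      refine skew_pow_self hJ hS w ?_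
      rw [show l + 1 + (l + 1) = l + (l + 2) by omega, pow_add, ← Matrix.mulVec_mulVec, ← hc, Matrix.mulVec_smul,
        bJ_smul_right]
      rcases l with _ | l
      · rw [pow_zero, Matrix.one_mulVec, hJ.swap, hw, mul_zero]
      · rw [pow_succ, ← Matrix.mulVec_mulVec, hSe, Matrix.mulVec_zero, bJ_zero_right, mul_zero]
    refine ⟨e, _, ⟨he0, hee, hpow _ w hw, hwb⟩, fun _ => hbb, hSe, ?_⟩
    rw [Matrix.mulVec_mulVec, ← pow_succ']
    exact hnext

end Nilpotent

variable {F : Type*} [Field F] [Fintype F] {κ : Type} [Fintype κ] [DecidableEq κ] {k : ℕ}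
  {J : Matrix (Fin k) (Fin k) F} {M : Subgroup (GL (κ → Fin k) F)}

theorem bJ_eq_dot_of (hJ : OG J) (S : Matrix (Fin k) (Fin k) F) (u v : Fin k → F) :
    bJ J u ((J⁻¹ * S) *ᵥ v) = u ⬝ᵥ S *ᵥ v := by
  rw [bJ, Matrix.mulVec_mulVec, ← Matrix.mul_assoc, Matrix.mul_nonsing_inv J hJ.unit, Matrix.one_mul]

/-- The values are self-adjoint. -/
theorem adjJ_Dmap (hM : Over J M) (hNF : NF M hM.og) (Y : TMat F κ k) :
    adjJ (gT κ J) (Dmap M Y) = Dmap M Y := by
  classical
  have hJ := hM.og
  set K := gT κ J * Dmap M Y with hK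
  have hslot : ∀ (i : κ) (u v : Rest i → Fin k) (a c : Fin k), split i K (a, u) (c, v) = split i K (c, u) (a, v) := by
    intro i u v
    set R : Matrix (Fin k) (Fin k) F := Matrix.of fun a c => split i K (a, u) (c, v) with hR
    suffices Rᵀ = R from fun a c => (congrFun (congrFun this c) a)
    have hE : ∀ e b, bJ J e e = 0 → bJ J e b = 0 → b ⬝ᵥ (R - Rᵀ) *ᵥ e = 0 := by
      intro e b he heb
      rcases eq_or_ne e 0 with rfl | he0
      · rw [Matrix.mulVec_zero, dotProduct_zero]
      have h := Dmap_trace (M := M) ((split i).symm (nP J e b ⊗ₖ (Matrix.single v u (1 : F) * gT (Rest i) J))) Y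
      rw [Dmap_kill hM hNF i he0 he heb, Matrix.zero_mul, Matrix.trace_zero, ← trace_split i, map_mul,
        AlgEquiv.apply_symm_apply, show nP J e b ⊗ₖ (Matrix.single v u (1 : F) * gT (Rest i) J) =
          ((nP J e b * J⁻¹) ⊗ₖ Matrix.single v u (1 : F)) * split i (gT κ J) by
            rw [gT, gT, split_tens, ← Matrix.mul_kronecker_mul, Matrix.mul_assoc, Matrix.nonsing_inv_mul J hJ.unit,
              Matrix.mul_one],
        Matrix.mul_assoc, ← map_mul, ← hK] at h
      have hN : nP J e b * J⁻¹ = vecMulVec e b - vecMulVec b e := by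
        rw [nP, dyad, dyad, Matrix.sub_mul, vecMulVec_mul, vecMulVec_mul, bt, bt, Matrix.vecMul_vecMul,
          Matrix.vecMul_vecMul, Matrix.mul_nonsing_inv J hJ.unit, Matrix.vecMul_one, Matrix.vecMul_one]
      have ht : (((vecMulVec e b - vecMulVec b e) : Matrix (Fin k) (Fin k) F) ⊗ₖ Matrix.single v u (1 : F) *
          split i K).trace = ((vecMulVec e b - vecMulVec b e) * R).trace := by
        simp only [Matrix.trace, Matrix.diag, Matrix.mul_apply, Fintype.sum_prod_type, Matrix.kroneckerMap_apply,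
          Matrix.single_apply, mul_ite, mul_one, mul_zero, ite_mul, zero_mul, ite_and, Finset.sum_ite_eq,
          Finset.sum_ite_eq', Finset.sum_ite_irrel, Finset.sum_const_zero, Finset.mem_univ, if_true, R, Matrix.of_apply]
      rw [hN, ht, Matrix.sub_mul, Matrix.trace_sub, vecMulVec_mul, vecMulVec_mul, Matrix.trace_vecMulVec,
        Matrix.trace_vecMulVec] at h
      rw [Matrix.sub_mulVec, dotProduct_sub, Matrix.mulVec_transpose, dotProduct_comm b (e ᵥ* R), dotProduct_mulVec,
        dotProduct_comm (b ᵥ* R) e, dotProduct_comm (e ᵥ* R) b]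
      linear_combination -h
    obtain ⟨c, hc⟩ := hJ.scalar_of_eigen (by rw [Fintype.card_fin]; exact hM.good.three) (T := J⁻¹ * (R - Rᵀ))
      fun e he => TensorMaxO.mem_span_of_perp (nondeg_qf hJ) hJ.two (c := e) fun y hy => by
        rw [polar_qf hJ] at hy ⊢
        rw [bJ_eq_dot_of hJ, hE e y he hy]
    have h1 : R - Rᵀ = c • J := by
      have h2 := congrArg (J * ·) hc
      simp only [← Matrix.mul_assoc, Matrix.mul_nonsing_inv J hJ.unit, Matrix.one_mul, Matrix.mul_smul,
        Matrix.mul_one] at h2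
      exact h2
    have h2 := congrArg Matrix.transpose h1
    rw [Matrix.transpose_sub, Matrix.transpose_transpose, Matrix.transpose_smul, hJ.symm] at h2
    have h3 : (2 : F) • (Rᵀ - R) = 0 := by rw [two_smul]; nth_rw 1 [h2]; rw [← h1]; abel
    exact sub_eq_zero.1 ((smul_eq_zero.1 h3).resolve_left hJ.two)
  have hswap : ∀ (s : Finset κ) (x y : κ → Fin k),
      K x y = K (fun l => if l ∈ s then y l else x l) (fun l => if l ∈ s then x l else y l) := by
    intro s
    induction s using Finset.induction with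
    | empty => intro x y; simp
    | @insert a s ha ih =>
      intro x y
      have h := hslot a (fun l => if l.1 ∈ s then y l.1 else x l.1) (fun l => if l.1 ∈ s then x l.1 else y l.1) (x a) (y a)
      rw [split_apply, split_apply] at h
      rw [ih x y]
      have e : ∀ (p : Fin k) (f g : κ → Fin k), (∀ l, l ≠ a → g l = f l) → g a = p →
          (Equiv.funSplitAt a (Fin k)).symm (p, fun l => f l.1) = g := fun p f g hf hg => funext fun l => by
        by_cases hl : l = a
        · subst hl; simp [Equiv.funSplitAt, Equiv.piSplitAt, hg]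
        · simp [Equiv.funSplitAt, Equiv.piSplitAt, hl, hf l hl]
      refine (congrArg₂ K (e (x a) (fun l => if l ∈ s then y l else x l) _ (fun l _ => rfl) (if_neg ha)).symm
        (e (y a) (fun l => if l ∈ s then x l else y l) _ (fun l _ => rfl) (if_neg ha)).symm).trans (h.trans ?_)
      refine congrArg₂ K (e (y a) (fun l => if l ∈ s then y l else x l) _ (fun l hl => ?_) ?_)
        (e (x a) (fun l => if l ∈ s then x l else y l) _ (fun l hl => ?_) ?_) <;> simp [*]
  have hsym : Kᵀ = K := by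
    ext x y
    rw [Matrix.transpose_apply, hswap Finset.univ y x]
    simp
  rw [hK, Matrix.transpose_mul, (gT_og hJ).symm] at hsym
  rw [adjJ, Matrix.mul_assoc, hsym, ← Matrix.mul_assoc, Matrix.nonsing_inv_mul _ (gT_og hJ).unit, Matrix.one_mul]

theorem sum_op_pow {p : ℕ} [Fact p.Prime] [CharP (TMat F κ k) p] (S : κ → Matrix (Fin k) (Fin k) F) :
    (∑ l, op l (S l) : TMat F κ k) ^ p = ∑ l, op l (S l ^ p) := by
  classical
  suffices ∀ s : Finset κ, (∑ l ∈ s, op l (S l) : TMat F κ k) ^ p = ∑ l ∈ s, op l (S l ^ p) from this _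
  intro s
  induction s using Finset.induction with
  | empty => simp [zero_pow (Fact.out : p.Prime).ne_zero]
  | @insert a s ha ih =>
    rw [Finset.sum_insert ha, Finset.sum_insert ha, add_pow_char_of_commute p, ih, map_pow]
    exact Commute.sum_right _ _ _ fun l hl => commute_op (fun e : a = l => ha (e ▸ hl)) _ _

theorem Ad_adjJ (hJ : OG J) {g : GL (κ → Fin k) F} (hg : g ∈ IsoG (gT κ J)) (X : TMat F κ k) :
    adjJ (gT κ J) (Ad g X) = Ad g (adjJ (gT κ J) X) := by
  have hG := gT_og (κ := κ) hJ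
  rw [Ad_apply, Ad_apply, adjJ_mul hG, adjJ_mul hG, IsoG.inv_val hG hg, adjJ_adjJ hG, Matrix.mul_assoc]

/-- Some root group is conjugate into the stabiliser by an element outside it. -/
theorem not_NF [Nonempty κ] (hM : Over J M) (hnle : ¬ M ≤ wreathT F κ k) : ¬ NF M hM.og := by
  classical
  intro hNF
  have hJ := hM.og
  have hk := hM.good.three
  obtain ⟨g, hg, hgT⟩ := SetLike.not_le_iff_exists.1 hnle
  obtain ⟨i⟩ := ‹Nonempty κ›
  haveI : Nonempty (Fin k) := ⟨⟨0, by omega⟩⟩
  haveI : Nonempty (κ → Fin k) := ⟨fun _ => ⟨0, by omega⟩⟩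
  obtain ⟨p, hp⟩ := CharP.exists F
  haveI := hp
  have hpp : p.Prime := (CharP.char_is_prime_or_zero F p).resolve_right (CharP.char_ne_zero_of_finite F p)
  haveI : Fact p.Prime := ⟨hpp⟩
  haveI : CharP (TMat F κ k) p := charP_of_injective_algebraMap (algebraMap F _).injective p
  have hp3 : 3 ≤ p := by
    rcases hpp.eq_two_or_odd with rfl | h
    · exact absurd (by exact_mod_cast CharP.cast_eq_zero F 2) hJ.two
    · have := hpp.two_le; omega
  obtain ⟨e, f, hpair⟩ := hJ.exists_pair (by rw [Fintype.card_fin]; exact hk)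
  obtain ⟨b, hr, hb⟩ : ∃ b, Root J e b ∧ (5 ≤ k → bJ J b b = 0) := by
    have hdim := finrank_Hyp (J := J) e f
    rw [Fintype.card_fin] at hdim
    by_cases h5 : 5 ≤ k
    · obtain ⟨b, hbH, hb0, hbb⟩ := hJ.exists_singular_in (S := Hyp J e f) (by omega)
      exact ⟨b, hpair.root hJ hbH hb0, fun _ => hbb⟩
    · obtain ⟨b, hbH, hbb⟩ := (hpair.nd hJ).exists_aniso hJ (ne_bot_of_pos (by omega))
      exact ⟨b, hpair.root hJ hbH (fun e0 => hbb (by rw [e0, bJ_zero_left])), fun h => absurd h h5⟩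
  set N := nP J e b with hN
  set o : Fin k := ⟨0, by omega⟩
  set W : TMat F (Rest i) k := tens fun _ => Matrix.single o o (1 : F)
  set x := tens (fun l => if l = i then N else Matrix.single o o (1 : F)) with hx
  have hNtr : N.trace = 0 := by
    rw [hN, nP, dyad, dyad, Matrix.trace_sub, Matrix.trace_vecMulVec, Matrix.trace_vecMulVec, dotProduct_comm,
      bt_dot, dotProduct_comm, bt_dot, hJ.swap e b, sub_self]
  have hπx : ptrSum x = op i N := by
    rw [ptrSum_apply, Finset.sum_eq_single i]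
    · rw [hx, ptr_tens, if_pos rfl, Finset.prod_eq_one, one_smul]
      intro l _
      simp [l.2]
    · intro l _ hl
      rw [hx, ptr_tens, Finset.prod_eq_zero (Finset.mem_univ (⟨i, Ne.symm hl⟩ : Rest l)), zero_smul, op_zero]
      rw [if_pos rfl, hNtr]
    · simp
  have hDx : Dmap M x = 0 := by
    have hxs : x = (split i).symm (N ⊗ₖ W) := by
      rw [AlgEquiv.eq_symm_apply, hx, split_tens, if_pos rfl]
      congr 2
      funext l
      rw [if_neg l.2]
    rw [hxs]
    exact Dmap_kill hM hNF i hr.e0 hr.ee hr.eb W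
  set A := Ad g (op i N : TMat F κ k) with hA
  set Y := Ad g x with hYdef
  have hPY : A = ptrSum Y + Dmap M Y := by
    rw [Dmap, LinearMap.sub_apply, add_sub_cancel, hYdef, relTr_Ad _ hg, hA]
    congr 1
    rw [← hπx]
    rw [Dmap, LinearMap.sub_apply, sub_eq_zero] at hDx
    exact hDx.symm
  have hskewA : adjJ (gT κ J) A = -A := by
    rw [hA, Ad_adjJ hJ (hM.le hg), adjJ_op hJ, hN, adjJ_nP hJ, op_neg, map_neg]
  set S : κ → Matrix (Fin k) (Fin k) F := fun l => (2 : F)⁻¹ • (ptr l Y - adjJ J (ptr l Y)) with hSdef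
  have hsum : A = ∑ l, op l (S l) := by
    have h1 := congrArg (adjJ (gT κ J)) hPY
    rw [hskewA, adjJ_add, adjJ_Dmap hM hNF, ptrSum_apply, adjJ_sum] at h1
    simp only [adjJ_op hJ] at h1
    have h2 : (2 : F) • A = ∑ l, op l (ptr l Y - adjJ J (ptr l Y)) := by
      rw [ptrSum_apply] at hPY
      simp only [op_sub, Finset.sum_sub_distrib]
      rw [two_smul, eq_sub_iff_add_eq]
      nth_rw 2 [hPY]
      linear_combination (norm := abel) -h1
    simp only [S, op_smul, ← Finset.smul_sum, ← h2, smul_smul, inv_mul_cancel₀ hJ.two, one_smul]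
  have hSskew : ∀ l, adjJ J (S l) = -S l := fun l => by
    simp only [S, adjJ_smul, adjJ_sub, adjJ_adjJ hJ, ← smul_neg, neg_sub]
  have hAp : A ^ p = 0 := by
    refine pow_eq_zero_of_le hp3 ?_
    rw [hA, pow_three, ← Matrix.mul_assoc]
    have hmul : ∀ X Y : TMat F κ k, Ad g X * Ad g Y = Ad g (X * Y) := fun X Y => by
      simp only [Ad_apply]
      rw [show g.1 * X * g⁻¹.1 * (g.1 * Y * g⁻¹.1) = g.1 * X * (g⁻¹.1 * g.1) * Y * g⁻¹.1 by
        simp only [Matrix.mul_assoc], ← Units.val_mul, inv_mul_cancel, Units.val_one, Matrix.mul_one]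
      simp only [Matrix.mul_assoc]
    rw [hmul, hmul, ← map_mul, ← map_mul, hN, nP_cube hJ hr, op_zero, map_zero]
  have hSp : ∀ l, S l ^ p = 0 := fun l => by
    obtain ⟨d, hd⟩ := scalar_of_sum_op Finset.univ (fun l => S l ^ p) (c := (0 : F))
      (by rw [zero_smul, ← sum_op_pow, ← hsum, hAp]) (Finset.mem_univ l)
    have hd' : S l ^ p = d • 1 := hd
    have h1 := congrArg (adjJ J) hd'
    rw [adjJ_pow hJ, hSskew, Odd.neg_pow (hpp.odd_of_ne_two (by omega)), hd', adjJ_smul, adjJ_one hJ] at h1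
    have h2 : (2 : F) • (d • (1 : Matrix (Fin k) (Fin k) F)) = 0 := by
      rw [two_smul]; nth_rw 1 [← h1]; exact neg_add_cancel _
    rw [hd', (smul_eq_zero.1 h2).resolve_left hJ.two]
  obtain ⟨e', b', hr', hb', hcomm⟩ := exists_commuting_root hJ (by rw [Fintype.card_fin]; exact hk) (hSskew i) (hSp i)
  rw [Fintype.card_fin] at hb'
  have hNA : op i (nP J e' b') * A = A * op i (nP J e' b') := by
    rw [hsum, Matrix.mul_sum, Finset.sum_mul]
    refine Finset.sum_congr rfl fun l _ => ?_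
    rcases eq_or_ne i l with rfl | hl
    · rw [← map_mul, ← map_mul, hcomm]
    · exact op_comm hl _ _
  obtain ⟨s, hs⟩ := hNF g hg hgT i e b hr hb
  set h := g * opU i (uG hJ hr s) * g⁻¹ with hh
  have hhM : h ∈ M := mul_mem (mul_mem hg (hM.root_mem i hr s)) (inv_mem hg)
  obtain ⟨s', hs'⟩ := hNF h hhM hs i e' b' hr' hb'
  refine hs' ?_
  have hcom : (opU i (uG hJ hr' s') : GL (κ → Fin k) F) * h = h * opU i (uG hJ hr' s') := by
    refine Units.ext ?_
    show (op i (uP J e' b' s') : TMat F κ k) * (g.1 * op i (uP J e b s) * g⁻¹.1) =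
      g.1 * op i (uP J e b s) * g⁻¹.1 * op i (uP J e' b' s')
    rw [← Ad_apply]
    show (op i (uP J e' b' s') : TMat F κ k) * Ad g (op i (uP J e b s)) =
      Ad g (op i (uP J e b s)) * op i (uP J e' b' s')
    have hval : Ad g (op i (uP J e b s) : TMat F κ k) = 1 + s • A + (s * s / 2) • (A * A) := by
      rw [op_uP, map_add, map_add, map_smul, map_smul, hA, ← hN]
      congr 2
      · rw [Ad_apply, Matrix.mul_one, ← Units.val_mul, mul_inv_cancel, Units.val_one]
      · simp only [Ad_apply]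
        rw [show g.1 * op i N * g⁻¹.1 * (g.1 * op i N * g⁻¹.1) = g.1 * op i N * (g⁻¹.1 * g.1) * op i N * g⁻¹.1 by
          simp only [Matrix.mul_assoc], ← Units.val_mul, inv_mul_cancel, Units.val_one, Matrix.mul_one,
          Matrix.mul_assoc (g.1) (op i N)]
    rw [hval, op_uP]
    have hc : Commute (op i (nP J e' b') : TMat F κ k) A := hNA
    exact Commute.eq (Commute.add_left (Commute.add_left (Commute.one_left _)
      ((((Commute.one_right _).add_right (hc.smul_right _)).add_right ((hc.mul_right hc).smul_right _)).smul_left _))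
      ((((Commute.one_right _).add_right ((hc.mul_left hc).smul_right _)).add_right
        (((hc.mul_left hc).mul_right (hc.mul_left hc)).smul_right _)).smul_left _))
  rw [← hcom, mul_inv_cancel_right]
  exact opU_mem_wreathT i _

end CfsgLib.Classical.WreathMaxO
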