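import Cfsg.Agent.Lib.Classical.WreathMax.PTrace

/-!
# Relative traces against a finite `p`-group of the stabiliser, whose orbits are free or have fixed values
-/

set_option autoImplicit false
set_option linter.unusedSectionVars false

open Matrix

namespace CfsgLib.Classical.WreathMaxO

open CfsgLib.Classical.WreathMax

variable {F : Type*} [Field F] [Fintype F] {J : Type} [Fintype J] [DecidableEq J] {M T : Subgroup (GL J F)}
  {φ : Matrix J J F →ₗ[F] Matrix J J F} (hφ : ∀ h ∈ M, h ∈ T → ∀ Y, φ (Ad h Y) = Ad h (φ Y))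
  {A : Type*} [AddCommGroup A] [Fintype A] [DecidableEq A]

/-- On a fixed vector the relative trace is `φ` up to norms, if only the trivial coset is fixed, and either the
other orbits are free or each element of the group has the fixed vectors of the whole group. -/
theorem relTr_sub_mem_norms (hcard : ∃ r : ℕ, Fintype.card A = ringChar F ^ r) (x : Multiplicative A →* M)
    (hxT : ∀ a, (x a : GL J F) ∈ T) (hnf : ∀ g ∈ M, g ∉ T → ∃ a, g⁻¹ * (x a : GL J F) * g ∉ T)
    (hst : (∀ g ∈ M, g ∉ T → ∀ a, a ≠ 1 → g⁻¹ * (x a : GL J F) * g ∉ T) ∨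
      ∀ a, a ≠ 1 → ∀ Z : Matrix J J F, Ad (x a).1 Z = Z → ∀ b, Ad (x b).1 Z = Z)
    (E : Submodule F (Matrix J J F)) (hE : ∀ Z, ∑ a, Ad (x a).1 Z ∈ E) {Y : Matrix J J F}
    (hY : ∀ a, Ad (x a).1 Y = Y) : relTr M T φ hφ Y - φ Y ∈ E := by
  classical
  letI := Fintype.ofFinite (↥M ⧸ T.subgroupOf M)
  letI : MulAction (Multiplicative A) (↥M ⧸ T.subgroupOf M) := MulAction.compHom _ x
  set f := fun c => trTerm M T φ hφ c Y with hf
  have hfs : ∀ (a : Multiplicative A) c, f (a • c) = Ad (x a).1 (f c) := fun a c => by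
    simp only [hf]
    conv_lhs => rw [← hY a]
    exact trTerm_smul hφ (x a) c Y
  set c₀ : ↥M ⧸ T.subgroupOf M := QuotientGroup.mk 1 with hc₀
  have h0 : f c₀ = φ Y := by simp [hf, hc₀, trTerm_mk, Ad_one]
  have hfix : ∀ a : Multiplicative A, a • c₀ = c₀ := fun a => by
    show x a • c₀ = c₀
    rw [hc₀, MulAction.Quotient.smul_mk, QuotientGroup.eq]
    simpa [Subgroup.mem_subgroupOf] using hxT a
  have hrel : relTr M T φ hφ Y = f c₀ + ∑ c ∈ Finset.univ.erase c₀, f c := by
    rw [Finset.add_sum_erase _ _ (Finset.mem_univ _)]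
    simp [relTr, hf, LinearMap.sum_apply]
  rw [hrel, h0, add_sub_cancel_left,
    ← Finset.sum_fiberwise_of_maps_to (g := fun c => Quotient.mk (MulAction.orbitRel (Multiplicative A) _) c)
      (t := (Finset.univ.erase c₀).image fun c => Quotient.mk (MulAction.orbitRel (Multiplicative A) _) c)
      (fun c hc => Finset.mem_image_of_mem _ hc)]
  refine E.sum_mem fun o ho => ?_
  obtain ⟨c, hc, rfl⟩ := Finset.mem_image.1 ho
  have hc0 := Finset.ne_of_mem_erase hc
  have horb : (Finset.univ.erase c₀).filter (fun d => Quotient.mk (MulAction.orbitRel (Multiplicative A) _) d =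
      Quotient.mk (MulAction.orbitRel (Multiplicative A) _) c) =
      (Finset.univ : Finset (Multiplicative A)).image (· • c) := by
    ext d
    simp only [Finset.mem_filter, Finset.mem_erase, Finset.mem_univ, and_true, Finset.mem_image, true_and]
    refine ⟨fun h => Quotient.exact h.2, fun ⟨a, ha⟩ => ⟨fun h => hc0 ?_, Quotient.sound ⟨a, ha⟩⟩⟩
    exact MulAction.injective a ((ha.trans h).trans (hfix a).symm)
  rw [horb]
  by_cases hfree : ∀ a : Multiplicative A, a • c = c → a = 1
  · rw [Finset.sum_image (fun a _ b _ h => inv_mul_eq_one.1 (hfree (b⁻¹ * a) (by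
      rw [mul_smul, show a • c = b • c from h, inv_smul_smul])) |>.symm)]
    simp only [hfs]
    exact hE _
  · push Not at hfree
    obtain ⟨a, hac, ha1⟩ := hfree
    have hgT : ∀ g : M, QuotientGroup.mk g = c → (g : GL J F) ∉ T := fun g hg hgT => hc0 (by
      rw [← hg, hc₀, QuotientGroup.eq]; simpa [Subgroup.mem_subgroupOf] using hgT)
    have hmove : ∀ (g : M) (b : Multiplicative A), QuotientGroup.mk g = c → b • c = c →
        g.1⁻¹ * (x b : GL J F) * g.1 ∈ T := by
      intro g b hg hb
      subst hg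
      change x b • (QuotientGroup.mk g : ↥M ⧸ T.subgroupOf M) = _ at hb
      rw [MulAction.Quotient.smul_mk, eq_comm, QuotientGroup.eq] at hb
      simpa [Subgroup.mem_subgroupOf, mul_assoc] using hb
    obtain ⟨g, hg⟩ := QuotientGroup.mk_surjective c
    have hcent : ∀ a, a ≠ 1 → ∀ Z : Matrix J J F, Ad (x a).1 Z = Z → ∀ b, Ad (x b).1 Z = Z :=
      hst.resolve_left fun h => h g.1 g.2 (hgT g hg) a ha1 (hmove g a hg hac)
    have hfx : ∀ b, Ad (x b).1 (f c) = f c := hcent a ha1 _ (by rw [← hfs, hac])
    have hsum : ∀ d ∈ (Finset.univ : Finset (Multiplicative A)).image (· • c), f d = f c := fun d hd => by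
      obtain ⟨b, -, rfl⟩ := Finset.mem_image.1 hd
      rw [hfs, hfx]
    rw [Finset.sum_congr rfl hsum, Finset.sum_const, ← Nat.cast_smul_eq_nsmul F]
    have hdvd : ringChar F ∣ ((Finset.univ : Finset (Multiplicative A)).image (· • c)).card := by
      haveI := ringChar.charP F
      have hmul := MulAction.card_orbit_mul_card_stabilizer_eq_card_group (Multiplicative A) c
      have hcard' : ((Finset.univ : Finset (Multiplicative A)).image (· • c)).card =
          Fintype.card (MulAction.orbit (Multiplicative A) c) := by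
        rw [Fintype.card_eq_nat_card, Nat.card_eq_card_toFinset]
        exact congrArg Finset.card (by ext d; simp [MulAction.mem_orbit_iff])
      obtain ⟨r, hr⟩ := hcard
      have hp : (ringChar F).Prime := (CharP.char_is_prime_or_zero F (ringChar F)).resolve_right
        (CharP.char_ne_zero_of_finite F _)
      have hd : Fintype.card (MulAction.orbit (Multiplicative A) c) ∣ ringChar F ^ r :=
        ⟨_, by rw [hmul, Fintype.card_multiplicative, hr]⟩
      obtain ⟨j, -, hj⟩ := (Nat.dvd_prime_pow hp).1 hd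
      rw [hcard', hj]
      refine dvd_pow_self _ fun hj0 => ?_
      subst hj0
      have hone : ∀ b : Multiplicative A, b • c = c := fun b => by
        have hs := Fintype.card_le_one_iff.1 (le_of_eq (hj.trans (pow_zero _)))
        exact congrArg Subtype.val (hs ⟨b • c, MulAction.mem_orbit _ _⟩ ⟨c, MulAction.mem_orbit_self _⟩)
      obtain ⟨b, hb⟩ := hnf g.1 g.2 (hgT g hg)
      exact hb (hmove g b hg (hone b))
    rw [(CharP.cast_eq_zero_iff F (ringChar F) _).2 hdvd, zero_smul]
    exact E.zero_mem

end CfsgLib.Classical.WreathMaxO
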