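import Cfsg.Agent.Lib.Classical.WreathMaxO.Tensor
import Cfsg.Agent.Lib.Classical.WreathMaxO.RelTr

/-!
# Norms of root groups of one factor
-/

set_option autoImplicit false
set_option linter.unusedSectionVars false

open Matrix Module
open scoped Kronecker

namespace CfsgLib.Classical.WreathMaxO

open CfsgLib.Classical.WreathMax

section Poly

variable {F : Type*} [Field F] [Fintype F] {n : Type} [Fintype n] [DecidableEq n]

theorem sum_odd_pow (h2 : (2 : F) ≠ 0) {j : ℕ} (hj : Odd j) : ∑ s : F, s ^ j = 0 := by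
  have h : ∑ s : F, s ^ j = -∑ s : F, s ^ j := by
    conv_lhs => rw [← Equiv.sum_comp (Equiv.neg F) (fun s => s ^ j)]
    simp [hj.neg_pow]
  exact (mul_eq_zero.1 (by linear_combination h : (2 : F) * ∑ s : F, s ^ j = 0)).resolve_left h2

theorem sum_sq_eq_zero (h5 : 5 ≤ Fintype.card F) : ∑ s : F, s ^ 2 = 0 :=
  FiniteField.sum_pow_lt_card_sub_one F 2 (by omega)

theorem sum_four_eq_zero (h7 : 7 ≤ Fintype.card F) : ∑ s : F, s ^ 4 = 0 :=
  FiniteField.sum_pow_lt_card_sub_one F 4 (by omega)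

/-- The norm of a unipotent one-parameter group acting by conjugation. -/
theorem norm_exp (h2 : (2 : F) ≠ 0) (N Z : Matrix n n F) :
    ∑ s : F, (1 + s • N + (s * s / 2) • (N * N)) * Z * (1 + (-s) • N + ((-s) * (-s) / 2) • (N * N)) =
      (∑ s : F, s ^ 2) • ((2 : F)⁻¹ • (N * N * Z + Z * (N * N)) - N * Z * N) +
        ((∑ s : F, s ^ 4) * (4 : F)⁻¹) • (N * N * Z * (N * N)) := by
  have hterm : ∀ s : F, (1 + s • N + (s * s / 2) • (N * N)) * Z * (1 + (-s) • N + ((-s) * (-s) / 2) • (N * N)) =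
      Z + s ^ 1 • (N * Z - Z * N) + s ^ 2 • ((2 : F)⁻¹ • (N * N * Z + Z * (N * N)) - N * Z * N) +
        s ^ 3 • ((2 : F)⁻¹ • (N * Z * (N * N) - N * N * Z * N)) + s ^ 4 • ((4 : F)⁻¹ • (N * N * Z * (N * N))) := fun s => by
    have h4 : (4 : F) ≠ 0 := by
      rw [show (4 : F) = 2 * 2 by norm_num]
      exact mul_ne_zero h2 h2
    simp only [add_mul, mul_add, Matrix.one_mul, Matrix.mul_one, Matrix.smul_mul, Matrix.mul_smul, smul_smul,
      Matrix.mul_assoc, smul_add, smul_sub]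
    match_scalars <;> field_simp <;> ring
  simp only [hterm, Finset.sum_add_distrib, Finset.sum_const, Finset.card_univ, ← Finset.sum_smul,
    sum_odd_pow h2 (j := 1) odd_one, zero_smul, add_zero, smul_smul, ← Finset.sum_mul,
    sum_odd_pow h2 (j := 3) (by decide), zero_mul]
  rw [← Nat.cast_smul_eq_nsmul F, FiniteField.cast_card_eq_zero, zero_smul, zero_add]

/-- The norm of two commuting root groups is a sandwich. -/
theorem norm_norm_exp (h2 : (2 : F) ≠ 0) {N N' E : Matrix n n F} {α α' : F} (hN : N * N = α • E)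
    (hN' : N' * N' = α' • E) (hE : E * E = 0) (hEN : E * N = 0) (hNE : N * E = 0) (hEN' : E * N' = 0)
    (hN'E : N' * E = 0) (hNN' : N * N' = 0) (hN'N : N' * N = 0) (Z : Matrix n n F) :
    ∃ c : F, ∑ s : F, (1 + s • N + (s * s / 2) • (N * N)) *
      (∑ t : F, (1 + t • N' + (t * t / 2) • (N' * N')) * Z * (1 + (-t) • N' + ((-t) * (-t) / 2) • (N' * N'))) *
        (1 + (-s) • N + ((-s) * (-s) / 2) • (N * N)) = c • (E * Z * E) := by
  rw [norm_exp h2 N' Z, norm_exp h2 N, hN, hN']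
  have a1 : ∀ X : Matrix n n F, E * (E * X) = 0 := fun X => by rw [← Matrix.mul_assoc, hE, Matrix.zero_mul]
  have a2 : ∀ X : Matrix n n F, E * (N' * X) = 0 := fun X => by rw [← Matrix.mul_assoc, hEN', Matrix.zero_mul]
  have a3 : ∀ X : Matrix n n F, N * (E * X) = 0 := fun X => by rw [← Matrix.mul_assoc, hNE, Matrix.zero_mul]
  have a4 : ∀ X : Matrix n n F, N * (N' * X) = 0 := fun X => by rw [← Matrix.mul_assoc, hNN', Matrix.zero_mul]
  simp only [Matrix.mul_add, Matrix.add_mul, Matrix.mul_sub, Matrix.sub_mul, Matrix.smul_mul, Matrix.mul_smul,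
    Matrix.mul_assoc, a1, a2, a3, a4, hE, hEN, hNE, hEN', hN'E, hNN', hN'N, Matrix.mul_zero, smul_zero, sub_zero,
    add_zero, zero_add, smul_smul, smul_add, smul_sub]
  exact ⟨_, by rw [← add_smul]⟩

end Poly

end CfsgLib.Classical.WreathMaxO
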