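import Cfsg.Agent.Lib.Classical.WreathMaxO.Lift

/-!
# Elements of the Levi factor in `Ω`, scalings, and reflections of one factor in dimension four
-/

set_option autoImplicit false
set_option linter.unusedSectionVars false

open Matrix Module
open scoped Kronecker

namespace CfsgLib.Classical.WreathMaxO

open CfsgLib.Classical.WreathMax
open CfsgLib.Classical.WreathMaxSp (pv tens_mulVec_pv)

variable {F : Type*} [Field F] [Fintype F]

section Single

variable {n : Type} [Fintype n] [DecidableEq n] {J : Matrix n n F}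

theorem Pair.sub_smul_norm (hJ : OG J) {e f : n → F} (h : Pair J e f) (s : F) :
    bJ J (e - s • f) (e - s • f) = -2 * s := by
  simp only [bJ_sub_left, bJ_sub_right, bJ_smul_left, bJ_smul_right, h.ee, h.ff, h.ef, h.fe hJ]
  ring

theorem Pair.refl_left (hJ : OG J) {e f : n → F} (h : Pair J e f) {β : F} (hβ : β ≠ 0) :
    rM J (e - (-β / 2) • f) *ᵥ e = (-β / 2) • f := by
  have h2 := hJ.two
  rw [rM_mulVec, h.sub_smul_norm hJ, bJ_sub_left, bJ_smul_left, h.ee, h.fe hJ]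
  match_scalars <;> field_simp <;> ring

theorem Pair.refl_right (hJ : OG J) {e f : n → F} (h : Pair J e f) {β : F} (hβ : β ≠ 0) :
    rM J (e - (-β / 2) • f) *ᵥ f = (-2 / β) • e := by
  have h2 := hJ.two
  rw [rM_mulVec, h.sub_smul_norm hJ, bJ_sub_left, bJ_smul_left, h.ef, h.ff]
  match_scalars <;> field_simp <;> ring

theorem Pair.sub_perp {e f x : n → F} (hx : x ∈ Hyp J e f) (s : F) : bJ J (e - s • f) x = 0 := by
  simp [(mem_Hyp.1 hx).1, (mem_Hyp.1 hx).2]

/-- An element of `Ω` exchanging the lines of a pair. -/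
theorem Pair.exists_swap (hJ : OG J) {e f a : n → F} (h : Pair J e f) (ha : a ∈ Hyp J e f) (haa : bJ J a a ≠ 0) :
    ∃ C ∈ OmG J, C.1 *ᵥ e = (-bJ J a a / 2) • f ∧ C.1 *ᵥ f = (-2 / bJ J a a) • e ∧ C.1 *ᵥ a = -a ∧
      ∀ w ∈ Hyp J e f, bJ J a w = 0 → C.1 *ᵥ w = w := by
  have h2 := hJ.two
  set s := -bJ J a a / 2 with hs
  have hn : bJ J (e - s • f) (e - s • f) = bJ J a a := by rw [h.sub_smul_norm hJ, hs]; field_simp
  have hn0 : bJ J (e - s • f) (e - s • f) ≠ 0 := hn ▸ haa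
  have he := (mem_Hyp.1 ha).1
  have hf := (mem_Hyp.1 ha).2
  refine ⟨_, rG_mul_mem_OmG hJ hn0 haa hn.symm, ?_, ?_, ?_, fun w hw haw => ?_⟩
  · show (rM J _ * rM J a) *ᵥ e = _
    rw [← Matrix.mulVec_mulVec, rM_fix (a := a) (by rw [hJ.swap, he])]; exact h.refl_left hJ haa
  · show (rM J _ * rM J a) *ᵥ f = _
    rw [← Matrix.mulVec_mulVec, rM_fix (a := a) (by rw [hJ.swap, hf])]; exact h.refl_right hJ haa
  · show (rM J _ * rM J a) *ᵥ a = _
    rw [← Matrix.mulVec_mulVec, rM_self haa, Matrix.mulVec_neg, rM_fix (Pair.sub_perp ha s)]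
  · show (rM J _ * rM J a) *ᵥ w = _
    rw [← Matrix.mulVec_mulVec, rM_fix haw, rM_fix (Pair.sub_perp hw s)]

/-- An element of `Ω` scaling a pair and negating two orthogonal vectors. -/
theorem Pair.exists_levi (hJ : OG J) {e f v c : n → F} (h : Pair J e f) (hv : v ∈ Hyp J e f) (hc : c ∈ Hyp J e f)
    (hvv : bJ J v v ≠ 0) (hcc : bJ J c c ≠ 0) (hvc : bJ J v c = 0) :
    ∃ C ∈ OmG J, C.1 *ᵥ e = (bJ J c c / bJ J v v) • e ∧ C.1 *ᵥ f = (bJ J v v / bJ J c c) • f ∧
      C.1 *ᵥ v = -v ∧ C.1 *ᵥ c = -c ∧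
      ∀ w ∈ Hyp J e f, bJ J v w = 0 → bJ J c w = 0 → C.1 *ᵥ w = w := by
  obtain ⟨C₁, hC₁, h1e, h1f, h1v, h1w⟩ := h.exists_swap hJ hv hvv
  obtain ⟨C₂, hC₂, h2e, h2f, h2c, h2w⟩ := h.exists_swap hJ hc hcc
  refine ⟨C₁ * C₂, mul_mem hC₁ hC₂, ?_⟩
  have h2v : C₂.1 *ᵥ v = v := h2w v hv (by rw [hJ.swap, hvc])
  have h1c : C₁.1 *ᵥ c = c := h1w c hc hvc
  have h2 := hJ.two
  simp only [Units.val_mul, ← Matrix.mulVec_mulVec]
  refine ⟨?_, ?_, ?_, ?_, fun w hw hvw hcw => ?_⟩
  · rw [h2e, Matrix.mulVec_smul, h1f, smul_smul]; congr 1; field_simp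
  · rw [h2f, Matrix.mulVec_smul, h1e, smul_smul]; congr 1; field_simp
  · rw [h2v, h1v]
  · rw [h2c, Matrix.mulVec_neg, h1c]
  · rw [h2w w hw hcw, h1w w hw hvw]

theorem isSquare_mul_of_not (h2 : (2 : F) ≠ 0) {a b : F} (ha : ¬ IsSquare a) (hb : ¬ IsSquare b) :
    IsSquare (a * b) := by
  have hc : ringChar F ≠ 2 := fun hc => h2 (by haveI := ringChar.of_eq hc; exact CharTwo.two_eq_zero)
  have ha0 : a ≠ 0 := fun e => ha (e ▸ IsSquare.zero)
  have hb0 : b ≠ 0 := fun e => hb (e ▸ IsSquare.zero)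
  rw [FiniteField.isSquare_iff hc (mul_ne_zero ha0 hb0), mul_pow,
    (FiniteField.pow_dichotomy hc ha0).resolve_left (fun h => ha ((FiniteField.isSquare_iff hc ha0).2 h)),
    (FiniteField.pow_dichotomy hc hb0).resolve_left (fun h => hb ((FiniteField.isSquare_iff hc hb0).2 h))]
  ring

/-- The squares of the scalings of a singular line are all squares. -/
theorem Pair.exists_scale (hJ : OG J) (h4 : 4 ≤ Fintype.card n) (hM : Fintype.card n = 4 → Minus J) {e f : n → F}
    (h : Pair J e f) {a : F} (ha : a ≠ 0) :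
    ∃ C ∈ OmG J, ∃ μ : F, C.1 *ᵥ e = μ • e ∧ μ * μ = a * a := by
  have htor : ∀ {r : F}, r ≠ 0 → ∃ C ∈ OmG J, C.1 *ᵥ e = (r * r) • e := fun hr =>
    ⟨_, tG_sq_mem_OmG hJ h hr, tM_left hJ h _⟩
  by_cases hsq : IsSquare a
  · obtain ⟨r, rfl⟩ := hsq
    obtain ⟨C, hC, hCe⟩ := htor (left_ne_zero_of_mul ha)
    exact ⟨C, hC, _, hCe, rfl⟩
  have h1 := finrank_Hyp (J := J) e f
  obtain ⟨v, hvH, hvv⟩ := (h.nd hJ).exists_aniso hJ (ne_bot_of_pos (by omega))
  have hS := (h.nd hJ).inf_perp hvH hvv hJ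
  have h2 := finrank_inf_perp (J := J) (Hyp J e f) v
  obtain ⟨c₁, hc₁, hc₁0⟩ := hS.exists_aniso hJ (ne_bot_of_pos (by omega))
  obtain ⟨hc₁H, hvc₁⟩ := hc₁
  rw [SetLike.mem_coe, mem_perp] at hvc₁
  by_cases h5 : 5 ≤ Fintype.card n
  · have hS' := hS.inf_perp ⟨hc₁H, mem_perp.2 hvc₁⟩ hc₁0 hJ
    have h3 := finrank_inf_perp (J := J) (Hyp J e f ⊓ perp J v) c₁
    obtain ⟨c₂, hc₂, hc₂0⟩ := hS'.exists_aniso hJ (ne_bot_of_pos (by omega))
    obtain ⟨⟨hc₂H, hvc₂⟩, hc₁₂⟩ := hc₂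
    rw [SetLike.mem_coe, mem_perp] at hvc₂ hc₁₂
    obtain ⟨x, y, hxy⟩ := binary_universal hJ.two hc₁0 hc₂0 (a * bJ J v v)
    set c := x • c₁ + y • c₂ with hc
    have hcc : bJ J c c = a * bJ J v v := by
      simp only [hc, bJ_add_left, bJ_add_right, bJ_smul_left, bJ_smul_right, hc₁₂, hJ.swap c₂ c₁]
      linear_combination hxy
    obtain ⟨C, hC, hCe, -⟩ := h.exists_levi hJ hvH (c := c)
      (Submodule.add_mem _ (Submodule.smul_mem _ _ hc₁H) (Submodule.smul_mem _ _ hc₂H)) hvv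
      (by rw [hcc]; exact mul_ne_zero ha hvv) (by simp [hc, hvc₁, hvc₂])
    exact ⟨C, hC, _, hCe, by rw [hcc, mul_div_assoc, div_self hvv, mul_one]⟩
  obtain ⟨C, hC, hCe, -⟩ := h.exists_levi hJ hvH hc₁H hvv hc₁0 hvc₁
  set ρ := bJ J c₁ c₁ / bJ J v v with hρ
  have hρ0 : ρ ≠ 0 := div_ne_zero hc₁0 hvv
  have hnρ : ¬ IsSquare (-ρ) := by
    rintro ⟨t, ht⟩
    have hz : bJ J (t • v + c₁) (t • v + c₁) = 0 := by
      simp only [bJ_add_left, bJ_add_right, bJ_smul_left, bJ_smul_right, hvc₁, hJ.swap c₁ v]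
      have h' : bJ J c₁ c₁ = ρ * bJ J v v := by rw [hρ, div_mul_cancel₀ _ hvv]
      linear_combination h' - bJ J v v * ht
    have hmem : t • v + c₁ ∈ Hyp J e f := Submodule.add_mem _ (Submodule.smul_mem _ _ hvH) hc₁H
    refine Pair.notMem_line hmem hJ h (fun e0 => hc₁0 ?_) (hM (by omega) e _ h.left_ne h.ee hz (mem_Hyp.1 hmem).1)
    have := congrArg (bJ J c₁) e0
    simpa [hJ.swap c₁ v, hvc₁] using this
  by_cases hρs : IsSquare ρ
  · have hm1 : ¬ IsSquare (-1 : F) := fun hm => hnρ (by simpa using hm.mul hρs)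
    obtain ⟨r, hr⟩ : IsSquare (-1 * a) := isSquare_mul_of_not hJ.two hm1 hsq
    obtain ⟨C', hC', hCe'⟩ := htor (r := r) (fun e0 => ha (by simpa [e0] using hr))
    exact ⟨C', hC', _, hCe', by rw [← hr]; ring⟩
  · obtain ⟨r, hr⟩ : IsSquare (a * ρ) := isSquare_mul_of_not hJ.two hsq hρs
    obtain ⟨C', hC', hCe'⟩ := htor (r := r / ρ) (div_ne_zero (fun e0 => mul_ne_zero ha hρ0 (by rw [hr, e0, mul_zero])) hρ0)
    refine ⟨C * C', mul_mem hC hC', _, by
      rw [Units.val_mul, ← Matrix.mulVec_mulVec, hCe', Matrix.mulVec_smul, hCe, smul_smul], ?_⟩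
    have he : r / ρ * (r / ρ) * ρ = a := by field_simp; linear_combination -hr
    rw [he]

/-- An additive group closed under the squares is closed under all scalars. -/
theorem smul_mem_of_sq (h2 : (2 : F) ≠ 0) {V : Type*} [AddCommGroup V] [Module F V] (A : AddSubgroup V)
    (h : ∀ a : F, a ≠ 0 → ∀ v ∈ A, (a * a) • v ∈ A) (c : F) {v : V} (hv : v ∈ A) : c • v ∈ A := by
  obtain ⟨x, y, hxy⟩ := binary_universal h2 (β₁ := 1) (β₂ := 1) one_ne_zero one_ne_zero c
  simp only [mul_one] at hxy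
  rw [← hxy, add_smul]
  refine A.add_mem ?_ ?_
  · rcases eq_or_ne x 0 with rfl | hx
    · rw [mul_zero, zero_smul]; exact A.zero_mem
    · exact h x hx v hv
  · rcases eq_or_ne y 0 with rfl | hy
    · rw [mul_zero, zero_smul]; exact A.zero_mem
    · exact h y hy v hv

/-- The projection on the line of a vector. -/
noncomputable def lineP (J : Matrix n n F) (u : n → F) : Matrix n n F := (bJ J u u)⁻¹ • dyad J u u

theorem rM_eq_lineP (u : n → F) : rM J u = 1 - (2 : F) • lineP J u := by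
  rw [rM, lineP, smul_smul, div_eq_mul_inv]

theorem lineP_smul {c : F} (hc : c ≠ 0) (u : n → F) : lineP J (c • u) = lineP J u := by
  rw [lineP, lineP, dyad_smul_left, dyad_smul_right, bJ_smul_left, bJ_smul_right, smul_smul, smul_smul]
  rcases eq_or_ne (bJ J u u) 0 with h | h
  · simp [h]
  · congr 1; field_simp

theorem lineP_mul_zero {u w : n → F} (h : bJ J u w = 0) : lineP J u * lineP J w = 0 := by
  rw [lineP, lineP, Matrix.smul_mul, Matrix.mul_smul, dyad_mul, h, zero_smul, smul_zero, smul_zero]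

theorem OG.exists_orth_basis (hJ : OG J) : ∃ h : Fin (Fintype.card n) → n → F, (∀ a b, a ≠ b → bJ J (h a) (h b) = 0) ∧
    (∀ a, bJ J (h a) (h a) ≠ 0) ∧ ∑ a, lineP J (h a) = 1 := by
  haveI : Invertible (2 : F) := invertibleOfNonzero hJ.two
  obtain ⟨ε, hε⟩ := (Matrix.toBilin' J).exists_orthogonal_basis
    (LinearMap.isSymm_def.2 fun p q => by
      rw [Matrix.toBilin'_apply', Matrix.toBilin'_apply']
      exact hJ.swap p q)
  let e : Fin (finrank F (n → F)) ≃ Fin (Fintype.card n) := finCongr (Module.finrank_fintype_fun_eq_card F)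
  have horth : ∀ a b, a ≠ b → bJ J (ε a) (ε b) = 0 := fun a b hab => by
    have := hε hab
    rwa [Function.onFun, Matrix.toBilin'_apply'] at this
  have hd : ∀ a, bJ J (ε a) (ε a) ≠ 0 := fun a h0 => ε.ne_zero a (hJ.eq_zero fun v => by
    rw [← ε.sum_repr v, bJ, Matrix.mulVec_sum, dotProduct_sum]
    refine Finset.sum_eq_zero fun b _ => ?_
    show bJ J (ε a) (ε.repr v b • ε b) = 0
    rw [bJ_smul_right]
    rcases eq_or_ne a b with rfl | hab
    · rw [h0, mul_zero]
    · rw [horth a b hab, mul_zero])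
  refine ⟨fun a => ε (e.symm a), fun a b hab => horth _ _ (e.symm.injective.ne hab), fun a => hd _, ?_⟩
  rw [e.symm.sum_comp (fun a => lineP J (ε a))]
  refine Matrix.toLin'.injective (ε.ext fun b => ?_)
  rw [Matrix.toLin'_apply, Matrix.toLin'_apply, Matrix.one_mulVec, Matrix.sum_mulVec,
    Finset.sum_eq_single b (fun a _ hab => by
      rw [lineP, Matrix.smul_mulVec, dyad_mulVec, horth a b hab, zero_smul, smul_zero]) (by simp),
    lineP, Matrix.smul_mulVec, dyad_mulVec, smul_smul, inv_mul_cancel₀ (hd b), one_smul]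

end Single

section Refl

variable {κ : Type} [Fintype κ] [DecidableEq κ] {k : ℕ} {J : Matrix (Fin k) (Fin k) F}

theorem liftRest_mem_OmG (hJ : OG J) (i : κ) {Y : GL (Rest i → Fin k) F} (hY : Y ∈ OmG (gT (Rest i) J)) :
    Units.map (liftRest i) Y ∈ OmG (gT κ J) := by
  rw [OmG_eq] at hY ⊢
  have h := Subgroup.mem_map_of_mem (Units.map (liftRest (F := F) (m := k) i)) hY
  rw [Subgroup.map_commutator] at h
  refine Subgroup.commutator_mono ?_ ?_ h <;>
    · rintro _ ⟨B, hB, rfl⟩; exact liftRest_mem_IsoG hJ i hB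

/-- A product of commuting reflections of the tensor power is in `Ω`. -/
def InOm (J : Matrix (Fin k) (Fin k) F) (X : TMat F κ k) : Prop :=
  ∃ g ∈ OmG (gT κ J), g.1 = 1 - (2 : F) • X

theorem InOm.add {X Y : TMat F κ k} (hX : InOm J X) (hY : InOm J Y) (h : X * Y = 0) : InOm J (X + Y) := by
  obtain ⟨g, hg, eg⟩ := hX
  obtain ⟨g', hg', eg'⟩ := hY
  refine ⟨g * g', mul_mem hg hg', ?_⟩
  rw [Units.val_mul, eg, eg']
  simp only [Matrix.sub_mul, Matrix.mul_sub, Matrix.one_mul, Matrix.mul_one, Matrix.smul_mul, Matrix.mul_smul, h,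
    smul_zero, sub_zero, smul_add]
  abel

theorem inOm_pair (hJ : OG J) {u w : (κ → Fin k) → F} (hu : bJ (gT κ J) u u ≠ 0)
    (hw : bJ (gT κ J) w w = bJ (gT κ J) u u) (huw : bJ (gT κ J) u w = 0) :
    InOm J (lineP (gT κ J) u + lineP (gT κ J) w) := by
  refine ⟨_, rG_mul_mem_OmG (gT_og hJ) hu (hw ▸ hu) hw, ?_⟩
  show rM (gT κ J) u * rM (gT κ J) w = _
  rw [rM_eq_lineP, rM_eq_lineP]
  simp only [Matrix.sub_mul, Matrix.mul_sub, Matrix.one_mul, Matrix.mul_one, Matrix.smul_mul, Matrix.mul_smul,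
    lineP_mul_zero huw, smul_zero, sub_zero, smul_add]
  abel

theorem lineP_pv (u : κ → Fin k → F) : lineP (gT κ J) (pv u) = tens fun l => lineP J (u l) := by
  rw [lineP, dyad_pv, bJ_pv, ← Finset.prod_inv_distrib, ← tens_smul']
  rfl

/-- The reflections of a factor in dimension four, with three factors. -/
theorem refl_mem_three (hJ : OG J) (hk : k = 4) (hκ : Fintype.card κ = 3) (l : κ) {x : Fin k → F}
    (hx : bJ J x x ≠ 0) : opU l (rG J hx) ∈ OmG (gT κ J) := by
  subst hk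
  obtain ⟨o, hol⟩ : ∃ o, o ≠ l := Fintype.exists_ne_of_one_lt_card (by omega) l
  obtain ⟨o', ho'⟩ : ∃ o', o' ∉ ({l, o} : Finset κ) := by
    by_contra! hc
    have := Finset.card_le_card (s := (Finset.univ : Finset κ)) (t := {l, o}) fun z _ => hc z
    rw [Finset.card_univ, hκ, Finset.card_pair hol.symm] at this
    omega
  simp only [Finset.mem_insert, Finset.mem_singleton, not_or] at ho'
  obtain ⟨hol', ho'o⟩ := ho'
  have huniv : ∀ z, z = l ∨ z = o ∨ z = o' := by
    intro z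
    by_contra! hc
    have := Finset.card_le_univ ({z, l, o, o'} : Finset κ)
    rw [Finset.card_insert_of_notMem (by simp [hc]), Finset.card_insert_of_notMem (by simp [hol.symm, Ne.symm hol']),
      Finset.card_insert_of_notMem (by simp [Ne.symm ho'o]), Finset.card_singleton, hκ] at this
    omega
  have hb := hJ.exists_orth_basis
  rw [Fintype.card_fin] at hb
  obtain ⟨h, horth, hh, hsum⟩ := hb
  let P : κ → Fin 4 → Fin 4 → Fin 4 → F := fun z i j => if z = l then x else if z = o then h i else h j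
  let T : Fin 4 → Fin 4 → TMat F κ 4 := fun i j => lineP (gT κ J) (pv fun z => P z i j)
  have hprod : ∀ f : κ → F, ∏ z, f z = f l * (f o * f o') := fun f => by
    rw [show (Finset.univ : Finset κ) = {l, o, o'} from (Finset.eq_univ_iff_forall.2 fun z => by
        simpa using huniv z).symm, Finset.prod_insert (by simp [hol.symm, Ne.symm hol']),
      Finset.prod_insert (by simp [Ne.symm ho'o]), Finset.prod_singleton]
  have hB : ∀ i j i' j', bJ (gT κ J) (pv fun z => P z i j) (pv fun z => P z i' j') =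
      bJ J x x * (bJ J (h i) (h i') * bJ J (h j) (h j')) := fun i j i' j' => by
    rw [bJ_pv, hprod]
    simp only [P, if_true, if_neg hol, if_neg hol', if_neg ho'o]
  have hT0 : ∀ i j i' j', (i, j) ≠ (i', j') → T i j * T i' j' = 0 := fun i j i' j' hne => lineP_mul_zero (by
    rw [hB]
    by_cases hi : i = i'
    · rw [horth j j' fun hj => hne (by rw [hi, hj]), mul_zero, mul_zero]
    · rw [horth i i' hi, zero_mul, mul_zero])
  have hoff : ∀ i j, i ≠ j → InOm J (T i j + T j i) := fun i j hij => inOm_pair hJ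
    (by rw [hB]; exact mul_ne_zero hx (mul_ne_zero (hh i) (hh j)))
    (by rw [hB, hB]; ring) (by rw [hB, horth i j hij]; ring)
  have hdiag : ∀ i j, i ≠ j → InOm J (T i i + T j j) := fun i j hij => by
    have key : ∀ i : Fin 4, T i i = lineP (gT κ J) ((bJ J (h i) (h i))⁻¹ • pv fun z => P z i i) :=
      fun i => (lineP_smul (inv_ne_zero (hh i)) _).symm
    have hn : ∀ i : Fin 4, bJ (gT κ J) ((bJ J (h i) (h i))⁻¹ • pv fun z => P z i i)
        ((bJ J (h i) (h i))⁻¹ • pv fun z => P z i i) = bJ J x x := fun i => by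
      rw [bJ_smul_left, bJ_smul_right, hB]
      have := hh i
      field_simp
    rw [key i, key j]
    exact inOm_pair hJ (by rw [hn]; exact hx) (by rw [hn, hn])
      (by rw [bJ_smul_left, bJ_smul_right, hB, horth i j hij]; ring)
  have hall : InOm J ((T 0 1 + T 1 0) + (T 2 3 + T 3 2) + (T 0 2 + T 2 0) + (T 1 3 + T 3 1) + (T 0 3 + T 3 0) +
      (T 1 2 + T 2 1) + (T 0 0 + T 1 1) + (T 2 2 + T 3 3)) := by
    refine ((((((hoff 0 1 ?_).add (hoff 2 3 ?_) ?_).add (hoff 0 2 ?_) ?_).add (hoff 1 3 ?_) ?_).add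
      (hoff 0 3 ?_) ?_).add (hoff 1 2 ?_) ?_).add (hdiag 0 1 ?_) ?_ |>.add (hdiag 2 3 ?_) ?_ <;>
      first
        | decide
        | simp [Matrix.add_mul, Matrix.mul_add, hT0]
  have hsumT : ∑ i, ∑ j, T i j = op l (lineP J x) := by
    have key : ∀ i j, T i j = op l (lineP J x) * (op o (lineP J (h i)) * op o' (lineP J (h j))) := fun i j => by
      rw [show T i j = lineP (gT κ J) (pv fun z => P z i j) from rfl, lineP_pv, op_eq_tens, op_eq_tens, op_eq_tens,
        tens_mul_tens, tens_mul_tens]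
      congr 1
      funext z
      rcases huniv z with rfl | rfl | rfl
      · simp [P, hol.symm, Ne.symm hol']
      · simp [P, hol, Ne.symm ho'o]
      · simp [P, hol', ho'o]
    simp only [key, ← Finset.mul_sum, ← op_sum, hsum, map_one, mul_one]
  obtain ⟨g, hg, eg⟩ := hall
  convert hg using 1
  refine Units.ext ?_
  rw [eg, opU_coe]
  show op l (rM J x) = _
  rw [rM_eq_lineP, op_sub, map_one, op_smul, ← hsumT]
  simp only [Fin.sum_univ_four]
  congr 2
  abel

/-- The reflections of a factor in dimension four are in `Ω`, with at least three factors. -/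
theorem refl_mem (hJ : OG J) (hk : k = 4) : ∀ (κ : Type) [Fintype κ] [DecidableEq κ], 3 ≤ Fintype.card κ →
    ∀ (l : κ) {x : Fin k → F} (hx : bJ J x x ≠ 0), opU l (rG J hx) ∈ OmG (gT κ J) := by
  suffices H : ∀ n (κ : Type) [Fintype κ] [DecidableEq κ], Fintype.card κ = n → 3 ≤ n →
      ∀ (l : κ) {x : Fin k → F} (hx : bJ J x x ≠ 0), opU l (rG J hx) ∈ OmG (gT κ J) by
    intro κ _ _ h l x hx
    exact H _ κ rfl h l hx
  intro n
  induction n with
  | zero => intro κ _ _ _ h; omega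
  | succ n ih =>
    intro κ _ _ hn h3 l x hx
    rcases h3.eq_or_lt with h | h
    · exact refl_mem_three hJ hk (hn.trans h.symm) l hx
    obtain ⟨j, hj⟩ := Fintype.exists_ne_of_one_lt_card (by omega : 1 < Fintype.card κ) l
    have h1 := liftRest_mem_OmG hJ j (ih (Rest j) (by simp [Fintype.card_subtype_compl]; omega) (by omega)
      ⟨l, hj.symm⟩ hx)
    convert h1 using 1
    refine Units.ext ?_
    rw [Units.coe_map, opU_coe, opU_coe]
    exact (liftRest_op (⟨l, hj.symm⟩ : Rest j) _).symm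

end Refl

end CfsgLib.Classical.WreathMaxO
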