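import Cfsg.Agent.Lib.Classical.WreathMaxO.Space

/-!
# Root elements, reflections and tori of one orthogonal factor
-/

set_option autoImplicit false
set_option linter.unusedSectionVars false

open Matrix Module QuadraticMap

namespace CfsgLib.Classical.WreathMaxO

open CfsgLib.Orth

variable {F : Type*} [Field F] {n : Type} [Fintype n] [DecidableEq n] {J : Matrix n n F}

/-- A root: a singular vector and one orthogonal to it off its line. -/
structure Root (J : Matrix n n F) (e b : n → F) : Prop where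
  e0 : e ≠ 0
  ee : bJ J e e = 0
  eb : bJ J e b = 0
  off : b ∉ F ∙ e

/-- In dimension at least five only long roots are used. -/
def Adm (J : Matrix n n F) (e b : n → F) : Prop :=
  Root J e b ∧ (5 ≤ Fintype.card n → bJ J b b = 0)

theorem Root.be (hJ : OG J) {e b : n → F} (h : Root J e b) : bJ J b e = 0 := by rw [hJ.swap, h.eb]

theorem Root.b0 {e b : n → F} (h : Root J e b) : b ≠ 0 := fun e0 => h.off (e0 ▸ Submodule.zero_mem _)

theorem Pair.root {e f b : n → F} (hJ : OG J) (h : Pair J e f) (hb : b ∈ Hyp J e f) (hb0 : b ≠ 0) : Root J e b :=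
  ⟨h.left_ne, h.ee, (mem_Hyp.1 hb).1, Pair.notMem_line hb hJ h hb0⟩

/-- The skew map of a root. -/
def nP (J : Matrix n n F) (e b : n → F) : Matrix n n F := dyad J e b - dyad J b e

/-- The symmetric square of a singular vector. -/
def eP (J : Matrix n n F) (e : n → F) : Matrix n n F := dyad J e e

theorem nP_mulVec (e b v : n → F) : nP J e b *ᵥ v = bJ J b v • e - bJ J e v • b := by
  rw [nP, sub_mulVec, dyad_mulVec, dyad_mulVec]

theorem eP_mulVec (e v : n → F) : eP J e *ᵥ v = bJ J e v • e := dyad_mulVec _ _ _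

theorem adjJ_nP (hJ : OG J) (e b : n → F) : adjJ J (nP J e b) = -nP J e b := by
  rw [nP, adjJ_sub, adjJ_dyad hJ, adjJ_dyad hJ, neg_sub]

theorem adjJ_eP (hJ : OG J) (e : n → F) : adjJ J (eP J e) = eP J e := adjJ_dyad hJ e e

theorem eP_ne (hJ : OG J) {e : n → F} (he : e ≠ 0) : eP J e ≠ 0 := fun h => he (dyad_eq_zero hJ h he)

theorem nP_add (e b b' : n → F) : nP J e (b + b') = nP J e b + nP J e b' := by
  rw [nP, nP, nP, dyad_add_left, dyad_add_right]; abel

theorem nP_smul (e b : n → F) (c : F) : nP J e (c • b) = c • nP J e b := by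
  rw [nP, nP, dyad_smul_left, dyad_smul_right, smul_sub]

theorem nP_self (e : n → F) : nP J e e = 0 := sub_self _

theorem eP_sq {e : n → F} (he : bJ J e e = 0) : eP J e * eP J e = 0 := by
  rw [eP, dyad_mul, he, zero_smul]

theorem nP_mul_eP {e b : n → F} (he : bJ J e e = 0) (hbe : bJ J b e = 0) : nP J e b * eP J e = 0 := by
  rw [nP, eP, Matrix.sub_mul, dyad_mul, dyad_mul, he, hbe, zero_smul, zero_smul, sub_zero]

theorem eP_mul_nP {e b : n → F} (he : bJ J e e = 0) (heb : bJ J e b = 0) : eP J e * nP J e b = 0 := by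
  rw [nP, eP, Matrix.mul_sub, dyad_mul, dyad_mul, he, heb, zero_smul, zero_smul, sub_zero]

theorem nP_mul_nP {e a b : n → F} (he : bJ J e e = 0) (hae : bJ J a e = 0) (heb : bJ J e b = 0) :
    nP J e a * nP J e b = -bJ J a b • eP J e := by
  simp only [nP, eP, Matrix.sub_mul, Matrix.mul_sub, dyad_mul, he, hae, heb, zero_smul, sub_zero, zero_sub,
    neg_smul]

theorem nP_ne (hJ : OG J) {e b : n → F} (h : Root J e b) : nP J e b ≠ 0 := fun h0 => by
  obtain ⟨x, hx⟩ : ∃ x, bJ J e x ≠ 0 := by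
    by_contra! hall
    exact h.e0 (hJ.eq_zero hall)
  have h1 := congrArg (· *ᵥ x) h0
  simp only [nP_mulVec, zero_mulVec, sub_eq_zero] at h1
  exact h.off (Submodule.mem_span_singleton.2 ⟨(bJ J e x)⁻¹ * bJ J b x, by
    rw [mul_smul, h1, inv_smul_smul₀ hx]⟩)

/-- The unipotent element of a root. -/
def uP (J : Matrix n n F) (e b : n → F) (s : F) : Matrix n n F :=
  1 + s • nP J e b + (s * s / 2) • (nP J e b * nP J e b)

theorem uP_zero (e b : n → F) : uP J e b 0 = 1 := by simp [uP]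

theorem nP_cube (hJ : OG J) {e b : n → F} (h : Root J e b) : nP J e b * nP J e b * nP J e b = 0 := by
  rw [nP_mul_nP h.ee (h.be hJ) h.eb, Matrix.smul_mul, eP_mul_nP h.ee h.eb, smul_zero]

theorem uP_mul (hJ : OG J) {e b : n → F} (h : Root J e b) (s t : F) :
    uP J e b s * uP J e b t = uP J e b (s + t) := by
  have h3 := nP_cube hJ h
  simp only [uP]
  set N := nP J e b
  have h3' : N * (N * N) = 0 := by rw [← Matrix.mul_assoc, h3]
  have h4 : N * N * (N * N) = 0 := by rw [Matrix.mul_assoc, h3', Matrix.mul_zero]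
  simp only [add_mul, mul_add, Matrix.one_mul, Matrix.mul_one, Matrix.smul_mul, Matrix.mul_smul, h3, h3', h4,
    smul_zero, smul_smul]
  match_scalars <;> field_simp [hJ.two] <;> ring

theorem uP_add (hJ : OG J) {e b b' : n → F} (he : bJ J e e = 0) (hb : bJ J e b = 0) (hb' : bJ J e b' = 0)
    (hbb : bJ J b b' = 0) (s t : F) : uP J e b s * uP J e b' t = uP J e (s • b + t • b') 1 := by
  have h1 : nP J e b * nP J e b' = 0 := by
    rw [nP_mul_nP he (by rw [hJ.swap, hb]) hb', hbb, neg_zero, zero_smul]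
  have h1' : nP J e b' * nP J e b = 0 := by
    rw [nP_mul_nP he (by rw [hJ.swap, hb']) hb, hJ.swap b', hbb, neg_zero, zero_smul]
  simp only [uP, nP_add, nP_smul]
  set N := nP J e b
  set N' := nP J e b'
  have h2 : N * (N' * N') = 0 := by rw [← Matrix.mul_assoc, h1, Matrix.zero_mul]
  have h3 : N * N * N' = 0 := by rw [Matrix.mul_assoc, h1, Matrix.mul_zero]
  have h4 : N * N * (N' * N') = 0 := by rw [Matrix.mul_assoc, h2, Matrix.mul_zero]
  simp only [add_mul, mul_add, Matrix.one_mul, Matrix.mul_one, Matrix.smul_mul, Matrix.mul_smul, h1, h1', h2, h3, h4,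
    smul_zero, smul_smul, zero_add, add_zero]
  match_scalars <;> field_simp [hJ.two]

/-- The unipotent element as an invertible matrix. -/
def uG (hJ : OG J) {e b : n → F} (h : Root J e b) (s : F) : GL n F :=
  ⟨uP J e b s, uP J e b (-s), by rw [uP_mul hJ h, add_neg_cancel, uP_zero],
    by rw [uP_mul hJ h, neg_add_cancel, uP_zero]⟩

theorem uG_mul (hJ : OG J) {e b : n → F} (h : Root J e b) (s t : F) : uG hJ h s * uG hJ h t = uG hJ h (s + t) :=
  Units.ext (uP_mul hJ h s t)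

theorem uG_zero (hJ : OG J) {e b : n → F} (h : Root J e b) : uG hJ h 0 = 1 := Units.ext (uP_zero e b)

theorem uG_inv (hJ : OG J) {e b : n → F} (h : Root J e b) (s : F) : (uG hJ h s)⁻¹ = uG hJ h (-s) :=
  inv_eq_of_mul_eq_one_right (by rw [uG_mul, add_neg_cancel, uG_zero])

theorem adjJ_uP (hJ : OG J) {e b : n → F} (s : F) : adjJ J (uP J e b s) = uP J e b (-s) := by
  simp only [uP, adjJ_add, adjJ_one hJ, adjJ_smul, adjJ_mul hJ, adjJ_nP hJ, smul_neg, neg_smul, neg_mul_neg]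

theorem uG_mem_IsoG (hJ : OG J) {e b : n → F} (h : Root J e b) (s : F) : uG hJ h s ∈ IsoG J := by
  rw [mem_IsoG_iff hJ]
  show adjJ J (uP J e b s) * uP J e b s = 1
  rw [adjJ_uP hJ, uP_mul hJ h, neg_add_cancel, uP_zero]

theorem uG_mem_OmG [Fintype F] (hJ : OG J) {e b : n → F} (h : Root J e b) (s : F) : uG hJ h s ∈ OmG J := by
  have := sq_mem_OmG hJ (uG_mem_IsoG hJ h (s / 2))
  rwa [uG_mul, show s / 2 + s / 2 = s by field_simp [hJ.two]; ring] at this

theorem uP_sub_inv (hJ : OG J) (e b : n → F) (s : F) :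
    uP J e b s - uP J e b (-s) = (2 * s) • nP J e b := by
  simp only [uP, neg_mul_neg, neg_smul]
  rw [two_mul, add_smul]
  abel

theorem conj_dyad (hJ : OG J) {C : GL n F} (hC : C ∈ IsoG J) (u v : n → F) :
    C.1 * dyad J u v * C⁻¹.1 = dyad J (C.1 *ᵥ u) (C.1 *ᵥ v) :=
  Matrix.ext_iff_mulVec.2 fun x => by
    rw [← Matrix.mulVec_mulVec, ← Matrix.mulVec_mulVec, dyad_mulVec, dyad_mulVec, Matrix.mulVec_smul]
    congr 1
    conv_rhs => rw [show x = C.1 *ᵥ (C⁻¹.1 *ᵥ x) by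
      rw [Matrix.mulVec_mulVec, ← Units.val_mul, mul_inv_cancel, Units.val_one, Matrix.one_mulVec],
      (mem_IsoG_iff_bJ hJ).1 hC]

theorem conj_nP (hJ : OG J) {C : GL n F} (hC : C ∈ IsoG J) (e b : n → F) :
    C.1 * nP J e b * C⁻¹.1 = nP J (C.1 *ᵥ e) (C.1 *ᵥ b) := by
  rw [nP, nP, Matrix.mul_sub, Matrix.sub_mul, conj_dyad hJ hC, conj_dyad hJ hC]

theorem conj_eP (hJ : OG J) {C : GL n F} (hC : C ∈ IsoG J) (e : n → F) :
    C.1 * eP J e * C⁻¹.1 = eP J (C.1 *ᵥ e) := conj_dyad hJ hC e e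

/-! ### Reflections -/

/-- The reflection at `a`. -/
noncomputable def rM (J : Matrix n n F) (a : n → F) : Matrix n n F := 1 - (2 / bJ J a a) • dyad J a a

theorem rM_mulVec (a v : n → F) : rM J a *ᵥ v = v - (2 / bJ J a a * bJ J a v) • a := by
  rw [rM, sub_mulVec, one_mulVec, smul_mulVec, dyad_mulVec, smul_smul]

theorem rM_fix {a v : n → F} (h : bJ J a v = 0) : rM J a *ᵥ v = v := by rw [rM_mulVec, h]; simp

theorem rM_self {a : n → F} (h : bJ J a a ≠ 0) : rM J a *ᵥ a = -a := by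
  rw [rM_mulVec, div_mul_cancel₀ _ h]; module

theorem rM_sq {a : n → F} (h : bJ J a a ≠ 0) : rM J a * rM J a = 1 :=
  Matrix.ext_iff_mulVec.2 fun v => by
    rw [← Matrix.mulVec_mulVec, rM_mulVec a v, Matrix.mulVec_sub, Matrix.mulVec_smul, rM_self h, rM_mulVec,
      one_mulVec]
    module

theorem adjJ_rM (hJ : OG J) (a : n → F) : adjJ J (rM J a) = rM J a := by
  rw [rM, adjJ_sub, adjJ_one hJ, adjJ_smul, adjJ_dyad hJ]

/-- The reflection as an invertible matrix. -/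
noncomputable def rG (J : Matrix n n F) {a : n → F} (h : bJ J a a ≠ 0) : GL n F :=
  ⟨rM J a, rM J a, rM_sq h, rM_sq h⟩

theorem rG_mem (hJ : OG J) {a : n → F} (h : bJ J a a ≠ 0) : rG J h ∈ IsoG J := by
  rw [mem_IsoG_iff hJ]
  show adjJ J (rM J a) * rM J a = 1
  rw [adjJ_rM hJ, rM_sq h]

theorem rG_conj (hJ : OG J) {C : GL n F} (hC : C ∈ IsoG J) {a c : n → F} (ha : bJ J a a ≠ 0)
    (hc : bJ J c c ≠ 0) (h : C.1 *ᵥ a = c) : C * rG J ha * C⁻¹ = rG J hc := by
  refine Units.ext ?_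
  rw [Units.val_mul, Units.val_mul]
  show C.1 * rM J a * C⁻¹.1 = rM J c
  have hn : bJ J c c = bJ J a a := by rw [← h, (mem_IsoG_iff_bJ hJ).1 hC]
  rw [rM, rM, Matrix.mul_sub, Matrix.sub_mul, Matrix.mul_one, ← Units.val_mul, mul_inv_cancel, Units.val_one,
    Matrix.mul_smul, Matrix.smul_mul, conj_dyad hJ hC, h, hn]

variable [Fintype F]

/-- An isometry mapping one anisotropic vector to another of the same norm. -/
theorem OG.exists_map (hJ : OG J) {a c : n → F} (ha : bJ J a a ≠ 0) (h : bJ J c c = bJ J a a) :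
    ∃ C ∈ IsoG J, C.1 *ᵥ a = c := by
  obtain ⟨g, hg⟩ := exists_map_eq (nondeg_qf hJ) (good_of_two_ne hJ.two) (u := a) (w := c)
    (fun e => ha (by rw [e, bJ_zero_left])) (fun e => ha (by rw [← h, e, bJ_zero_left]))
    (by rw [qf_apply, qf_apply, h])
  refine ⟨_, ⟨g, rfl⟩, ?_⟩
  rw [← Matrix.toLin'_apply, toLin'_orthToGL]
  exact hg

theorem rG_mul_mem_OmG (hJ : OG J) {a c : n → F} (ha : bJ J a a ≠ 0) (hc : bJ J c c ≠ 0)
    (h : bJ J c c = bJ J a a) : rG J ha * rG J hc ∈ OmG J := by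
  obtain ⟨C, hC, hCa⟩ := hJ.exists_map ha h
  rw [← rG_conj hJ hC ha hc hCa]
  exact mul_conj_mem_OmG hJ (rG_mem hJ ha) hC

/-! ### Tori -/

/-- The torus element of a pair. -/
noncomputable def tM (J : Matrix n n F) (e f : n → F) (μ : F) : Matrix n n F :=
  1 + (μ - 1) • dyad J e f + (μ⁻¹ - 1) • dyad J f e

omit [Fintype F] in
theorem tM_mulVec (e f v : n → F) (μ : F) :
    tM J e f μ *ᵥ v = v + ((μ - 1) * bJ J f v) • e + ((μ⁻¹ - 1) * bJ J e v) • f := by
  simp only [tM, add_mulVec, one_mulVec, smul_mulVec, dyad_mulVec, smul_smul]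

omit [Fintype F] in
theorem tM_left {e f : n → F} (hJ : OG J) (h : Pair J e f) (μ : F) : tM J e f μ *ᵥ e = μ • e := by
  rw [tM_mulVec, h.fe hJ, h.ee, mul_one, mul_zero, zero_smul, add_zero]
  module

omit [Fintype F] in
theorem tM_right {e f : n → F} (h : Pair J e f) (μ : F) : tM J e f μ *ᵥ f = μ⁻¹ • f := by
  rw [tM_mulVec, h.ff, h.ef, mul_zero, zero_smul, add_zero, mul_one]
  module

omit [Fintype F] in
theorem tM_fix {e f v : n → F} (hv : v ∈ Hyp J e f) (μ : F) : tM J e f μ *ᵥ v = v := by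
  rw [tM_mulVec, (mem_Hyp.1 hv).1, (mem_Hyp.1 hv).2]; simp

omit [Fintype F] in
theorem tM_mul {e f : n → F} (hJ : OG J) (h : Pair J e f) {μ ν : F} :
    tM J e f μ * tM J e f ν = tM J e f (μ * ν) :=
  Matrix.ext_iff_mulVec.2 fun v => by
    rw [← Matrix.mulVec_mulVec, tM_mulVec e f v ν, Matrix.mulVec_add, Matrix.mulVec_add, Matrix.mulVec_smul,
      Matrix.mulVec_smul, tM_left hJ h, tM_right h, tM_mulVec, tM_mulVec, mul_inv]
    module

/-- The torus element as an invertible matrix. -/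
noncomputable def tG (hJ : OG J) {e f : n → F} (h : Pair J e f) {μ : F} (hμ : μ ≠ 0) : GL n F :=
  ⟨tM J e f μ, tM J e f μ⁻¹, by rw [tM_mul hJ h, mul_inv_cancel₀ hμ]; simp [tM],
    by rw [tM_mul hJ h, inv_mul_cancel₀ hμ]; simp [tM]⟩

theorem tG_mem_IsoG (hJ : OG J) {e f : n → F} (h : Pair J e f) {μ : F} (hμ : μ ≠ 0) : tG hJ h hμ ∈ IsoG J := by
  rw [mem_IsoG_iff hJ]
  show adjJ J (tM J e f μ) * tM J e f μ = 1
  rw [show adjJ J (tM J e f μ) = tM J e f μ⁻¹ by
    simp only [tM, adjJ_add, adjJ_one hJ, adjJ_smul, adjJ_dyad hJ, inv_inv]; abel,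
    tM_mul hJ h, inv_mul_cancel₀ hμ]
  simp [tM]

theorem tG_sq_mem_OmG (hJ : OG J) {e f : n → F} (h : Pair J e f) {μ : F} (hμ : μ ≠ 0) :
    tG hJ h (mul_ne_zero hμ hμ) ∈ OmG J := by
  have := sq_mem_OmG hJ (tG_mem_IsoG hJ h hμ)
  convert this using 1
  exact Units.ext (tM_mul hJ h).symm

/-- An element of `Ω` fixing `e ⊗ e` and negating a root. -/
theorem Pair.exists_flip (hJ : OG J) {e f b : n → F} (h : Pair J e f) (hb : b ∈ Hyp J e f) (hbb : bJ J b b ≠ 0)
    (hcase : 5 ≤ Fintype.card n ∨ (4 ≤ Fintype.card n ∧ Fintype.card F = 3 ∧ Minus J) ∨ IsSquare (-1 : F)) :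
    ∃ C ∈ OmG J, ∃ ε : F, ε * ε = 1 ∧ C.1 * nP J e b * C⁻¹.1 = -nP J e b ∧
      C.1 * eP J e = ε • eP J e ∧ eP J e * C⁻¹.1 = ε • eP J e := by
  suffices H : ∃ C ∈ OmG J, ∃ ε : F, ε * ε = 1 ∧ C.1 *ᵥ e = ε • e ∧
      nP J (C.1 *ᵥ e) (C.1 *ᵥ b) = -nP J e b by
    obtain ⟨C, hC, ε, hε, he, hN⟩ := H
    have hI := OmG_le hC
    have h1 : C.1 * eP J e = ε • eP J e :=
      Matrix.ext_iff_mulVec.2 fun v => by
        rw [← Matrix.mulVec_mulVec, eP_mulVec, Matrix.mulVec_smul, he, smul_mulVec, eP_mulVec, smul_comm]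
    refine ⟨C, hC, ε, hε, by rw [conj_nP hJ hI, hN], h1, ?_⟩
    have h2 := congrArg (adjJ J) h1
    rwa [adjJ_mul hJ, adjJ_smul, adjJ_eP hJ, ← IsoG.inv_val hJ hI] at h2
  rw [← or_assoc] at hcase
  rcases hcase with hc | ⟨μ, hμ⟩
  · obtain ⟨c, hcH, hbc, hcc⟩ := h.exists_same hJ hb hbb hc
    have hcc0 : bJ J c c ≠ 0 := by rwa [hcc]
    have h1 : (rG J hbb * rG J hcc0).1 *ᵥ e = e := by
      show (rM J b * rM J c) *ᵥ e = e
      rw [← Matrix.mulVec_mulVec, rM_fix (a := c) (v := e) (by rw [hJ.swap, (mem_Hyp.1 hcH).1]),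
        rM_fix (a := b) (v := e) (by rw [hJ.swap, (mem_Hyp.1 hb).1])]
    have h2 : (rG J hbb * rG J hcc0).1 *ᵥ b = -b := by
      show (rM J b * rM J c) *ᵥ b = -b
      rw [← Matrix.mulVec_mulVec, rM_fix (a := c) (by rw [hJ.swap, hbc]), rM_self hbb]
    refine ⟨_, rG_mul_mem_OmG hJ hbb hcc0 hcc, 1, one_mul 1, by rw [h1, one_smul], ?_⟩
    rw [h1, h2, ← neg_one_smul F b, nP_smul, neg_one_smul]
  · have hμ0 : μ ≠ 0 := fun e0 => by simp [e0] at hμ
    have h1 : (tG hJ h (mul_ne_zero hμ0 hμ0)).1 *ᵥ e = -e := by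
      show tM J e f (μ * μ) *ᵥ e = -e
      rw [tM_left hJ h, ← hμ, neg_one_smul]
    have h2 : (tG hJ h (mul_ne_zero hμ0 hμ0)).1 *ᵥ b = b := tM_fix hb _
    refine ⟨_, tG_sq_mem_OmG hJ h hμ0, -1, by ring, by rw [h1, neg_one_smul], ?_⟩
    rw [h1, h2, nP, nP, ← neg_one_smul F e, dyad_smul_left, dyad_smul_right, ← smul_sub, neg_one_smul]

end CfsgLib.Classical.WreathMaxO
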