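import Cfsg.Agent.Lib.Classical.WreathMax.Induct
import Cfsg.Agent.Lib.Classical.WreathMaxO.Root

/-!
# The tensor power of an orthogonal space, and overgroups of its wreath stabiliser in `Ω`
-/

set_option autoImplicit false
set_option linter.unusedSectionVars false

open Matrix Module
open scoped Kronecker

namespace CfsgLib.Classical.WreathMaxO

open CfsgLib.Classical.WreathMax

variable {F : Type*} [Field F] {κ : Type} [Fintype κ] [DecidableEq κ] {k : ℕ}
  {J : Matrix (Fin k) (Fin k) F}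

/-- The Gram matrix of the tensor power. -/
def gT (κ : Type) [Fintype κ] [DecidableEq κ] (J : Matrix (Fin k) (Fin k) F) : TMat F κ k :=
  tens fun _ => J

theorem tens_transpose (C : κ → Matrix (Fin k) (Fin k) F) : (tens C)ᵀ = tens fun l => (C l)ᵀ := rfl

theorem tens_mul_tens (C D : κ → Matrix (Fin k) (Fin k) F) : tens C * tens D = tens fun l => C l * D l :=
  (map_mul tens C D).symm

theorem tens_update_smul (C : κ → Matrix (Fin k) (Fin k) F) (i : κ) (c : F) (X : Matrix (Fin k) (Fin k) F) :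
    tens (Function.update C i (c • X)) = c • tens (Function.update C i X) := by
  ext x y
  simp only [Matrix.smul_apply, tens_apply, smul_eq_mul]
  rw [← Finset.mul_prod_erase Finset.univ _ (Finset.mem_univ i),
    ← Finset.mul_prod_erase Finset.univ (fun l => Function.update C i X l (x l) (y l)) (Finset.mem_univ i),
    Function.update_self, Function.update_self, Matrix.smul_apply, smul_eq_mul, mul_assoc]
  congr 2
  exact Finset.prod_congr rfl fun l hl => by
    rw [Function.update_of_ne (Finset.ne_of_mem_erase hl), Function.update_of_ne (Finset.ne_of_mem_erase hl)]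

theorem tens_smul' (a : κ → F) (C : κ → Matrix (Fin k) (Fin k) F) :
    tens (fun l => a l • C l) = (∏ l, a l) • tens C := by
  ext x y
  simp [tens_apply, Finset.prod_mul_distrib]

theorem gT_og (hJ : OG J) : OG (gT κ J) := by
  refine ⟨hJ.two, ?_, (Matrix.isUnit_iff_isUnit_det _).1 ?_⟩
  · rw [gT, tens_transpose, hJ.symm]
  · have h : IsUnit (fun _ : κ => J) := Pi.isUnit_iff.2 fun _ => (Matrix.isUnit_iff_isUnit_det J).2 hJ.unit
    exact h.map tens

theorem adjJ_tens (hJ : OG J) (C : κ → Matrix (Fin k) (Fin k) F) :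
    adjJ (gT κ J) (tens C) = tens fun l => adjJ J (C l) := by
  have hi : (gT κ J)⁻¹ = tens fun _ => J⁻¹ := Matrix.inv_eq_left_inv (by
    rw [gT, tens_mul_tens, show (fun _ : κ => J⁻¹ * J) = 1 from funext fun _ => Matrix.nonsing_inv_mul J hJ.unit,
      map_one])
  rw [adjJ, hi, gT, tens_transpose, tens_mul_tens, tens_mul_tens]
  rfl

theorem adjJ_op (hJ : OG J) (i : κ) (A : Matrix (Fin k) (Fin k) F) :
    adjJ (gT κ J) (op i A) = op i (adjJ J A) := by
  rw [op_eq_tens, op_eq_tens, adjJ_tens hJ]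
  congr 1
  funext l
  by_cases h : l = i
  · subst h; simp
  · simp [h, adjJ_one hJ]

theorem adjJ_sum {n : Type} [Fintype n] [DecidableEq n] {K : Matrix n n F} {α : Type*} (s : Finset α)
    (X : α → Matrix n n F) : adjJ K (∑ a ∈ s, X a) = ∑ a ∈ s, adjJ K (X a) := by
  simp [adjJ, Matrix.transpose_sum, Matrix.mul_sum, Finset.sum_mul]

/-- An invertible matrix on one factor. -/
def opU (i : κ) : GL (Fin k) F →* GL (κ → Fin k) F := Units.map (op i)

theorem opU_coe (i : κ) (A : GL (Fin k) F) : (opU i A).1 = op i A.1 := rfl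

theorem opU_inv_coe (i : κ) (A : GL (Fin k) F) : (opU i A)⁻¹.1 = op i A⁻¹.1 := rfl

theorem opU_mem_wreathT (i : κ) (A : GL (Fin k) F) : opU i A ∈ wreathT F κ k :=
  op_mem_wreathT i (opU_coe i A)

theorem opU_mem_IsoG (hJ : OG J) (i : κ) {A : GL (Fin k) F} (hA : A ∈ IsoG J) : opU i A ∈ IsoG (gT κ J) := by
  rw [mem_IsoG_iff (gT_og hJ), opU_coe, adjJ_op hJ, ← map_mul, (mem_IsoG_iff hJ).1 hA, map_one]

theorem opU_mem_OmG (hJ : OG J) (i : κ) {A : GL (Fin k) F} (hA : A ∈ OmG J) : opU i A ∈ OmG (gT κ J) := by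
  rw [OmG_eq] at hA ⊢
  have h := Subgroup.mem_map_of_mem (opU i) hA
  rw [Subgroup.map_commutator] at h
  refine Subgroup.commutator_mono ?_ ?_ h <;>
    · rintro _ ⟨B, hB, rfl⟩; exact opU_mem_IsoG hJ i hB

theorem adjJ_permM (hJ : OG J) (σ : Equiv.Perm κ) : adjJ (gT κ J) (permM σ) = permM σ⁻¹ := by
  have ht : (permM (F := F) (m := k) σ)ᵀ = permM σ⁻¹ := by
    ext x y
    rw [Matrix.transpose_apply, permM_apply, permM_apply]
    congr 1
    exact propext ⟨fun h => funext fun l => by simp [h], fun h => funext fun l => by simp [h]⟩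
  rw [adjJ, ht, Matrix.mul_assoc, gT, permM_mul_tens]
  rw [← Matrix.mul_assoc, ← gT, Matrix.nonsing_inv_mul _ (gT_og hJ).unit, Matrix.one_mul]

theorem permU_mem_IsoG (hJ : OG J) (σ : Equiv.Perm κ) : permU σ ∈ IsoG (gT κ J) := by
  rw [mem_IsoG_iff (gT_og hJ), permU_coe, adjJ_permM hJ, ← map_mul, inv_mul_cancel, map_one]

/-- The conditions on the factor. -/
structure GoodF (J : Matrix (Fin k) (Fin k) F) : Prop where
  og : OG J
  three : 3 ≤ k
  ex : Nat.card F = 3 → k ≠ 3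
  plane : k = 4 → Minus J

/-- A group between the wreath stabiliser in `Ω` and the isometry group. -/
structure Over (J : Matrix (Fin k) (Fin k) F) (M : Subgroup (GL (κ → Fin k) F)) : Prop where
  good : GoodF J
  le : M ≤ IsoG (gT κ J)
  ge : wreathT F κ k ⊓ OmG (gT κ J) ≤ M

variable {M : Subgroup (GL (κ → Fin k) F)}

theorem Over.og (hM : Over J M) : OG J := hM.good.og

theorem Over.opU_mem (hM : Over J M) (i : κ) {A : GL (Fin k) F} (hA : A ∈ OmG J) : opU i A ∈ M :=
  hM.ge ⟨opU_mem_wreathT i A, opU_mem_OmG hM.og i hA⟩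

theorem Over.root_mem [Fintype F] (hM : Over J M) (i : κ) {e b : Fin k → F} (h : Root J e b) (s : F) :
    opU i (uG hM.og h s) ∈ M := hM.opU_mem i (uG_mem_OmG hM.og h s)

theorem Over.perm_sq_mem [Fintype F] (hM : Over J M) (σ : Equiv.Perm κ) : permU (σ * σ) ∈ M :=
  hM.ge ⟨permU_mem _, by rw [map_mul]; exact sq_mem_OmG (gT_og hM.og) (permU_mem_IsoG hM.og σ)⟩

/-- The products `op i h * op l h` of an isometry are in `M`. -/
theorem Over.pair_mem [Fintype F] (hM : Over J M) {i l : κ} {A : GL (Fin k) F} (hA : A ∈ IsoG J) :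
    opU i A * opU l A ∈ M := by
  refine hM.ge ⟨mul_mem (opU_mem_wreathT i A) (opU_mem_wreathT l A), ?_⟩
  have hs : opU l A = permU (Equiv.swap i l) * opU i A * (permU (Equiv.swap i l))⁻¹ := by
    refine eq_mul_inv_of_mul_eq (Units.ext ?_)
    rw [Units.val_mul, Units.val_mul, opU_coe, opU_coe, permU_coe, permM_mul_op, Equiv.swap_apply_left]
  rw [hs]
  exact mul_conj_mem_OmG (gT_og hM.og) (opU_mem_IsoG hM.og i hA) (permU_mem_IsoG hM.og _)

/-- Conjugation by `g` carries the stabiliser in `Ω` into `M`. -/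
def ConjIn (J : Matrix (Fin k) (Fin k) F) (M : Subgroup (GL (κ → Fin k) F)) (g : GL (κ → Fin k) F) : Prop :=
  ∀ y ∈ wreathT F κ k ⊓ OmG (gT κ J), g * y * g⁻¹ ∈ M

theorem Over.conjIn_of_mem (hM : Over J M) {g : GL (κ → Fin k) F} (hg : g ∈ M) : ConjIn J M g :=
  fun _ hy => mul_mem (mul_mem hg (hM.ge hy)) (inv_mem hg)

/-- A similitude of the tensor power. -/
def SimG (J : Matrix (Fin k) (Fin k) F) (g : GL (κ → Fin k) F) : Prop :=
  ∃ ν : F, ν ≠ 0 ∧ adjJ (gT κ J) g.1 * g.1 = ν • (1 : TMat F κ k)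

theorem Over.simG_of_mem (hM : Over J M) {g : GL (κ → Fin k) F} (hg : g ∈ M) : SimG J g :=
  ⟨1, one_ne_zero, by rw [one_smul]; exact (mem_IsoG_iff (gT_og hM.og)).1 (hM.le hg)⟩

theorem SimG.conj_iso (hJ : OG J) {g y : GL (κ → Fin k) F} (hg : SimG J g) (hy : y ∈ IsoG (gT κ J)) :
    g * y * g⁻¹ ∈ IsoG (gT κ J) := by
  obtain ⟨ν, hν, e⟩ := hg
  have hG := gT_og (κ := κ) hJ
  rw [mem_IsoG_iff hG, Units.val_mul, Units.val_mul, adjJ_mul hG, adjJ_mul hG]
  have ei : g⁻¹.1 = ν⁻¹ • adjJ (gT κ J) g.1 := by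
    calc g⁻¹.1 = ν⁻¹ • (adjJ (gT κ J) g.1 * g.1) * g⁻¹.1 := by
          rw [e, smul_smul, inv_mul_cancel₀ hν, one_smul, Matrix.one_mul]
      _ = _ := by rw [Matrix.smul_mul, Matrix.mul_assoc, ← Units.val_mul, mul_inv_cancel, Units.val_one, Matrix.mul_one]
  have e2 : adjJ (gT κ J) g⁻¹.1 = ν⁻¹ • g.1 := by rw [ei, adjJ_smul, adjJ_adjJ hG]
  rw [e2, show ν⁻¹ • g.1 * (adjJ (gT κ J) y.1 * adjJ (gT κ J) g.1) * (g.1 * y.1 * g⁻¹.1) =
      ν⁻¹ • (g.1 * (adjJ (gT κ J) y.1 * (adjJ (gT κ J) g.1 * g.1) * y.1) * g⁻¹.1) by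
    simp only [Matrix.smul_mul, Matrix.mul_assoc], e, Matrix.mul_smul, Matrix.mul_one, Matrix.smul_mul,
    (mem_IsoG_iff hG).1 hy, Matrix.mul_smul, Matrix.mul_one, Matrix.smul_mul, smul_smul, inv_mul_cancel₀ hν, one_smul,
    ← Units.val_mul, mul_inv_cancel, Units.val_one]

/-- The group on the factors other than `i`. -/
def restG (i : κ) (M : Subgroup (GL (κ → Fin k) F)) : Subgroup (GL (Rest i → Fin k) F) :=
  M.comap (Units.map (liftRest i))

theorem adjJ_liftRest (hJ : OG J) (i : κ) (W : TMat F (Rest i) k) :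
    adjJ (gT κ J) (liftRest i W) = liftRest i (adjJ (gT (Rest i) J) W) := by
  refine (split i).injective ?_
  have hsplit : ∀ X : TMat F κ k, split i Xᵀ = (split i X)ᵀ := fun X => rfl
  have hG : split i (gT κ J) = J ⊗ₖ gT (Rest i) J := split_tens i _
  have hGi : split i (gT κ J)⁻¹ = J⁻¹ ⊗ₖ (gT (Rest i) J)⁻¹ := by
    have h1 := congrArg (split i) (Matrix.nonsing_inv_mul _ (gT_og (κ := κ) hJ).unit)
    rw [map_mul, map_one, hG] at h1
    rw [← Matrix.inv_kronecker]
    exact (Matrix.inv_eq_left_inv h1).symm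
  rw [adjJ, map_mul, map_mul, hsplit, split_liftRest, split_liftRest, hG, hGi, ← Matrix.kroneckerMap_transpose,
    ← Matrix.mul_kronecker_mul, ← Matrix.mul_kronecker_mul, Matrix.transpose_one, Matrix.mul_one,
    Matrix.nonsing_inv_mul J hJ.unit]
  rfl

theorem liftRest_mem_IsoG (hJ : OG J) (i : κ) {Y : GL (Rest i → Fin k) F} (hY : Y ∈ IsoG (gT (Rest i) J)) :
    Units.map (liftRest i) Y ∈ IsoG (gT κ J) := by
  rw [mem_IsoG_iff (gT_og hJ), Units.coe_map, adjJ_liftRest hJ, ← map_mul, (mem_IsoG_iff (gT_og hJ)).1 hY, map_one]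

theorem liftRest_injective (hk : 0 < k) (i : κ) :
    Function.Injective (liftRest i : TMat F (Rest i) k → TMat F κ k) := fun W W' h => by
  have h1 := congrArg (split i) h
  rw [split_liftRest, split_liftRest] at h1
  ext u v
  have := congrFun (congrFun h1 (⟨0, hk⟩, u)) (⟨0, hk⟩, v)
  simpa using this

theorem Over.restG_over [Fintype F] (hM : Over J M) (i : κ) : Over J (restG i M) := by
  refine ⟨hM.good, fun Y hY => ?_, fun Y hY => ?_⟩
  · have h := (mem_IsoG_iff (gT_og hM.og)).1 (hM.le (Subgroup.mem_comap.1 hY))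
    rw [Units.coe_map, adjJ_liftRest hM.og, ← map_mul, ← map_one (liftRest (F := F) (m := k) i)] at h
    exact (mem_IsoG_iff (gT_og hM.og)).2 (liftRest_injective (by have := hM.good.three; omega) i h)
  · refine Subgroup.mem_comap.2 (hM.ge ⟨liftRest_mem_wreathT i hY.1, ?_⟩)
    have h := Subgroup.mem_map_of_mem (Units.map (liftRest (F := F) (m := k) i)) (OmG_eq (J := gT (Rest i) J) ▸ hY.2)
    rw [Subgroup.map_commutator] at h
    rw [OmG_eq]
    refine Subgroup.commutator_mono ?_ ?_ h <;>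
      · rintro _ ⟨B, hB, rfl⟩; exact liftRest_mem_IsoG hM.og i hB

end CfsgLib.Classical.WreathMaxO
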