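import Cfsg.Agent.Lib.Classical.WreathMaxSp.Classify
import Cfsg.Agent.Lib.Classical.WreathMaxO.Tensor

/-!
# Sums of pure tensors that are pure
-/

set_option autoImplicit false
set_option linter.unusedSectionVars false

open Matrix Module

namespace CfsgLib.Classical.WreathMaxO

open CfsgLib.Classical.WreathMax
open CfsgLib.Classical.WreathMaxSp (pv tens_mulVec_pv permM_mulVec_pv pv_ne_zero exists_dot_sep exists_avoid
  not_two_differ)

variable {F : Type*} [Field F] {κ : Type} [Fintype κ] [DecidableEq κ] {k : ℕ}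

theorem mem_span_pair_flip {V : Type*} [AddCommGroup V] [Module F V] {x y : V} (hy : y ≠ 0) (h : x ∉ F ∙ y) :
    y ∉ F ∙ x := fun hm => by
  obtain ⟨c, hc⟩ := Submodule.mem_span_singleton.1 hm
  have hc0 : c ≠ 0 := fun e => hy (by rw [← hc, e, zero_smul])
  exact h (Submodule.mem_span_singleton.2 ⟨c⁻¹, by rw [← hc, smul_smul, inv_mul_cancel₀ hc0, one_smul]⟩)

/-- A map killing one vector and fixing two. -/
theorem exists_kill {u u' c : Fin k → F} (h : c ∉ Submodule.span F {u, u'}) :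
    ∃ P : Matrix (Fin k) (Fin k) F, P *ᵥ u = u ∧ P *ᵥ u' = u' ∧ P *ᵥ c = 0 := by
  obtain ⟨θ, hθ, hθu⟩ := Submodule.exists_dual_map_eq_bot_of_notMem h inferInstance
  have h0 : ∀ w ∈ Submodule.span F {u, u'}, θ w = 0 := fun w hw => by
    have := Submodule.mem_map_of_mem (f := θ) hw
    rwa [hθu, Submodule.mem_bot] at this
  refine ⟨LinearMap.toMatrix' (LinearMap.id - ((θ c)⁻¹ • θ).smulRight c), ?_, ?_, ?_⟩ <;>
    rw [LinearMap.toMatrix'_mulVec] <;>
    simp [h0 u (Submodule.subset_span (Set.mem_insert _ _)),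
      h0 u' (Submodule.subset_span (Set.mem_insert_of_mem _ rfl)), hθ]

/-- A pure combination of three pure tensors with two independent triples has at most one term. -/
theorem not_three_differ {α β γ : F} (hα : α ≠ 0) (hβ : β ≠ 0) {v a c w : κ → Fin k → F}
    (h : α • pv v + β • pv a + γ • pv c = pv w) (hv : ∀ l, v l ≠ 0) (ha : ∀ l, a l ≠ 0) {l m : κ} (hlm : l ≠ m)
    (hl : v l ∉ F ∙ a l) (hm : v m ∉ F ∙ a m) (hc : c l ∉ Submodule.span F {v l, a l}) : False := by
  classical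
  obtain ⟨P, hPv, hPa, hPc⟩ := exists_kill hc
  set D : κ → Matrix (Fin k) (Fin k) F := fun j => if j = l then P else 1
  have hfix : ∀ u : κ → Fin k → F, P *ᵥ u l = u l → tens D *ᵥ pv u = pv u := fun u hu => by
    rw [tens_mulVec_pv]
    congr 1
    funext j
    by_cases hj : j = l
    · subst hj; simp [D, hu]
    · simp [D, hj]
  have hkill : tens D *ᵥ pv c = 0 := by
    rw [tens_mulVec_pv]
    funext x
    exact Finset.prod_eq_zero (Finset.mem_univ l) (by simp [D, hPc])
  have h' := congrArg (tens D *ᵥ ·) h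
  simp only [Matrix.mulVec_add, Matrix.mulVec_smul, hfix v hPv, hfix a hPa, hkill, smul_zero, add_zero,
    tens_mulVec_pv] at h'
  exact not_two_differ hα hβ h' hv ha hlm hl hm

theorem nilp_indep {X : Matrix (Fin k) (Fin k) F} {r : ℕ} (hX : X ^ r = 0) {v : Fin k → F}
    (hv : (X * X) *ᵥ v ≠ 0) {c₀ c₁ c₂ : F} (h : c₀ • v + c₁ • (X *ᵥ v) + c₂ • ((X * X) *ᵥ v) = 0) :
    c₀ = 0 ∧ c₁ = 0 ∧ c₂ = 0 := by
  classical
  have hex : ∃ j, (X ^ j) *ᵥ v = 0 := ⟨r, by rw [hX, Matrix.zero_mulVec]⟩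
  have hj := Nat.find_spec hex
  have hz : ∀ j, Nat.find hex ≤ j → (X ^ j) *ᵥ v = 0 := fun j hle => by
    rw [show j = (j - Nat.find hex) + Nat.find hex by omega, pow_add, ← Matrix.mulVec_mulVec, hj, Matrix.mulVec_zero]
  have h3 : 3 ≤ Nat.find hex := by
    by_contra hlt
    exact hv (by rw [← sq]; exact hz 2 (by omega))
  have happ : ∀ j, c₀ • ((X ^ j) *ᵥ v) + c₁ • ((X ^ (j + 1)) *ᵥ v) + c₂ • ((X ^ (j + 2)) *ᵥ v) = 0 := fun j => by
    have := congrArg ((X ^ j) *ᵥ ·) h
    simp only [Matrix.mulVec_add, Matrix.mulVec_smul, Matrix.mulVec_mulVec, Matrix.mulVec_zero] at this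
    rw [pow_succ, pow_add, sq]
    exact this
  have hne := fun j (hj' : j < Nat.find hex) => Nat.find_min hex hj'
  have h0 : c₀ = 0 := by
    have := happ (Nat.find hex - 1)
    rw [hz (Nat.find hex - 1 + 1) (by omega), hz (Nat.find hex - 1 + 2) (by omega), smul_zero, smul_zero, add_zero,
      add_zero] at this
    exact (smul_eq_zero.1 this).resolve_right (hne _ (by omega))
  have h1 : c₁ = 0 := by
    have := happ (Nat.find hex - 2)
    rw [h0, zero_smul, zero_add, hz (Nat.find hex - 2 + 2) (by omega), smul_zero, add_zero] at this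
    exact (smul_eq_zero.1 this).resolve_right (hne _ (by omega))
  rw [h0, h1, zero_smul, zero_smul, zero_add, zero_add] at h
  exact ⟨h0, h1, (smul_eq_zero.1 h).resolve_right hv⟩

/-- A unipotent element and its inverse give three independent images. -/
theorem unipotent_triple {C C' : Matrix (Fin k) (Fin k) F} (hCC : C * C' = 1) {r : ℕ} (hX : (C - 1) ^ r = 0)
    {v : Fin k → F} (hv : ((C - 1) * (C - 1)) *ᵥ v ≠ 0) :
    v ∉ F ∙ (C *ᵥ v) ∧ C' *ᵥ v ∉ Submodule.span F {v, C *ᵥ v} := by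
  set X := C - 1 with hXdef
  have hC : C *ᵥ v = v + X *ᵥ v := by rw [hXdef, Matrix.sub_mulVec, Matrix.one_mulVec]; abel
  refine ⟨fun hm => ?_, fun hm => ?_⟩
  · obtain ⟨c, hc⟩ := Submodule.mem_span_singleton.1 hm
    obtain ⟨h0, h1, -⟩ := nilp_indep hX hv (c₀ := c - 1) (c₁ := c) (c₂ := 0) (by
      rw [hC] at hc
      rw [zero_smul, add_zero, sub_smul, one_smul, sub_add_eq_add_sub, ← smul_add, hc, sub_self])
    rw [h1, zero_sub, neg_eq_zero] at h0
    exact one_ne_zero h0
  · obtain ⟨a, b, hab⟩ := Submodule.mem_span_pair.1 hm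
    have h := congrArg (C *ᵥ ·) hab
    simp only [Matrix.mulVec_add, Matrix.mulVec_smul, Matrix.mulVec_mulVec v C C', hCC, Matrix.one_mulVec] at h
    obtain ⟨h0, h1, h2⟩ := nilp_indep hX hv (c₀ := a + b - 1) (c₁ := a + 2 * b) (c₂ := b) (by
      have hXC : C *ᵥ (C *ᵥ v) = v + (X *ᵥ v + X *ᵥ v) + (X * X) *ᵥ v := by
        rw [hC, Matrix.mulVec_add, hC, show C = 1 + X by rw [hXdef]; abel, Matrix.add_mulVec, Matrix.one_mulVec,
          ← Matrix.mulVec_mulVec]
        abel
      rw [hXC, hC] at h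
      linear_combination (norm := module) h)
    rw [h2, mul_zero, add_zero] at h1
    rw [h1, h2, add_zero, zero_sub, neg_eq_zero] at h0
    exact one_ne_zero h0

end CfsgLib.Classical.WreathMaxO
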