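import Cfsg.Agent.Lib.Classical.WreathMaxO.Blocks

/-!
# Pure tensors in additive groups of matrices invariant under `Ω` of every factor
-/

set_option autoImplicit false
set_option linter.unusedSectionVars false
set_option maxHeartbeats 800000

open Matrix Module
open scoped Kronecker

namespace CfsgLib.Classical.WreathMaxO

open CfsgLib.Classical.WreathMax

variable {F : Type*} [Field F] [Fintype F] {κ : Type} [Fintype κ] [DecidableEq κ] {k : ℕ}
  {J : Matrix (Fin k) (Fin k) F}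

/-- An additive group of matrices invariant under the groups of the factors. -/
structure AddInv (J : Matrix (Fin k) (Fin k) F) (Y : AddSubgroup (TMat F κ k)) : Prop where
  ad : ∀ (l : κ), ∀ A ∈ OmG J, ∀ Z ∈ Y, Ad (opU l A) Z ∈ Y
  refl : k = 4 → 2 ≤ Fintype.card κ → ∀ (l : κ) {x : Fin k → F} (hx : bJ J x x ≠ 0), ∀ Z ∈ Y,
    Ad (opU l (rG J hx)) Z ∈ Y
  lin : 4 ≤ k → ∀ (c : F), ∀ Z ∈ Y, c • Z ∈ Y

/-- The non-scalar factors of the pure tensors to be found. -/
def NKind (J : Matrix (Fin k) (Fin k) F) (K : Matrix (Fin k) (Fin k) F) : Prop :=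
  (∃ e : Fin k → F, e ≠ 0 ∧ bJ J e e = 0 ∧ K = eP J e) ∨
    ∃ e f x : Fin k → F, Pair J e f ∧ x ∈ Hyp J e f ∧ bJ J x x ≠ 0 ∧ K = nP J e x

/-- The factors of the pure tensors to be found. -/
def Kind (J : Matrix (Fin k) (Fin k) F) (K : Matrix (Fin k) (Fin k) F) : Prop := K = 1 ∨ NKind J K

theorem NKind.ne_one (hJ : OG J) {K : Matrix (Fin k) (Fin k) F} (h : NKind J K) : K ≠ 1 := by
  intro h1
  rcases h with ⟨e, he0, hee, rfl⟩ | ⟨e, f, x, hp, hx, -, rfl⟩
  · have := congrArg (· *ᵥ e) h1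
    simp only [eP_mulVec, Matrix.one_mulVec] at this
    rw [hee, zero_smul] at this
    exact he0 this.symm
  · have := congrArg (· *ᵥ e) h1
    simp only [nP_mulVec, Matrix.one_mulVec, hp.ee, zero_smul, sub_zero, hJ.swap x e, (mem_Hyp.1 hx).1] at this
    exact hp.left_ne this.symm

theorem Ad_pow {n : Type} [Fintype n] [DecidableEq n] (g : GL n F) (j : ℕ) : Ad g ^ j = Ad (g ^ j) := by
  induction j with
  | zero => exact LinearMap.ext fun X => by simp [Ad_one]
  | succ j ih => exact LinearMap.ext fun X => by rw [pow_succ, pow_succ, Module.End.mul_apply, ih, Ad_mul]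

variable {Y : AddSubgroup (TMat F κ k)}

theorem AddInv.ad_uH (hY : AddInv J Y) (hJ : OG J) (l : κ) {e b : Fin k → F} (he : bJ J e e = 0) (hb : bJ J e b = 0)
    {Z : TMat F κ k} (hZ : Z ∈ Y) : Ad (opU l (uH hJ he hb)) Z ∈ Y := hY.ad l _ (uH_mem_OmG hJ he hb) Z hZ

theorem Ad_uP (hJ : OG J) (l : κ) {e b : Fin k → F} (he : bJ J e e = 0) (hb : bJ J e b = 0) (s : F) (Z : TMat F κ k) :
    Ad (opU l (uH hJ he (show bJ J e (s • b) = 0 by rw [bJ_smul_right, hb, mul_zero]))) Z =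
      (1 + s • op l (nP J e b) + (s * s / 2) • (op l (nP J e b) * op l (nP J e b))) * Z *
        (1 + (-s) • op l (nP J e b) + ((-s) * (-s) / 2) • (op l (nP J e b) * op l (nP J e b))) := by
  rw [Ad_apply, opU_coe, opU_inv_coe]
  show op l (uP J e (s • b) 1) * Z * op l (uP J e (-(s • b)) 1) = _
  rw [← uP_smul, ← neg_smul, ← uP_smul, op_uP, op_uP]

/-- A sandwich by the square of a root is a member of invariant groups of operators, up to a non-zero scalar. -/
theorem sandwich_op (hG : GoodF J) (l : κ) {P : AddSubgroup (Module.End F (TMat F κ k))}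
    (hP : ∀ A ∈ OmG J, ∀ Φ ∈ P, (Ad (opU l A) : Module.End F (TMat F κ k)) * Φ ∈ P) {e : Fin k → F} (he0 : e ≠ 0)
    (he : bJ J e e = 0) {Φ : Module.End F (TMat F κ k)} (hΦ : Φ ∈ P) :
    ∃ c : F, c ≠ 0 ∧ c • ((LinearMap.mulLeft F (op l (eP J e) : TMat F κ k) ∘ₗ
      LinearMap.mulRight F (op l (eP J e) : TMat F κ k)) ∘ₗ Φ) ∈ P := by
  classical
  have hJ := hG.og
  have h2 := hJ.two
  obtain ⟨f, hp⟩ := hJ.exists_pair_of he0 he
  obtain ⟨b, hb, hbb⟩ := (hp.nd hJ).exists_aniso hJ (ne_bot_of_pos (by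
    have := finrank_Hyp (J := J) e f; have := hG.three; rw [Fintype.card_fin] at *; omega))
  have heb := (mem_Hyp.1 hb).1
  let L : (Fin k → F) → F → Module.End F (TMat F κ k) := fun b s =>
    LinearMap.mulLeft F (1 + s • op l (nP J e b) + (s * s / 2) • (op l (nP J e b) * op l (nP J e b)) : TMat F κ k) ∘ₗ
      LinearMap.mulRight F
        (1 + (-s) • op l (nP J e b) + ((-s) * (-s) / 2) • (op l (nP J e b) * op l (nP J e b)) : TMat F κ k)
  have hL : ∀ (b : Fin k → F) (s : F) (Z : TMat F κ k), L b s Z =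
      (1 + s • op l (nP J e b) + (s * s / 2) • (op l (nP J e b) * op l (nP J e b))) * Z *
        (1 + (-s) • op l (nP J e b) + ((-s) * (-s) / 2) • (op l (nP J e b) * op l (nP J e b))) := fun b s Z => by
    simp only [L, LinearMap.comp_apply, LinearMap.mulLeft_apply, LinearMap.mulRight_apply, Matrix.mul_assoc]
  have hmem : ∀ {b : Fin k → F} (hb : bJ J e b = 0) (s : F) {Ψ}, Ψ ∈ P → L b s * Ψ ∈ P := fun {b} hb s {Ψ} hΨ => by
    have h := hP _ (uH_mem_OmG hJ he (show bJ J e (s • b) = 0 by rw [bJ_smul_right, hb, mul_zero])) Ψ hΨ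
    convert h using 2
    exact LinearMap.ext fun Z => by rw [Ad_uP hJ l he hb s Z, hL]
  have hsq : ∀ {b : Fin k → F}, bJ J e b = 0 →
      (op l (nP J e b) : TMat F κ k) * op l (nP J e b) = (-bJ J b b) • op l (eP J e) := fun hb => by
    rw [← map_mul, nP_mul_nP he (by rw [hJ.swap, hb]) hb, op_smul]
  by_cases h3 : Fintype.card F = 3
  · have hk := hG.three
    have hk3 := hG.ex (by rw [Nat.card_eq_fintype_card, h3])
    obtain ⟨c, hc, hbc, hcc⟩ := hp.exists_same hJ hb hbb (by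
      rw [Fintype.card_fin]
      rcases (show 4 ≤ k by omega).eq_or_lt with h | h
      · exact Or.inr ⟨by omega, h3, hG.plane h.symm⟩
      · exact Or.inl h)
    have hec := (mem_Hyp.1 hc).1
    refine ⟨(∑ s : F, s ^ 2) ^ 2 * (-bJ J b b) * (-bJ J c c) / 2, ?_, ?_⟩
    · have hS : (∑ s : F, s ^ 2) ≠ 0 := by
        rw [← Finset.sum_erase (f := fun s : F => s ^ 2) Finset.univ (show ((0 : F)) ^ 2 = 0 by simp),
          Finset.sum_congr rfl (g := fun _ => (1 : F)) fun s hs => by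
            have := FiniteField.pow_card_sub_one_eq_one s (Finset.ne_of_mem_erase hs)
            rwa [h3] at this,
          Finset.sum_const, Finset.card_erase_of_mem (Finset.mem_univ _), Finset.card_univ, h3, nsmul_one]
        exact_mod_cast h2
      exact div_ne_zero (mul_ne_zero (mul_ne_zero (pow_ne_zero _ hS) (neg_ne_zero.2 hbb))
        (neg_ne_zero.2 (by rwa [hcc]))) h2
    · convert P.sum_mem fun s (_ : s ∈ Finset.univ) =>
        hmem heb s (P.sum_mem fun t (_ : t ∈ Finset.univ) => hmem hec t hΦ) using 1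
      refine LinearMap.ext fun Z => ?_
      simp only [LinearMap.smul_apply, LinearMap.comp_apply, LinearMap.mulLeft_apply, LinearMap.mulRight_apply,
        LinearMap.sum_apply, Module.End.mul_apply, hL, ← Matrix.mul_assoc]
      rw [← norm_norm_eq h2 (hsq heb) (hsq hec) (by rw [← map_mul, eP_sq he, op_zero])
        (by rw [← map_mul, eP_mul_nP he heb, op_zero]) (by rw [← map_mul, nP_mul_eP he (by rw [hJ.swap, heb]), op_zero])
        (by rw [← map_mul, eP_mul_nP he hec, op_zero]) (by rw [← map_mul, nP_mul_eP he (by rw [hJ.swap, hec]), op_zero])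
        (by rw [← map_mul, nP_mul_nP he (by rw [hJ.swap, heb]) hec, hbc, neg_zero, zero_smul, op_zero])
        (by rw [← map_mul, nP_mul_nP he (by rw [hJ.swap, hec]) heb, hJ.swap c b, hbc, neg_zero, zero_smul, op_zero]) (Φ Z)]
  · obtain ⟨x, hx⟩ : ∃ x : F, x ∉ ({0, 1, -1} : Finset F) := by
      by_contra! hc
      have h1 : Fintype.card F ≤ ({0, 1, -1} : Finset F).card := Finset.card_le_card fun z _ => hc z
      have h1' := h1.trans Finset.card_le_three
      have h5 := Fintype.one_lt_card (α := F)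
      have : Fintype.card F ≠ 2 := fun e2 => h2 (by
        have := FiniteField.cast_card_eq_zero F
        rw [e2] at this
        exact_mod_cast this)
      omega
    simp only [Finset.mem_insert, Finset.mem_singleton, not_or] at hx
    set N : TMat F κ k := op l (nP J e b) with hN
    let D : F → Module.End F (TMat F κ k) := fun s => L b s * Φ + L b (-s) * Φ - (Φ + Φ)
    have hD : ∀ s, D s ∈ P := fun s => P.sub_mem (P.add_mem (hmem heb s hΦ) (hmem heb (-s) hΦ)) (P.add_mem hΦ hΦ)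
    refine ⟨-2 * (x * x) * ((x * x - 1) * (x * x - 1)) * (bJ J b b * bJ J b b), ?_, ?_⟩
    · have hxx : x * x - 1 ≠ 0 := fun e1 => by
        rcases mul_self_eq_one_iff.1 (sub_eq_zero.1 e1) with h | h
        exacts [hx.2.1 h, hx.2.2 h]
      exact mul_ne_zero (mul_ne_zero (mul_ne_zero (neg_ne_zero.2 h2) (mul_ne_zero hx.1 hx.1))
        (mul_ne_zero hxx hxx)) (mul_ne_zero hbb hbb)
    · have h := P.add_mem (P.add_mem (P.sub_mem (P.sub_mem (hD (2 * x)) (P.add_mem (hD x) (hD x)))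
        (hD (1 + x * x))) (hD 1)) (hD (x * x))
      convert h using 1
      refine LinearMap.ext fun Z => ?_
      have hexp : ∀ s, D s Z = (s * s) • (N * N * Φ Z + Φ Z * (N * N) - (2 : F) • (N * Φ Z * N)) +
          (s * s * (s * s) / 2) • (N * N * Φ Z * (N * N)) := fun s => by
        simp only [D, LinearMap.sub_apply, LinearMap.add_apply, Module.End.mul_apply, hL, ← hN, add_mul, mul_add,
          Matrix.one_mul, Matrix.mul_one, Matrix.smul_mul, Matrix.mul_smul, smul_smul, smul_add, smul_sub,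
          Matrix.mul_assoc]
        match_scalars <;> field_simp <;> ring
      simp only [LinearMap.add_apply, LinearMap.sub_apply, hexp]
      rw [show N * N = (-bJ J b b) • (op l (eP J e) : TMat F κ k) from hsq heb]
      simp only [LinearMap.smul_apply, LinearMap.comp_apply, LinearMap.mulLeft_apply, LinearMap.mulRight_apply,
        ← Matrix.mul_assoc, Matrix.smul_mul, Matrix.mul_smul, smul_smul, smul_add, smul_sub]
      match_scalars <;> field_simp <;> ring

/-- A sandwich of a member by the square of a root is a member up to a non-zero scalar. -/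
theorem AddInv.sandwich (hG : GoodF J) (hY : AddInv J Y) (l : κ) {e : Fin k → F} (he0 : e ≠ 0) (he : bJ J e e = 0)
    {Z : TMat F κ k} (hZ : Z ∈ Y) :
    ∃ c : F, c ≠ 0 ∧ c • (op l (eP J e) * Z * op l (eP J e)) ∈ Y := by
  obtain ⟨c, hc, h⟩ := sandwich_op hG l
    (P := Y.comap ((LinearMap.applyₗ (R := F) Z).toAddMonoidHom : Module.End F (TMat F κ k) →+ TMat F κ k))
    (fun A hA Φ hΦ => hY.ad l A hA _ hΦ) he0 he (Φ := 1) hZ
  refine ⟨c, hc, ?_⟩
  rw [Matrix.mul_assoc]
  exact h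

/-- The members with skew blocks at a factor. -/
def skewAt (J : Matrix (Fin k) (Fin k) F) (l : κ) (Y : AddSubgroup (TMat F κ k)) : AddSubgroup (TMat F κ k) where
  carrier := {Z | Z ∈ Y ∧ ∀ u v, adjJ J (blk l u v Z) = -blk l u v Z}
  zero_mem' := ⟨Y.zero_mem, fun u v => by simp [adjJ_zero]⟩
  add_mem' := fun {a b} ha hb => ⟨Y.add_mem ha.1 hb.1, fun u v => by
    rw [map_add, adjJ_add, ha.2, hb.2, neg_add]⟩
  neg_mem' := fun {a} ha => ⟨Y.neg_mem ha.1, fun u v => by rw [map_neg, adjJ_neg, ha.2]⟩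

theorem mem_skewAt {l : κ} {Z : TMat F κ k} :
    Z ∈ skewAt J l Y ↔ Z ∈ Y ∧ ∀ u v, adjJ J (blk l u v Z) = -blk l u v Z := Iff.rfl

/-- A non-zero skew member fixed by the roots at one singular vector. -/
theorem AddInv.exists_fixed (hG : GoodF J) (hY : AddInv J Y) (l : κ) {e : Fin k → F} (he : bJ J e e = 0)
    {Z₀ : TMat F κ k} (hZ₀ : Z₀ ∈ skewAt J l Y) (h0 : Z₀ ≠ 0) :
    ∃ Z ∈ skewAt J l Y, Z ≠ 0 ∧ ∀ a, ∀ ha : bJ J e a = 0, Ad (opU l (uH hG.og he ha)) Z = Z := by
  classical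
  have hJ := hG.og
  obtain ⟨p, hp⟩ := CharP.exists F
  haveI := hp
  haveI : Fact p.Prime := ⟨(CharP.char_is_prime_or_zero F p).resolve_right (CharP.char_ne_zero_of_finite F p)⟩
  haveI : Nonempty (Fin k) := ⟨⟨0, by have := hG.three; omega⟩⟩
  haveI : Nonempty (κ → Fin k) := ⟨fun _ => Classical.arbitrary _⟩
  haveI : Nontrivial (TMat F κ k) := inferInstance
  haveI : CharP (Module.End F (TMat F κ k)) p :=
    charP_of_injective_algebraMap (algebraMap F (Module.End F (TMat F κ k))).injective p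
  suffices H : ∀ s : Finset (Fin k → F), ∃ Z ∈ skewAt J l Y, Z ≠ 0 ∧
      ∀ a ∈ s, ∀ ha : bJ J e a = 0, Ad (opU l (uH hJ he ha)) Z = Z by
    obtain ⟨Z, hZ, hZ0, h⟩ := H Finset.univ
    exact ⟨Z, hZ, hZ0, fun a ha => h a (Finset.mem_univ a) ha⟩
  intro s
  induction s using Finset.induction with
  | empty => exact ⟨Z₀, hZ₀, h0, fun a ha => absurd ha (Finset.notMem_empty a)⟩
  | @insert a s has ih =>
    obtain ⟨Z, hZ, hZ0, h⟩ := ih
    by_cases ha : bJ J e a = 0
    swap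
    · refine ⟨Z, hZ, hZ0, fun b hb hb' => ?_⟩
      rcases Finset.mem_insert.1 hb with rfl | hb
      · exact absurd hb' ha
      · exact h b hb hb'
    set U := opU l (uH hJ he ha) with hU
    set T : Module.End F (TMat F κ k) := Ad U - 1 with hT
    have hstep : ∀ W, W ∈ skewAt J l Y → T W ∈ skewAt J l Y := fun W hW => by
      refine (skewAt J l Y).sub_mem ⟨hY.ad_uH hJ l he ha hW.1, fun u v => ?_⟩ hW
      rw [blk_Ad, Ad_apply, adjJ_mul hJ, adjJ_mul hJ, hW.2, IsoG.inv_val hJ (uH_mem_IsoG hJ he ha), adjJ_adjJ hJ]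
      simp only [Matrix.neg_mul, Matrix.mul_neg, Matrix.mul_assoc]
    have hfix : ∀ W b (hb : bJ J e b = 0), Ad (opU l (uH hJ he hb)) W = W →
        Ad (opU l (uH hJ he hb)) (T W) = T W := fun W b hb hW => by
      have hc : uH hJ he hb * uH hJ he ha = uH hJ he ha * uH hJ he hb := Units.ext (by
        show uP J e b 1 * uP J e a 1 = uP J e a 1 * uP J e b 1
        rw [uP_mul_gen hJ he hb ha, uP_mul_gen hJ he ha hb, add_comm])
      show Ad (opU l (uH hJ he hb)) (Ad U W - W) = Ad U W - W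
      rw [map_sub, hW, hU, ← Ad_mul, ← map_mul, hc, map_mul, Ad_mul, hW]
    have hpow : ∀ j : ℕ, (T ^ j) Z ∈ skewAt J l Y ∧
        ∀ b ∈ s, ∀ hb : bJ J e b = 0, Ad (opU l (uH hJ he hb)) ((T ^ j) Z) = (T ^ j) Z := fun j => by
      induction j with
      | zero => exact ⟨hZ, h⟩
      | succ j ih =>
        rw [pow_succ', Module.End.mul_apply]
        exact ⟨hstep _ ih.1, fun b hb hb' => hfix _ b hb' (ih.2 b hb hb')⟩
    have hnil : (T ^ p) Z = 0 := by
      have hUp : U ^ p = 1 := by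
        rw [hU, ← map_pow, show uH hJ he ha ^ p = 1 from ?_, map_one]
        have hj : ∀ j : ℕ, (uH hJ he ha ^ j).1 = uP J e ((j : F) • a) 1 := fun j => by
          induction j with
          | zero => simp [uP, nP_zero]
          | succ j ih =>
            rw [pow_succ, Units.val_mul, ih]
            show uP J e _ 1 * uP J e a 1 = _
            rw [uP_mul_gen hJ he (by rw [bJ_smul_right, ha, mul_zero]) ha, Nat.cast_succ, add_smul, one_smul]
        exact Units.ext (by rw [hj, CharP.cast_eq_zero, zero_smul]; simp [uP, nP_zero])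
      rw [hT, sub_pow_char_of_commute p (Commute.one_right _), one_pow, Ad_pow, hUp, LinearMap.sub_apply, Ad_one,
        Module.End.one_apply, sub_self]
    have hex : ∃ j, (T ^ j) Z = 0 := ⟨p, hnil⟩
    obtain ⟨j, hj⟩ : ∃ j, Nat.find hex = j + 1 := Nat.exists_eq_succ_of_ne_zero fun h0' => hZ0 (by
      have := Nat.find_spec hex
      rwa [h0', pow_zero, Module.End.one_apply] at this)
    refine ⟨(T ^ j) Z, (hpow j).1, Nat.find_min hex (by omega), fun b hb hb' => ?_⟩
    rcases Finset.mem_insert.1 hb with rfl | hb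
    · have h1 := Nat.find_spec hex
      rw [hj, pow_succ', Module.End.mul_apply, hT, LinearMap.sub_apply, Module.End.one_apply, sub_eq_zero] at h1
      exact h1
    · exact (hpow j).2 b hb hb'

/-- A factor of a member is brought to a pure non-scalar form. -/
theorem AddInv.slot (hG : GoodF J) (hY : AddInv J Y) (l : κ) (hnl : ∃ Z ∈ Y, ∀ W, Z ≠ liftRest l W) :
    ∃ K, NKind J K ∧ ∃ W, W ≠ 0 ∧ op l K * liftRest l W ∈ Y := by
  classical
  have hJ := hG.og
  have hk := hG.three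
  have hn : 3 ≤ Fintype.card (Fin k) := by rw [Fintype.card_fin]; exact hk
  by_cases hex : ∃ Z ∈ Y, ∃ e, bJ J e e = 0 ∧ ∃ u v, bJ J e (blk l u v Z *ᵥ e) ≠ 0
  · obtain ⟨Z, hZ, e, he, u, v, huv⟩ := hex
    have he0 : e ≠ 0 := fun e0 => huv (by rw [e0, bJ_zero_left])
    obtain ⟨c, hc, hmem⟩ := hY.sandwich hG l he0 he hZ
    set W : TMat F (Rest l) k := Matrix.of fun u v => c * bJ J e (blk l u v Z *ᵥ e)
    refine ⟨eP J e, Or.inl ⟨e, he0, he, rfl⟩, W, fun e0 => mul_ne_zero hc huv (congrFun (congrFun e0 u) v), ?_⟩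
    convert hmem using 1
    refine blk_ext (l := l) fun u v => ?_
    rw [blk_op_lift, map_smul, blk_mul_op, blk_op_mul, eP_sandwich, smul_smul]
    rfl
  push Not at hex
  have hsym : ∀ Z ∈ Y, ∀ u v, ∃ c : F, blk l u v Z + adjJ J (blk l u v Z) = c • 1 := fun Z hZ u v =>
    hJ.sym_scalar hn (fun h3 => by
      rw [Fintype.card_fin]
      have := hG.ex (by rw [Nat.card_eq_fintype_card, h3])
      exact ⟨by omega, fun h4 => hG.plane h4⟩) fun e he => hex Z hZ e he u v
  obtain ⟨Z, hZ, hZl⟩ := hnl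
  obtain ⟨e₁, he₁, hne⟩ : ∃ e, bJ J e e = 0 ∧ op l (eP J e) * Z ≠ Z * op l (eP J e) := by
    by_contra! h
    obtain ⟨W, hW⟩ := eq_liftRest_of_comm_eP hJ hk l h
    exact hZl W hW
  have he₁0 : e₁ ≠ 0 := fun e0 => hne (by simp [e0, eP, dyad, op_zero])
  obtain ⟨f₁, hp₁⟩ := hJ.exists_pair_of he₁0 he₁
  obtain ⟨a, ha, haa⟩ := (hp₁.nd hJ).exists_aniso hJ (ne_bot_of_pos (by
    have := finrank_Hyp (J := J) e₁ f₁; omega))
  have hea := (mem_Hyp.1 ha).1
  obtain ⟨Z₀, hZ₀, hZ₀0⟩ : ∃ Z₀ ∈ skewAt J l Y, Z₀ ≠ 0 := by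
    have hmem : ∀ b (hb : bJ J e₁ b = 0), Ad (opU l (uH hJ he₁ hb)) Z - Z ∈ skewAt J l Y := fun b hb =>
      ⟨Y.sub_mem (hY.ad_uH hJ l he₁ hb hZ) hZ, fun u v => by
        obtain ⟨c, hc⟩ := hsym Z hZ u v
        have hI := uH_mem_IsoG hJ he₁ hb
        have h1 := congrArg (Ad (uH hJ he₁ hb)) hc
        rw [map_add, map_smul, Ad_apply (uH hJ he₁ hb) 1, Matrix.mul_one, ← Units.val_mul, mul_inv_cancel,
          Units.val_one] at h1
        have h2 : adjJ J (Ad (uH hJ he₁ hb) (blk l u v Z)) = Ad (uH hJ he₁ hb) (adjJ J (blk l u v Z)) := by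
          rw [Ad_apply, Ad_apply, adjJ_mul hJ, adjJ_mul hJ, IsoG.inv_val hJ hI, adjJ_adjJ hJ, Matrix.mul_assoc]
        rw [map_sub, blk_Ad, adjJ_sub, h2]
        linear_combination (norm := module) h1 - hc⟩
    by_contra! h
    have h1 := sub_eq_zero.1 (h _ (hmem a hea))
    have h2 := sub_eq_zero.1 (h _ (hmem (-a) (by rw [bJ_neg_right, hea, neg_zero])))
    have key : ∀ b (hb : bJ J e₁ b = 0), Ad (opU l (uH hJ he₁ hb)) Z = Z →
        op l (uP J e₁ b 1) * Z = Z * op l (uP J e₁ b 1) := fun b hb hf => by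
      have h3 := congrArg (· * op l (uP J e₁ b 1)) hf
      simp only [Ad_apply, opU_coe, opU_inv_coe, Matrix.mul_assoc, ← map_mul] at h3
      rw [show (uH hJ he₁ hb)⁻¹.1 * uP J e₁ b 1 = 1 from (uH hJ he₁ hb).inv_mul, map_one, Matrix.mul_one] at h3
      exact h3
    have k1 := key a hea h1
    have k2 := key (-a) _ h2
    refine hne (smul_right_injective _ (neg_ne_zero.2 haa) ?_)
    have hd : uP J e₁ a 1 + uP J e₁ (-a) 1 = (2 : F) • 1 + (-bJ J a a) • eP J e₁ := by
      rw [uP, uP, ← neg_one_smul F a, nP_smul, neg_one_smul, neg_mul_neg, nP_mul_nP he₁ (by rw [hJ.swap, hea]) hea]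
      match_scalars <;> field_simp [hJ.two] <;> ring
    have h4 : op l (uP J e₁ a 1 + uP J e₁ (-a) 1) * Z = Z * op l (uP J e₁ a 1 + uP J e₁ (-a) 1) := by
      rw [op_add, Matrix.add_mul, Matrix.mul_add, k1, k2]
    rw [hd, op_add, op_smul, op_smul, map_one, Matrix.add_mul, Matrix.mul_add, Matrix.smul_mul, Matrix.mul_smul,
      Matrix.one_mul, Matrix.mul_one, add_right_inj, Matrix.smul_mul, Matrix.mul_smul] at h4
    exact h4
  obtain ⟨e, f, hp⟩ := hJ.exists_pair hn
  obtain ⟨Z₁, ⟨hZ₁, hskew⟩, hZ₁0, hfix⟩ := hY.exists_fixed hG l hp.ee hZ₀ hZ₀0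
  set x : (Rest l → Fin k) → (Rest l → Fin k) → Fin k → F := fun u v => -(blk l u v Z₁ *ᵥ f)
  have hblk : ∀ u v, x u v ∈ Hyp J e f ∧ blk l u v Z₁ = nP J e (x u v) := fun u v =>
    hp.skew_fix hJ hn (hskew u v) fun a ha => by
      have hea := (mem_Hyp.1 ha).1
      have key : ∀ b (hb : bJ J e b = 0), uP J e b 1 * blk l u v Z₁ = blk l u v Z₁ * uP J e b 1 := fun b hb => by
        have h3' := congrArg (blk l u v) (hfix b hb)
        rw [blk_Ad, Ad_apply] at h3'
        have h3 := congrArg (· * uP J e b 1) h3'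
        simp only [Matrix.mul_assoc] at h3
        rwa [show (uH hJ hp.ee hb)⁻¹.1 * uP J e b 1 = 1 from (uH hJ hp.ee hb).inv_mul, Matrix.mul_one] at h3
      have k1 := key a hea
      have k2 := key (-a) (by rw [bJ_neg_right, hea, neg_zero])
      have hd : uP J e a 1 - uP J e (-a) 1 = (2 : F) • nP J e a := by
        rw [← neg_one_smul F a, ← uP_smul, uP_sub_inv hJ, mul_one]
      have h4 : (uP J e a 1 - uP J e (-a) 1) * blk l u v Z₁ = blk l u v Z₁ * (uP J e a 1 - uP J e (-a) 1) := by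
        rw [Matrix.sub_mul, Matrix.mul_sub, k1, k2]
      rw [hd, Matrix.smul_mul, Matrix.mul_smul] at h4
      exact (smul_right_injective _ hJ.two h4).symm
  obtain ⟨u₀, v₀, hx0⟩ : ∃ u v, x u v ≠ 0 := by
    by_contra! h
    exact hZ₁0 (blk_ext (l := l) fun u v => by rw [(hblk u v).2, h, nP_zero, map_zero])
  obtain ⟨b, hb, hbb, hbx⟩ := (hp.nd hJ).exists_aniso_ne hJ (hblk u₀ v₀).1 hx0
  -- it is enough to find a member whose blocks are multiples of the root at `b`
  suffices H : ∃ b' ∈ Hyp J e f, bJ J b' b' ≠ 0 ∧ ∃ W : TMat F (Rest l) k, W ≠ 0 ∧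
      ∃ Z₂ ∈ Y, ∀ u v, blk l u v Z₂ = W u v • nP J e b' by
    obtain ⟨b', hb', hbb', W, hW, Z₂, hZ₂, hb₂⟩ := H
    refine ⟨nP J e b', Or.inr ⟨e, f, b', hp, hb', hbb', rfl⟩, W, hW, ?_⟩
    convert hZ₂ using 1
    exact blk_ext (l := l) fun u v => by rw [blk_op_lift, hb₂]
  have hWne : ∀ c : F, c ≠ 0 → (Matrix.of fun u v => c * bJ J b (x u v) : TMat F (Rest l) k) ≠ 0 := fun c hc e0 =>
    mul_ne_zero hc hbx (congrFun (congrFun e0 u₀) v₀)
  by_cases hk3 : k = 3
  · refine ⟨b, hb, hbb, _, hWne _ (inv_ne_zero hbb), Z₁, hZ₁, fun u v => ?_⟩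
    rw [(hblk u v).2]
    conv_lhs => rw [hp.hyp_line hJ (by rw [Fintype.card_fin, hk3]) hb hbb (hblk u v).1]
    rw [nP_smul, Matrix.of_apply, inv_mul_eq_div]
  by_cases hk4 : k = 4
  · by_cases hκ : 2 ≤ Fintype.card κ
    · refine ⟨b, hb, hbb, _, hWne _ (div_ne_zero hJ.two hbb), Z₁ - Ad (opU l (rG J hbb)) Z₁,
        Y.sub_mem hZ₁ (hY.refl hk4 hκ l hbb Z₁ hZ₁), fun u v => ?_⟩
      rw [map_sub, blk_Ad, (hblk u v).2, Ad_apply, conj_nP hJ (rG_mem hJ hbb)]
      show nP J e (x u v) - nP J (rM J b *ᵥ e) (rM J b *ᵥ x u v) = _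
      rw [rM_fix (a := b) (by rw [hJ.swap, (mem_Hyp.1 hb).1]), rM_mulVec, nP_sub, nP_smul, Matrix.of_apply]
      abel
    · haveI : Subsingleton κ := Fintype.card_le_one_iff_subsingleton.1 (by omega)
      haveI : IsEmpty (Rest l) := ⟨fun z => z.2 (Subsingleton.elim _ _)⟩
      refine ⟨x u₀ v₀, (hblk u₀ v₀).1, fun h0 => ?_, 1, fun h0 => ?_, Z₁, hZ₁, fun u v => ?_⟩
      · refine Pair.notMem_line (hblk u₀ v₀).1 hJ hp hx0 ?_
        exact (hG.plane hk4) e _ hp.left_ne hp.ee h0 (mem_Hyp.1 (hblk u₀ v₀).1).1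
      · have := congrFun (congrFun h0 u₀) u₀
        simp at this
      · rw [(hblk u v).2, Subsingleton.elim u u₀, Subsingleton.elim v u₀, Subsingleton.elim u₀ v₀,
          Matrix.one_apply_eq, one_smul]
  · have h5 : 5 ≤ k := by omega
    have hS := (hp.nd hJ).inf_perp hb hbb hJ
    have d1 := finrank_Hyp (J := J) e f
    have d2 := finrank_inf_perp (J := J) (Hyp J e f) b
    rw [Fintype.card_fin] at d1
    obtain ⟨c₁, hc₁, hc₁0⟩ := hS.exists_aniso hJ (ne_bot_of_pos (by omega))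
    obtain ⟨hc₁H, hbc₁⟩ := hc₁
    rw [SetLike.mem_coe, mem_perp] at hbc₁
    have hS' := hS.inf_perp ⟨hc₁H, mem_perp.2 hbc₁⟩ hc₁0 hJ
    have d3 := finrank_inf_perp (J := J) (Hyp J e f ⊓ perp J b) c₁
    obtain ⟨c₂, hc₂, hc₂0⟩ := hS'.exists_aniso hJ (ne_bot_of_pos (by omega))
    obtain ⟨⟨hc₂H, hbc₂⟩, hc₁₂⟩ := hc₂
    rw [SetLike.mem_coe, mem_perp] at hbc₂ hc₁₂
    -- the projection to the plane of two vectors
    let π : (Fin k → F) → (Fin k → F) → (Fin k → F) := fun c w =>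
      (2 * bJ J b w / bJ J b b) • b + (2 * bJ J c w / bJ J c c) • c
    have hproj : ∀ c ∈ Hyp J e f, bJ J b c = 0 → bJ J c c ≠ 0 → ∀ W ∈ Y, ∀ y : (Rest l → Fin k) → (Rest l → Fin k) →
        Fin k → F, (∀ u v, y u v ∈ Hyp J e f ∧ blk l u v W = nP J e (y u v)) →
        ∃ W' ∈ Y, ∀ u v, blk l u v W' = nP J e (π c (y u v)) := by
      intro c hc hbc hcc W hW y hy
      obtain ⟨C, hC, hCe, -, hCb, hCc, hCw⟩ := hp.exists_levi hJ hb hc hbb hcc hbc
      set μ := bJ J c c / bJ J b b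
      have hμ : μ ≠ 0 := div_ne_zero hcc hbb
      refine ⟨W - μ⁻¹ • Ad (opU l C) W, Y.sub_mem hW (hY.lin (by omega) _ _ (hY.ad l C hC W hW)), fun u v => ?_⟩
      rw [map_sub, map_smul, blk_Ad, (hy u v).2, Ad_apply, conj_nP hJ (OmG_le hC), hCe, nP_smul_left, smul_smul,
        inv_mul_cancel₀ hμ, one_smul, ← nP_sub]
      congr 1
      set w := y u v with hwdef
      set r := w - (bJ J b w / bJ J b b) • b - (bJ J c w / bJ J c c) • c with hr
      have hrH : r ∈ Hyp J e f := Submodule.sub_mem _ (Submodule.sub_mem _ (hy u v).1 (Submodule.smul_mem _ _ hb))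
        (Submodule.smul_mem _ _ hc)
      have h1 : C.1 *ᵥ r = r := hCw r hrH
        (by simp only [hr, bJ_sub_right, bJ_smul_right, hbc, div_mul_cancel₀ _ hbb]; ring)
        (by simp only [hr, bJ_sub_right, bJ_smul_right, hJ.swap c b, hbc, div_mul_cancel₀ _ hcc]; ring)
      simp only [hr, Matrix.mulVec_sub, Matrix.mulVec_smul, hCb, hCc] at h1
      simp only [π, mul_div_assoc]
      linear_combination (norm := module) -h1
    obtain ⟨W₁, hW₁, hW₁b⟩ := hproj c₁ hc₁H hbc₁ hc₁0 Z₁ hZ₁ x hblk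
    obtain ⟨W₂, hW₂, hW₂b⟩ := hproj c₂ hc₂H hbc₂ hc₂0 W₁ hW₁ (fun u v => π c₁ (x u v)) fun u v =>
      ⟨Submodule.add_mem _ (Submodule.smul_mem _ _ hb) (Submodule.smul_mem _ _ hc₁H), hW₁b u v⟩
    refine ⟨b, hb, hbb, _, hWne (4 / bJ J b b)
      (div_ne_zero (by rw [show (4 : F) = 2 * 2 by norm_num]; exact mul_ne_zero hJ.two hJ.two) hbb),
      W₂, hW₂, fun u v => ?_⟩
    rw [hW₂b, Matrix.of_apply, ← nP_smul]
    congr 1
    simp only [π, bJ_add_right, bJ_smul_right, hbc₁, hJ.swap c₂ b, hbc₂, hJ.swap c₂ c₁, hc₁₂]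
    match_scalars <;> field_simp <;> ring

/-- The members of a fixed form at one factor. -/
def facAt (Y : AddSubgroup (TMat F κ k)) (l : κ) (K : Matrix (Fin k) (Fin k) F) :
    AddSubgroup (TMat F (Rest l) k) where
  carrier := {W | op l K * liftRest l W ∈ Y}
  zero_mem' := by simp [liftRest_zero, Y.zero_mem]
  add_mem' := fun {a b} ha hb => by
    simp only [Set.mem_setOf_eq, liftRest_add, Matrix.mul_add] at *
    exact Y.add_mem ha hb
  neg_mem' := fun {a} ha => by
    show op l K * liftRest l (-a) ∈ Y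
    rw [← zero_sub, liftRest_sub, liftRest_zero, zero_sub, Matrix.mul_neg]
    exact Y.neg_mem ha

theorem addInv_facAt (hY : AddInv J Y) (l : κ) (K : Matrix (Fin k) (Fin k) F) : AddInv J (facAt Y l K) := by
  have hc : 2 ≤ Fintype.card (Rest l) → 2 ≤ Fintype.card κ := fun h => le_trans h (Fintype.card_subtype_le _)
  refine ⟨fun m A hA W hW => ?_, fun h4 h2 m x hx W hW => ?_, fun h4 c W hW => ?_⟩
  · show op l K * liftRest l _ ∈ Y
    rw [← Ad_opU_other m.2]
    exact hY.ad m.1 A hA _ hW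
  · show op l K * liftRest l _ ∈ Y
    rw [← Ad_opU_other m.2]
    exact hY.refl h4 (hc h2) m.1 hx _ hW
  · show op l K * liftRest l (c • W) ∈ Y
    rw [liftRest_smul, Matrix.mul_smul]
    exact hY.lin h4 c _ hW

theorem op_lift_tens (l : κ) (K : Matrix (Fin k) (Fin k) F) (K' : Rest l → Matrix (Fin k) (Fin k) F) :
    op l K * liftRest l (tens K') = tens (fun z => if h : z = l then K else K' ⟨z, h⟩) := by
  refine split_inj (i := l) ?_
  rw [split_op_lift, split_tens]
  congr 2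
  · simp
  · funext z
    simp [z.2]

/-- A member not all of whose multiples are scalar gives a pure one with a non-scalar factor. -/
theorem exists_tens (hG : GoodF J) : ∀ (n : ℕ) (R : Type) [Fintype R] [DecidableEq R], Fintype.card R = n →
    ∀ (Y : AddSubgroup (TMat F R k)), AddInv J Y → (∃ Z ∈ Y, Z ≠ 0) →
      ∃ (c : F) (K : R → Matrix (Fin k) (Fin k) F), c ≠ 0 ∧ (∀ l, Kind J (K l)) ∧ c • tens K ∈ Y ∧
        ((∃ Z ∈ Y, ∀ d : F, Z ≠ d • 1) → ∃ l, K l ≠ 1) := by
  intro n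
  induction n using Nat.strong_induction_on with
  | _ n ih =>
    intro R _ _ hn Y hY hne
    classical
    by_cases hex : ∃ l : R, ∃ Z ∈ Y, ∀ W, Z ≠ liftRest l W
    · obtain ⟨l, hl⟩ := hex
      obtain ⟨K, hK, W, hW, hWY⟩ := hY.slot hG l hl
      have hlt : Fintype.card (Rest l) < n := hn ▸ Fintype.card_subtype_lt (p := fun z => z ≠ l) (x := l) (by simp)
      obtain ⟨c, K', hc, hK', hmem, -⟩ := ih _ hlt (Rest l) rfl (facAt Y l K) (addInv_facAt hY l K) ⟨W, hWY, hW⟩
      refine ⟨c, fun z => if h : z = l then K else K' ⟨z, h⟩, hc, fun z => ?_, ?_, fun _ => ⟨l, ?_⟩⟩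
      · by_cases h : z = l
        · simp only [dif_pos h]; exact Or.inr hK
        · simp only [dif_neg h]; exact hK' _
      · rw [← op_lift_tens, ← Matrix.mul_smul, ← liftRest_smul]
        exact hmem
      · simp only [dif_pos]
        exact hK.ne_one hG.og
    · push Not at hex
      obtain ⟨Z, hZ, hZ0⟩ := hne
      have hsc : ∀ Z ∈ Y, ∃ d : F, Z = d • (1 : TMat F R k) := fun Z hZ =>
        scalar_of_comm_all hG.og hG.three fun l e _ => by
          obtain ⟨W, rfl⟩ := hex l Z hZ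
          exact op_comm_liftRest l _ W
      obtain ⟨d, rfl⟩ := hsc Z hZ
      refine ⟨d, 1, fun e => hZ0 (by rw [e, zero_smul]), fun _ => Or.inl rfl, by rwa [map_one], ?_⟩
      rintro ⟨Z', hZ', hns⟩
      obtain ⟨d', hd'⟩ := hsc Z' hZ'
      exact absurd hd' (hns d')

end CfsgLib.Classical.WreathMaxO
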