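import Cfsg.Agent.Lib.Classical.WreathMaxO.Reduce

/-!
# The elements fixing a singular slice pointwise
-/

set_option autoImplicit false
set_option linter.unusedSectionVars false

open Matrix Module
open scoped Kronecker

namespace CfsgLib.Classical.WreathMaxO

open CfsgLib.Classical.WreathMax

variable {F : Type*} [Field F] [Fintype F] {κ : Type} [Fintype κ] [DecidableEq κ] {k : ℕ}
  {J : Matrix (Fin k) (Fin k) F} {M : Subgroup (GL (κ → Fin k) F)} {i : κ} {e f : Fin k → F}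

/-! ### Contractions -/

theorem ct_add (i : κ) (v : Fin k → F) (z z' : (κ → Fin k) → F) :
    ct J i v (z + z') = ct J i v z + ct J i v z' := by
  funext u; simp [ct, mul_add, Finset.sum_add_distrib]

theorem ct_smul (i : κ) (v : Fin k → F) (c : F) (z : (κ → Fin k) → F) : ct J i v (c • z) = c • ct J i v z := by
  funext u; simp [ct, Finset.mul_sum, mul_left_comm]

theorem ct_add_vec (i : κ) (v v' : Fin k → F) (z : (κ → Fin k) → F) :
    ct J i (v + v') z = ct J i v z + ct J i v' z := by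
  funext u; simp [ct, bt, Matrix.add_vecMul, add_mul, Finset.sum_add_distrib]

theorem ct_smul_vec (i : κ) (c : F) (v : Fin k → F) (z : (κ → Fin k) → F) :
    ct J i (c • v) z = c • ct J i v z := by
  funext u; simp [ct, bt, Matrix.smul_vecMul, Finset.mul_sum, mul_assoc]

theorem ct_sl (i : κ) (v x : Fin k → F) (w : (Rest i → Fin k) → F) : ct J i v (sl i x w) = bJ J v x • w := by
  funext u
  simp only [ct, sl, LinearMap.coe_mk, AddHom.coe_mk, Equiv.apply_symm_apply, WreathMax.tv, Pi.smul_apply, smul_eq_mul,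
    ← bt_dot, dotProduct, Finset.sum_mul, mul_assoc]

theorem bJ_sl (hJ : OG J) (i : κ) (x : Fin k → F) (w : (Rest i → Fin k) → F) (z : (κ → Fin k) → F) :
    bJ (gT κ J) (sl i x w) z = bJ (gT (Rest i) J) w (ct J i x z) := by
  have h1 : gT κ J *ᵥ sl i x w = sl i (J *ᵥ x) (gT (Rest i) J *ᵥ w) := tens_sl i _ x w
  have hs : ∀ {n : Type} [Fintype n] [DecidableEq n] {K : Matrix n n F}, OG K → ∀ p q : n → F,
      bJ K p q = (K *ᵥ p) ⬝ᵥ q := fun hK p q => by
    rw [hK.swap, bJ, dotProduct_comm]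
  rw [hs (gT_og hJ), hs (gT_og hJ), h1]
  simp only [dotProduct]
  rw [← (Equiv.funSplitAt i (Fin k)).symm.sum_comp, Fintype.sum_prod_type, Finset.sum_comm]
  refine Finset.sum_congr rfl fun u _ => ?_
  simp only [sl, LinearMap.coe_mk, AddHom.coe_mk, Equiv.apply_symm_apply, WreathMax.tv, ct, Finset.mul_sum]
  refine Finset.sum_congr rfl fun a _ => ?_
  rw [show bt J x a = (J *ᵥ x) a by rw [bt, ← Matrix.mulVec_transpose, hJ.symm]]
  ring

theorem ext_ct (hJ : OG J) (i : κ) {z z' : (κ → Fin k) → F} (h : ∀ v, ct J i v z = ct J i v z') : z = z' :=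
  ext_split i (funext fun ⟨a, u⟩ => by
    have hb : bt J (Pi.single a (1 : F) ᵥ* J⁻¹) = Pi.single a 1 := by
      rw [bt, Matrix.vecMul_vecMul, Matrix.nonsing_inv_mul J hJ.unit, Matrix.vecMul_one]
    have := congrFun (h (Pi.single a (1 : F) ᵥ* J⁻¹)) u
    simp only [ct, hb, Pi.single_apply, ite_mul, one_mul, zero_mul, Finset.sum_ite_eq', Finset.mem_univ, if_true] at this
    exact this)

theorem ct_op (hJ : OG J) (i : κ) (A : Matrix (Fin k) (Fin k) F) (v : Fin k → F) (z : (κ → Fin k) → F) :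
    ct J i v (op i A *ᵥ z) = ct J i (adjJ J A *ᵥ v) z :=
  (gT_og (κ := Rest i) hJ).ext fun w => by
    rw [← bJ_sl hJ, ← bJ_sl hJ, ← op_sl, bJ_mulVec (gT_og hJ), adjJ_op hJ, adjJ_adjJ hJ]

theorem ct_lift (hJ : OG J) (i : κ) (W : TMat F (Rest i) k) (v : Fin k → F) (z : (κ → Fin k) → F) :
    ct J i v (liftRest i W *ᵥ z) = W *ᵥ ct J i v z :=
  (gT_og (κ := Rest i) hJ).ext fun w => by
    conv_rhs => rw [← adjJ_adjJ (gT_og hJ) W, ← bJ_mulVec (gT_og hJ), ← bJ_sl hJ]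
    rw [← bJ_sl hJ, ← lift_sl, bJ_mulVec (gT_og hJ), adjJ_liftRest hJ, adjJ_adjJ (gT_og hJ)]

theorem ext_sl (i : κ) {X X' : TMat F κ k} (h : ∀ x w, X *ᵥ sl i x w = X' *ᵥ sl i x w) : X = X' := by
  refine Matrix.ext_of_mulVec_single fun z => ?_
  obtain ⟨⟨a, u⟩, rfl⟩ := (Equiv.funSplitAt i (Fin k)).symm.surjective z
  have e : Pi.single ((Equiv.funSplitAt i (Fin k)).symm (a, u)) (1 : F) = sl i (Pi.single a 1) (Pi.single u 1) := by
    funext z
    obtain ⟨⟨b, v⟩, rfl⟩ := (Equiv.funSplitAt i (Fin k)).symm.surjective z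
    simp only [sl, LinearMap.coe_mk, AddHom.coe_mk, Equiv.apply_symm_apply, WreathMax.tv, Pi.single_apply,
      EmbeddingLike.apply_eq_iff_eq, Prod.mk.injEq]
    by_cases h1 : b = a <;> by_cases h2 : v = u <;> simp [h1, h2]
  rw [e]
  exact h _ _

theorem Pair.expand (hJ : OG J) (hp : Pair J e f) (x : Fin k → F) :
    ∃ h ∈ Hyp J e f, x = bJ J f x • e + bJ J e x • f + h :=
  ⟨x - bJ J f x • e - bJ J e x • f, mem_Hyp.2 ⟨by simp [hp.ee, hp.ef], by simp [hp.ff, hp.fe hJ]⟩, by abel⟩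

/-- Matrices agreeing on the three parts of a pair are equal. -/
theorem Pair.ext_sl (hJ : OG J) (hp : Pair J e f) {X X' : TMat F κ k}
    (he : ∀ w, X *ᵥ sl i e w = X' *ᵥ sl i e w) (hf : ∀ w, X *ᵥ sl i f w = X' *ᵥ sl i f w)
    (hh : ∀ v ∈ Hyp J e f, ∀ w, X *ᵥ sl i v w = X' *ᵥ sl i v w) : X = X' :=
  WreathMaxO.ext_sl i fun x w => by
    obtain ⟨h, hh', e'⟩ := hp.expand hJ x
    rw [e', sl_add, sl_add, sl_smul, sl_smul]
    simp only [Matrix.mulVec_add, Matrix.mulVec_smul, he, hf, hh h hh']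

theorem Pair.ext_ct (hJ : OG J) (hp : Pair J e f) {z z' : (κ → Fin k) → F} (he : ct J i e z = ct J i e z')
    (hf : ct J i f z = ct J i f z') (hh : ∀ v ∈ Hyp J e f, ct J i v z = ct J i v z') : z = z' :=
  WreathMaxO.ext_ct hJ i fun x => by
    obtain ⟨h, hh', e'⟩ := hp.expand hJ x
    rw [e']
    simp only [ct_add_vec, ct_smul_vec, he, hf, hh h hh']

/-! ### Central elements -/

/-- The central map of a slice. -/
theorem opE_lift_mulVec (S : TMat F (Rest i) k) (z : (κ → Fin k) → F) (hJ : OG J) :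
    (op i (eP J e) * liftRest i S) *ᵥ z = sl i e (S *ᵥ ct J i e z) := by
  rw [← Matrix.mulVec_mulVec, eP, op_dyad_mulVec, ct_lift hJ]

theorem opE_lift_mul (he : bJ J e e = 0) (S S' : TMat F (Rest i) k) :
    op i (eP J e) * liftRest i S * (op i (eP J e) * liftRest i S') = 0 := by
  rw [op_lift_mul, eP_sq he, op_zero, Matrix.zero_mul]

/-- The central elements of a slice. -/
def centSub (M : Subgroup (GL (κ → Fin k) F)) (i : κ) {e : Fin k → F} (he : bJ J e e = 0) :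
    AddSubgroup (TMat F (Rest i) k) where
  carrier := {S | HasM M (op i (eP J e) * liftRest i S)}
  zero_mem' := by
    show HasM M _
    rw [liftRest_zero, Matrix.mul_zero]
    exact HasM.zero
  add_mem' := fun {a b} ha hb => by
    show HasM M _
    rw [liftRest_add, Matrix.mul_add]
    exact HasM.add ha hb (opE_lift_mul he a b)
  neg_mem' := fun {a} ha => by
    show HasM M _
    rw [← zero_sub, liftRest_sub, liftRest_zero, zero_sub, Matrix.mul_neg]
    exact HasM.neg ha (opE_lift_mul he a a)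

theorem Over.cent_skew (hM : Over J M) (hp : Pair J e f) {S : TMat F (Rest i) k}
    (h : S ∈ centSub M i hp.ee) : adjJ (gT (Rest i) J) S = -S := by
  have hJ := hM.og
  obtain ⟨g, hg, eg⟩ := h
  have h1 := (mem_IsoG_iff (gT_og hJ)).1 (hM.le hg)
  rw [eg, adjJ_add, adjJ_one (gT_og hJ), adjJ_mul (gT_og hJ), adjJ_op hJ, adjJ_eP hJ, adjJ_liftRest hJ,
    ← op_comm_liftRest, Matrix.add_mul, Matrix.one_mul, Matrix.mul_add, Matrix.mul_one, opE_lift_mul hp.ee, add_zero,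
    add_assoc, add_eq_left, ← Matrix.mul_add, ← liftRest_add] at h1
  have h2 : S + adjJ (gT (Rest i) J) S = 0 := by
    refine Matrix.ext_iff_mulVec.2 fun w => sl_injective i hp.left_ne ?_
    have h3 := congrArg (· *ᵥ sl i f w) h1
    rw [opE_lift_mulVec _ _ hJ, ct_sl, hp.ef, one_smul, Matrix.zero_mulVec] at h3
    rw [h3, Matrix.zero_mulVec, map_zero]
  exact eq_neg_of_add_eq_zero_right h2

theorem Over.refl_in (hM : Over J M) (hk : k = 4) (h3 : 3 ≤ Fintype.card κ) (l : κ) {x : Fin k → F}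
    (hx : bJ J x x ≠ 0) : opU l (rG J hx) ∈ M :=
  hM.ge ⟨opU_mem_wreathT l _, refl_mem hM.og hk κ h3 l hx⟩

theorem card_ge_three {l : κ} (h : 2 ≤ Fintype.card (Rest l)) : 3 ≤ Fintype.card κ := by
  have : Fintype.card (Rest l) < Fintype.card κ :=
    Fintype.card_lt_of_injective_of_notMem (Subtype.val : Rest l → κ) Subtype.val_injective (b := l)
      (fun ⟨z, hz⟩ => z.2 hz)
  omega

theorem Ad_opU_cent {l : κ} (h : l ≠ i) (A : GL (Fin k) F) (hA : opU l A ∈ M) {he : bJ J e e = 0}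
    {S : TMat F (Rest i) k} (hS : S ∈ centSub M i he) : Ad (opU (⟨l, h⟩ : Rest i) A) S ∈ centSub M i he := by
  show HasM M _
  rw [← Ad_opU_other h]
  exact HasM.adO hS hA

theorem Over.addInv_cent (hM : Over J M) (i : κ) (hp : Pair J e f) : AddInv J (centSub M i hp.ee) := by
  have hJ := hM.og
  refine ⟨fun l A hA S hS => Ad_opU_cent l.2 A (hM.opU_mem l.1 hA) hS,
    fun h4 h2 l x hx S hS => Ad_opU_cent l.2 _ (hM.refl_in h4 (card_ge_three h2) l.1 hx) hS, fun h4 c S hS => ?_⟩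
  refine smul_mem_of_sq hJ.two _ (fun a ha S hS => ?_) c hS
  obtain ⟨C, hC, μ, hCe, hμ⟩ := hp.exists_scale hJ (by rw [Fintype.card_fin]; exact h4)
    (fun h => hM.good.plane (by rwa [Fintype.card_fin] at h)) ha
  show HasM M _
  have h1 : HasM M _ := HasM.adO hS (hM.opU_mem i hC)
  rw [Ad_opU_op_lift, Ad_apply, conj_eP hJ (OmG_le hC), hCe, eP, dyad_smul_left, dyad_smul_right, smul_smul,
    op_smul, Matrix.smul_mul] at h1
  rw [liftRest_smul, Matrix.mul_smul, ← hμ]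
  exact h1

/-! ### Elements fixing a slice -/

/-- An element fixing a slice, moving the orthogonal slices along it. -/
def El (J : Matrix (Fin k) (Fin k) F) (M : Subgroup (GL (κ → Fin k) F)) (i : κ) (e f : Fin k → F)
    (T : (Fin k → F) →ₗ[F] TMat F (Rest i) k) : Prop :=
  ∃ z ∈ M, (∀ w, z.1 *ᵥ sl i e w = sl i e w) ∧
    ∀ v ∈ Hyp J e f, ∀ w, z.1 *ᵥ sl i v w = sl i v w + sl i e (T v *ᵥ w)

variable {T T' : (Fin k → F) →ₗ[F] TMat F (Rest i) k}

theorem El.congr (h : El J M i e f T) (hT : ∀ v ∈ Hyp J e f, T v = T' v) : El J M i e f T' := by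
  obtain ⟨z, hz, he, hv⟩ := h
  exact ⟨z, hz, he, fun v hv' w => by rw [hv v hv', hT v hv']⟩

theorem El.zero : El J M i e f (0 : (Fin k → F) →ₗ[F] TMat F (Rest i) k) :=
  ⟨1, M.one_mem, fun w => by rw [Units.val_one, Matrix.one_mulVec],
    fun v _ w => by simp [LinearMap.zero_apply]⟩

theorem El.add (h : El J M i e f T) (h' : El J M i e f T') : El J M i e f (T + T') := by
  obtain ⟨z, hz, he, hv⟩ := h
  obtain ⟨z', hz', he', hv'⟩ := h'
  refine ⟨z * z', mul_mem hz hz', fun w => ?_, fun v hvH w => ?_⟩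
  · rw [Units.val_mul, ← Matrix.mulVec_mulVec, he', he]
  · rw [Units.val_mul, ← Matrix.mulVec_mulVec, hv' v hvH, Matrix.mulVec_add, hv v hvH, he, LinearMap.add_apply,
      Matrix.add_mulVec, map_add, add_assoc]

theorem El.neg (h : El J M i e f T) : El J M i e f (-T) := by
  obtain ⟨z, hz, he, hv⟩ := h
  have hinv : ∀ x y, z.1 *ᵥ x = y → z⁻¹.1 *ᵥ y = x := fun x y hxy => by
    rw [← hxy, Matrix.mulVec_mulVec, ← Units.val_mul, inv_mul_cancel, Units.val_one, Matrix.one_mulVec]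
  refine ⟨z⁻¹, inv_mem hz, fun w => hinv _ _ (he w), fun v hvH w => hinv _ _ ?_⟩
  rw [Matrix.mulVec_add, hv v hvH, he, LinearMap.neg_apply, Matrix.neg_mulVec, map_neg]
  abel

/-- Conjugation by an element on the other factors. -/
theorem El.conj_lift (h : El J M i e f T) {g : GL (κ → Fin k) F} (hg : g ∈ M) {G : GL (Rest i → Fin k) F}
    (hG : g.1 = liftRest i G.1) : El J M i e f ((Ad G).comp T) := by
  obtain ⟨z, hz, he, hv⟩ := h
  have hGi : g⁻¹.1 = liftRest i G⁻¹.1 := by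
    have : g = Units.map (liftRest i) G := Units.ext hG
    rw [this]
    rfl
  refine ⟨g * z * g⁻¹, mul_mem (mul_mem hg hz) (inv_mem hg), fun w => ?_, fun v hvH w => ?_⟩
  · rw [Units.val_mul, Units.val_mul, ← Matrix.mulVec_mulVec, ← Matrix.mulVec_mulVec, hGi, lift_sl, he, hG, lift_sl,
      Matrix.mulVec_mulVec, ← Units.val_mul, mul_inv_cancel, Units.val_one, Matrix.one_mulVec]
  · rw [Units.val_mul, Units.val_mul, ← Matrix.mulVec_mulVec, ← Matrix.mulVec_mulVec, hGi, lift_sl, hv v hvH, hG,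
      Matrix.mulVec_add, lift_sl, lift_sl, Matrix.mulVec_mulVec, ← Units.val_mul, mul_inv_cancel, Units.val_one,
      Matrix.one_mulVec, LinearMap.comp_apply, Ad_apply, ← Matrix.mulVec_mulVec, ← Matrix.mulVec_mulVec]

/-- Conjugation by an element of the factor fixing the pair of lines. -/
theorem El.conj_op (hJ : OG J) (h : El J M i e f T) {C : GL (Fin k) F} (hC : C ∈ IsoG J) (hCM : opU i C ∈ M)
    {μ ν : F} (hμ : μ ≠ 0) (hCe : C.1 *ᵥ e = μ • e) (hCf : C.1 *ᵥ f = ν • f) :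
    El J M i e f (μ • T.comp (Matrix.mulVecLin C⁻¹.1)) := by
  obtain ⟨z, hz, he, hv⟩ := h
  have hCi : C⁻¹.1 *ᵥ e = μ⁻¹ • e := by
    have := congrArg (fun x => μ⁻¹ • (C⁻¹.1 *ᵥ x)) hCe
    simp only [Matrix.mulVec_mulVec, ← Units.val_mul, inv_mul_cancel, Units.val_one, Matrix.one_mulVec,
      Matrix.mulVec_smul, smul_smul, inv_mul_cancel₀ hμ, one_smul] at this
    exact this.symm
  have hH : ∀ v ∈ Hyp J e f, C⁻¹.1 *ᵥ v ∈ Hyp J e f := fun v hv => by
    have hiso := (mem_IsoG_iff_bJ hJ).1 hC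
    have hself : C.1 *ᵥ (C⁻¹.1 *ᵥ v) = v := by
      rw [Matrix.mulVec_mulVec, ← Units.val_mul, mul_inv_cancel, Units.val_one, Matrix.one_mulVec]
    refine mem_Hyp.2 ⟨?_, ?_⟩ <;>
      rw [← hiso, hself]
    · rw [hCe, bJ_smul_left, (mem_Hyp.1 hv).1, mul_zero]
    · rw [hCf, bJ_smul_left, (mem_Hyp.1 hv).2, mul_zero]
  refine ⟨opU i C * z * (opU i C)⁻¹, mul_mem (mul_mem hCM hz) (inv_mem hCM), fun w => ?_, fun v hvH w => ?_⟩
  · rw [Units.val_mul, Units.val_mul, ← Matrix.mulVec_mulVec, ← Matrix.mulVec_mulVec, opU_inv_coe, op_sl, hCi,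
      sl_smul, Matrix.mulVec_smul, he, Matrix.mulVec_smul, opU_coe, op_sl, hCe, sl_smul, smul_smul,
      inv_mul_cancel₀ hμ, one_smul]
  · rw [Units.val_mul, Units.val_mul, ← Matrix.mulVec_mulVec, ← Matrix.mulVec_mulVec, opU_inv_coe, op_sl,
      hv _ (hH v hvH), Matrix.mulVec_add, opU_coe, op_sl, op_sl, hCe, sl_smul, Matrix.mulVec_mulVec, ← Units.val_mul,
      mul_inv_cancel, Units.val_one, Matrix.one_mulVec, LinearMap.smul_apply, LinearMap.comp_apply,
      Matrix.mulVecLin_apply, Matrix.smul_mulVec, map_smul]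

/-- The parameters of the elements fixing a slice. -/
def elSub (J : Matrix (Fin k) (Fin k) F) (M : Subgroup (GL (κ → Fin k) F)) (i : κ) (e f : Fin k → F) :
    AddSubgroup ((Fin k → F) →ₗ[F] TMat F (Rest i) k) where
  carrier := {T | El J M i e f T}
  zero_mem' := El.zero
  add_mem' := El.add
  neg_mem' := El.neg

theorem Over.el_smul (hM : Over J M) (hp : Pair J e f) (c : F) (h : El J M i e f T) : El J M i e f (c • T) :=
  smul_mem_of_sq hM.og.two (elSub J M i e f) (fun a ha T hT => by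
    have hJ := hM.og
    refine (El.conj_op hJ hT (tG_mem_IsoG hJ hp (mul_ne_zero ha ha)) (hM.opU_mem i (tG_sq_mem_OmG hJ hp ha))
      (mul_ne_zero ha ha) (tM_left hJ hp _) (tM_right hp _)).congr fun v hv => ?_
    rw [LinearMap.smul_apply, LinearMap.smul_apply, LinearMap.comp_apply, Matrix.mulVecLin_apply]
    congr 2
    show tM J e f (a * a)⁻¹ *ᵥ v = v
    exact tM_fix hv _) c h

/-- The rank one parameter. -/
def elB (J : Matrix (Fin k) (Fin k) F) (b : Fin k → F) (Y : TMat F (Rest i) k) :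
    (Fin k → F) →ₗ[F] TMat F (Rest i) k where
  toFun v := bJ J b v • Y
  map_add' u v := by rw [bJ_add_right, add_smul]
  map_smul' c v := by rw [bJ_smul_right, RingHom.id_apply, mul_smul]

theorem elB_apply (b : Fin k → F) (Y : TMat F (Rest i) k) (v : Fin k → F) : elB J b Y v = bJ J b v • Y := rfl

/-- The element of a parameter: its action on the partner slice. -/
theorem Over.el_partner (hM : Over J M) (hp : Pair J e f) {z : GL (κ → Fin k) F} (hz : z ∈ M)
    (he : ∀ w, z.1 *ᵥ sl i e w = sl i e w)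
    (hv : ∀ v ∈ Hyp J e f, ∀ w, z.1 *ᵥ sl i v w = sl i v w + sl i e (T v *ᵥ w)) (w : (Rest i → Fin k) → F) :
    ct J i e (z.1 *ᵥ sl i f w) = w ∧
      ∀ v ∈ Hyp J e f, ct J i v (z.1 *ᵥ sl i f w) = -(adjJ (gT (Rest i) J) (T v) *ᵥ w) := by
  have hJ := hM.og
  have hR := gT_og (κ := Rest i) hJ
  have hiso := (mem_IsoG_iff_bJ (gT_og hJ)).1 (hM.le hz)
  have hce : ct J i e (z.1 *ᵥ sl i f w) = w := hR.ext fun u => by
    rw [← bJ_sl hJ, ← he u, hiso, bJ_sl hJ, ct_sl, hp.ef, one_smul]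
  refine ⟨hce, fun v hvH => hR.ext fun u => ?_⟩
  have h1 := hiso (sl i v u) (sl i f w)
  rw [hv v hvH, bJ_add_left, bJ_sl hJ, bJ_sl hJ, bJ_sl hJ, ct_sl, hJ.swap v f, (mem_Hyp.1 hvH).2, zero_smul,
    bJ_zero_right, hce] at h1
  rw [bJ_neg_right, ← bJ_mulVec hR]
  exact eq_neg_of_add_eq_zero_left h1

theorem opU_uH_mulVec (hJ : OG J) {c : Fin k → F} (hee : bJ J e e = 0) (hec : bJ J e c = 0)
    (z : (κ → Fin k) → F) :
    (opU i (uH hJ hee hec)).1 *ᵥ z = z + sl i e (ct J i c z) - sl i c (ct J i e z) -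
      ((2 : F)⁻¹ * bJ J c c) • sl i e (ct J i e z) := by
  rw [opU_coe]
  show op i (uP J e c 1) *ᵥ z = _
  rw [uP, nP_mul_nP hee (by rw [hJ.swap, hec]) hec, op_add, op_add, map_one, op_smul, op_smul, op_smul, nP, op_sub,
    eP, Matrix.add_mulVec, Matrix.add_mulVec, Matrix.one_mulVec, Matrix.smul_mulVec, Matrix.smul_mulVec,
    Matrix.smul_mulVec, Matrix.sub_mulVec, op_dyad_mulVec, op_dyad_mulVec, op_dyad_mulVec]
  match_scalars <;> field_simp [hJ.two]

/-- The Siegel element of the factor. -/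
theorem Over.el_uH (hM : Over J M) (hp : Pair J e f) {c : Fin k → F} (hc : c ∈ Hyp J e f) :
    El J M i e f (elB J c 1) := by
  have hJ := hM.og
  have hec := (mem_Hyp.1 hc).1
  refine ⟨_, hM.opU_mem i (uH_mem_OmG hJ hp.ee hec), fun w => ?_, fun v hv w => ?_⟩ <;>
    rw [opU_uH_mulVec hJ hp.ee hec]
  · simp [ct_sl, hp.ee, hJ.swap c e, hec]
  · simp [ct_sl, (mem_Hyp.1 hv).1, elB_apply, sl_smul, Matrix.smul_mulVec]

/-- An element fixing both slices of a pair and the ones orthogonal to them is central. -/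
theorem Over.cent_of_fix (hM : Over J M) (hp : Pair J e f) {q : GL (κ → Fin k) F} (hq : q ∈ M)
    (he : ∀ w, q.1 *ᵥ sl i e w = sl i e w) (hv : ∀ v ∈ Hyp J e f, ∀ w, q.1 *ᵥ sl i v w = sl i v w)
    {S : TMat F (Rest i) k} (hS : ∀ w, ct J i f (q.1 *ᵥ sl i f w) = S *ᵥ w) :
    q.1 = 1 + op i (eP J e) * liftRest i S := by
  have hJ := hM.og
  have hv' : ∀ v ∈ Hyp J e f, ∀ w, q.1 *ᵥ sl i v w = sl i v w + sl i e ((0 : (Fin k → F) →ₗ[F] TMat F (Rest i) k) v *ᵥ w) :=
    fun v hvH w => by simp [hv v hvH]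
  refine hp.ext_sl hJ (i := i) (fun w => ?_) (fun w => hp.ext_ct hJ (i := i) ?_ ?_ fun v hvH => ?_) fun v hvH w => ?_
  · simp [he, Matrix.add_mulVec, opE_lift_mulVec _ _ hJ, ct_sl, hp.ee]
  · simp [(hM.el_partner hp hq he hv' w).1, Matrix.add_mulVec, opE_lift_mulVec _ _ hJ, ct_sl, hp.ee, hp.ef, ct_add]
  · simp [hS, Matrix.add_mulVec, opE_lift_mulVec _ _ hJ, ct_sl, hp.ff, hp.fe hJ, hp.ef, ct_add]
  · simp [(hM.el_partner hp hq he hv' w).2 v hvH, adjJ_zero, Matrix.add_mulVec, opE_lift_mulVec _ _ hJ, ct_sl,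
      hJ.swap v e, (mem_Hyp.1 hvH).1, hJ.swap v f, (mem_Hyp.1 hvH).2, ct_add]
  · simp [hv v hvH, Matrix.add_mulVec, opE_lift_mulVec _ _ hJ, ct_sl, (mem_Hyp.1 hvH).1]

/-- Two elements differing by a central one. -/
theorem Over.cent_of_diff (hM : Over J M) (hp : Pair J e f) {A B : GL (κ → Fin k) F} (hA : A ∈ M) (hB : B ∈ M)
    (hAe : ∀ w, A.1 *ᵥ sl i e w = sl i e w) (hBe : ∀ w, B.1 *ᵥ sl i e w = sl i e w)
    (hv : ∀ v ∈ Hyp J e f, ∀ w, A.1 *ᵥ sl i v w = B.1 *ᵥ sl i v w) {D : TMat F (Rest i) k}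
    (hf : ∀ w, A.1 *ᵥ sl i f w = B.1 *ᵥ sl i f w + sl i e (D *ᵥ w)) : D ∈ centSub M i hp.ee := by
  have hJ := hM.og
  set q := B⁻¹ * A with hq
  have hmove : ∀ x y, A.1 *ᵥ x = B.1 *ᵥ y → q.1 *ᵥ x = y := fun x y h => by
    rw [hq, Units.val_mul, ← Matrix.mulVec_mulVec, h, Matrix.mulVec_mulVec, ← Units.val_mul, inv_mul_cancel,
      Units.val_one, Matrix.one_mulVec]
  have hqf : ∀ w, q.1 *ᵥ sl i f w = sl i f w + sl i e (D *ᵥ w) := fun w => hmove _ _ (by
    rw [hf, Matrix.mulVec_add, hBe])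
  refine ⟨q, mul_mem (inv_mem hB) hA, hM.cent_of_fix hp (mul_mem (inv_mem hB) hA)
    (fun w => hmove _ _ (by rw [hAe, hBe])) (fun v hvH w => hmove _ _ (hv v hvH w)) fun w => ?_⟩
  rw [hqf, ct_add, ct_sl, ct_sl, hp.ff, hp.fe hJ, zero_smul, one_smul, zero_add]

/-- The commutator with a Siegel element of the factor. -/
theorem Over.el_comm_siegel (hM : Over J M) (hp : Pair J e f) (h : El J M i e f T) {c : Fin k → F}
    (hc : c ∈ Hyp J e f) : adjJ (gT (Rest i) J) (T c) - T c ∈ centSub M i hp.ee := by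
  have hJ := hM.og
  obtain ⟨z, hz, he, hv⟩ := h
  have hec := (mem_Hyp.1 hc).1
  set y := opU i (uH hJ hp.ee hec)
  have hy : y ∈ M := hM.opU_mem i (uH_mem_OmG hJ hp.ee hec)
  have hye : ∀ w, y.1 *ᵥ sl i e w = sl i e w := fun w => by
    rw [opU_uH_mulVec hJ hp.ee hec]; simp [ct_sl, hp.ee, hJ.swap c e, hec]
  have hyv : ∀ v ∈ Hyp J e f, ∀ w, y.1 *ᵥ sl i v w = sl i v w + sl i e (bJ J c v • w) := fun v hvH w => by
    rw [opU_uH_mulVec hJ hp.ee hec]; simp [ct_sl, (mem_Hyp.1 hvH).1]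
  refine hM.cent_of_diff hp (mul_mem hz hy) (mul_mem hy hz)
    (fun w => by rw [Units.val_mul, ← Matrix.mulVec_mulVec, hye, he])
    (fun w => by rw [Units.val_mul, ← Matrix.mulVec_mulVec, he, hye]) (fun v hvH w => ?_) fun w => ?_
  · rw [Units.val_mul, Units.val_mul, ← Matrix.mulVec_mulVec, ← Matrix.mulVec_mulVec, hyv v hvH, Matrix.mulVec_add,
      he, hv v hvH, Matrix.mulVec_add, hye, hyv v hvH]
    abel
  · obtain ⟨h1, h2⟩ := hM.el_partner hp hz he hv w
    rw [Units.val_mul, Units.val_mul, ← Matrix.mulVec_mulVec, ← Matrix.mulVec_mulVec, opU_uH_mulVec hJ hp.ee hec,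
      opU_uH_mulVec hJ hp.ee hec, ct_sl, ct_sl, hp.ef, one_smul, hJ.swap c f, (mem_Hyp.1 hc).2, h1, h2 c hc]
    simp only [zero_smul, map_zero, add_zero, Matrix.mulVec_sub, Matrix.mulVec_smul, hv c hc, he, map_neg,
      Matrix.sub_mulVec, map_sub]
    abel

/-- The commutator of two elements with parameters of rank one. -/
theorem Over.el_comm_elB (hM : Over J M) (hp : Pair J e f) {b : Fin k → F} (hb : b ∈ Hyp J e f)
    {Y Y' : TMat F (Rest i) k} (h : El J M i e f (elB J b Y)) (h' : El J M i e f (elB J b Y')) :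
    bJ J b b • (Y' * adjJ (gT (Rest i) J) Y - Y * adjJ (gT (Rest i) J) Y') ∈ centSub M i hp.ee := by
  have hJ := hM.og
  obtain ⟨z, hz, he, hv⟩ := h
  obtain ⟨z', hz', he', hv'⟩ := h'
  have hform : ∀ {Y : TMat F (Rest i) k} {z : GL (κ → Fin k) F}, z ∈ M → (∀ w, z.1 *ᵥ sl i e w = sl i e w) →
      (∀ v ∈ Hyp J e f, ∀ w, z.1 *ᵥ sl i v w = sl i v w + sl i e (elB J b Y v *ᵥ w)) → ∀ w,
      z.1 *ᵥ sl i f w = sl i f w + sl i e (ct J i f (z.1 *ᵥ sl i f w)) -
        sl i b (adjJ (gT (Rest i) J) Y *ᵥ w) := by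
    intro Y z hz he hv w
    obtain ⟨h1, h2⟩ := hM.el_partner hp hz he hv w
    refine hp.ext_ct hJ (i := i) ?_ ?_ fun v hvH => ?_
    · simp [h1, sub_eq_add_neg, ← map_neg, ct_add, ct_sl, hp.ef, hp.ee, (mem_Hyp.1 hb).1]
    · simp [sub_eq_add_neg, ← map_neg, ct_add, ct_sl, hp.ff, hp.fe hJ, (mem_Hyp.1 hb).2]
    · rw [h2 v hvH]
      simp [sub_eq_add_neg, ← map_neg, ct_add, ct_sl, hJ.swap v e, (mem_Hyp.1 hvH).1, hJ.swap v f,
        (mem_Hyp.1 hvH).2, elB_apply, adjJ_smul, hJ.swap v b, Matrix.smul_mulVec]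
  refine hM.cent_of_diff hp (mul_mem hz hz') (mul_mem hz' hz)
    (fun w => by rw [Units.val_mul, ← Matrix.mulVec_mulVec, he', he])
    (fun w => by rw [Units.val_mul, ← Matrix.mulVec_mulVec, he, he']) (fun v hvH w => ?_) fun w => ?_
  · rw [Units.val_mul, Units.val_mul, ← Matrix.mulVec_mulVec, ← Matrix.mulVec_mulVec, hv' v hvH, Matrix.mulVec_add,
      he, hv v hvH, Matrix.mulVec_add, he', hv' v hvH]
    abel
  · have a1 := hform hz he hv w
    have a2 := hform hz' he' hv' w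
    set R := ct J i f (z.1 *ᵥ sl i f w)
    set R' := ct J i f (z'.1 *ᵥ sl i f w)
    rw [Units.val_mul, Units.val_mul, ← Matrix.mulVec_mulVec, ← Matrix.mulVec_mulVec, a1, a2, Matrix.mulVec_sub,
      Matrix.mulVec_sub, Matrix.mulVec_add, Matrix.mulVec_add, he, he', a1, a2, hv b hb, hv' b hb, elB_apply,
      elB_apply]
    simp only [Matrix.smul_mulVec, map_smul, Matrix.sub_mulVec, map_sub, ← Matrix.mulVec_mulVec]
    module

end CfsgLib.Classical.WreathMaxO
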