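import Cfsg.Agent.Lib.Classical.WreathMaxO.Classify

/-!
# An element outside the stabiliser that maps a singular slice onto a slice
-/

set_option autoImplicit false
set_option linter.unusedSectionVars false
set_option maxHeartbeats 1000000

open Matrix Module
open scoped Kronecker

namespace CfsgLib.Classical.WreathMaxO

open CfsgLib.Classical.WreathMax

variable {F : Type*} [Field F] [Fintype F] {κ : Type} [Fintype κ] [DecidableEq κ] {k : ℕ}
  {J : Matrix (Fin k) (Fin k) F} {M : Subgroup (GL (κ → Fin k) F)} {g : GL (κ → Fin k) F} {i : κ}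
  {e b : Fin k → F}

/-- A singular slice goes onto a singular slice. -/
def SliceTo (J : Matrix (Fin k) (Fin k) F) (g : GL (κ → Fin k) F) : Prop :=
  ∃ (i j : κ) (e x : Fin k → F), e ≠ 0 ∧ bJ J e e = 0 ∧ x ≠ 0 ∧ bJ J x x = 0 ∧
    (slice i e).map g.1.mulVecLin = slice j x

theorem op_dyad_mem_slice (i : κ) (u v : Fin k → F) (z : (κ → Fin k) → F) :
    op i (dyad J u v) *ᵥ z ∈ slice i u := ⟨_, (op_dyad_mulVec i u v z).symm⟩

theorem imgU_op_pair (hJ : OG J) (hg : SimG J g) (h : Root J e b) {j : κ} {C : Matrix (Fin k) (Fin k) F}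
    (hC : (imgU hJ g i h 1).1 = op j C) :
    (imgU hJ g i h (-1)).1 = op j (adjJ J C) ∧
      imgN J g i e b = op j ((2 : F)⁻¹ • (C - adjJ J C)) := by
  have hinv := IsoG.inv_val (gT_og hJ) (imgU_iso (g := g) (i := i) hJ hg h 1)
  rw [imgU_inv, hC, adjJ_op hJ] at hinv
  refine ⟨hinv, ?_⟩
  rw [op_smul, op_sub, ← hC, ← hinv, imgU_val, imgU_val]
  match_scalars <;> field_simp [hJ.two] <;> ring

/-- A short root in one factor gives a slice. -/
theorem sliceTo_of_op (hJ : OG J) (hk : 0 < k) (hg : SimG J g) (h : Root J e b) (hbb : bJ J b b ≠ 0) {j : κ}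
    {C : Matrix (Fin k) (Fin k) F} (hC : (imgU hJ g i h 1).1 = op j C) : SliceTo J g := by
  obtain ⟨-, hN⟩ := imgU_op_pair hJ hg h hC
  set X := (2 : F)⁻¹ • (C - adjJ J C) with hX
  have hXskew : adjJ J X = -X := by rw [hX, adjJ_smul, adjJ_sub, adjJ_adjJ hJ, ← smul_neg, neg_sub]
  have hX3 : X * X * X = 0 := op_injective j (by
    rw [map_mul, map_mul, op_zero, ← hN, imgN, Ad_mul_Ad, Ad_mul_Ad, ← map_mul, ← map_mul, nP_cube hJ h, op_zero,
      map_zero])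
  have hsq : (op j (X * X) : TMat F κ k) = (-bJ J b b) • Ad g (op i (eP J e)) := by
    rw [map_mul, ← hN, imgN_sq h hJ]
  obtain ⟨v, hv⟩ : ∃ v, (X * X) *ᵥ v ≠ 0 := by
    by_contra! hall
    have h0 : X * X = 0 := Matrix.ext_iff_mulVec.2 fun v => by rw [hall, Matrix.zero_mulVec]
    rw [h0, op_zero, eq_comm, smul_eq_zero, or_iff_right (neg_ne_zero.2 hbb)] at hsq
    have h1 := congrArg (Ad g⁻¹) hsq
    rw [Ad_inv_self, map_zero, ← op_zero i] at h1
    exact eP_ne hJ h.e0 (op_injective i h1)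
  have hxx : bJ J ((X * X) *ᵥ v) ((X * X) *ᵥ v) = 0 := by
    rw [bJ_mulVec hJ, adjJ_mul hJ, hXskew, neg_mul_neg, Matrix.mulVec_mulVec, ← Matrix.mul_assoc (X * X) X, hX3,
      Matrix.zero_mul, Matrix.zero_mulVec, bJ_zero_right]
  refine ⟨i, j, e, _, h.e0, h.ee, hv, hxx, (Submodule.eq_of_le_of_finrank_le ?_ ?_).symm⟩
  · rintro z ⟨w, rfl⟩
    rw [← op_sl, hsq, Matrix.smul_mulVec, Ad_apply, ← Matrix.mulVec_mulVec, ← Matrix.mulVec_mulVec]
    exact Submodule.smul_mem _ _ (Submodule.mem_map.2 ⟨op i (eP J e) *ᵥ (g⁻¹.1 *ᵥ sl j v w),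
      op_dyad_mem_slice (J := J) i e e _, rfl⟩)
  · rw [finrank_map_slice g i h.e0, finrank_slice j hv, card_rest i j]

/-- An element of the stabiliser fixing a slice pointwise lives on its factor. -/
theorem eq_op_of_fix (hk : 2 ≤ k) {z : GL (κ → Fin k) F} (hz : z ∈ wreathT F κ k) {j : κ}
    {X : Matrix (Fin k) (Fin k) F} (hX : ∀ c : F, X ≠ c • 1) (hcomm : z.1 * op j X = op j X * z.1) {x : Fin k → F}
    (hx : x ≠ 0) (hfix : ∀ w, z.1 *ᵥ sl j x w = sl j x w) :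
    ∃ C, z.1 = (op j C : TMat F κ k) := by
  classical
  obtain ⟨τ, D, hD⟩ := hz
  have hτj : τ j = j := perm_eq_of_conj (by omega) hD hX hcomm
  set o : Fin k := ⟨0, by omega⟩
  have hop : ∀ l (hl : l ≠ j) (B : Matrix (Fin k) (Fin k) F),
      ∃ hτ : τ l ≠ j, (op (⟨τ l, hτ⟩ : Rest j) ((D (τ l)).1 * B * (D (τ l))⁻¹.1) : TMat F (Rest j) k) =
        op (⟨l, hl⟩ : Rest j) B := by
    intro l hl B
    have hτ : τ l ≠ j := fun e' => hl (τ.injective (e'.trans hτj.symm))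
    refine ⟨hτ, Matrix.ext_iff_mulVec.2 fun w => sl_injective j hx ?_⟩
    rw [← op_sl_other hτ, ← op_sl_other hl, ← conj_op hD, ← Matrix.mulVec_mulVec]
    have hzi : z⁻¹.1 *ᵥ sl j x w = sl j x w := by
      conv_lhs => rw [← hfix w]
      rw [Matrix.mulVec_mulVec, ← Units.val_mul, inv_mul_cancel, Units.val_one, Matrix.one_mulVec]
    rw [hzi, ← Matrix.mulVec_mulVec, op_sl_other hl, hfix]
  have hτ1 : τ = 1 := Equiv.ext fun l => by
    by_cases hl : l = j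
    · rw [hl, hτj]; rfl
    · by_contra hne
      obtain ⟨hτ, h⟩ := hop l hl (Matrix.single o o 1)
      obtain ⟨c, hc⟩ := eq_of_op_eq_op (fun e' => hne (congrArg Subtype.val e').symm) h.symm
      exact single_ne_smul_one hk o o c hc
  subst hτ1
  have hs : ∀ l, l ≠ j → ∃ c : F, (D l).1 = c • 1 := fun l hl => by
    have hcm : ∀ B : Matrix (Fin k) (Fin k) F, (D l).1 * B = B * (D l).1 := fun B => by
      obtain ⟨hτ, h⟩ := hop l hl B
      have h1 := op_injective (⟨l, hl⟩ : Rest j) h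
      have h2 := congrArg (· * (D l).1) h1
      simpa [Matrix.mul_assoc, ← Units.val_mul] using h2
    by_contra hno
    push Not at hno
    obtain ⟨u, hu⟩ := exists_not_eigen hno
    obtain ⟨φ, hφ1, hφ0⟩ := CfsgLib.Classical.WreathMaxSp.exists_dot_sep hu
    have h3 := congrArg (φ ⬝ᵥ ·) (congrArg (· *ᵥ u) (hcm (vecMulVec ((D l).1 *ᵥ u) φ)))
    simp [← Matrix.mulVec_mulVec, vecMulVec_mulVec, op_smul_eq_smul, Matrix.mulVec_smul, hφ0, hφ1] at h3
  choose c hc using hs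
  refine ⟨(∏ l, if hl : l = j then 1 else c l hl) • (D j).1, ?_⟩
  rw [hD, map_one, mul_one, tensU_coe, op_smul, op_eq_tens, ← tens_smul']
  congr 1
  funext l
  by_cases hl : l = j
  · subst hl; simp
  · simp [hl, hc l hl]

/-- A root group conjugate into the stabiliser gives a slice. -/
theorem exists_sliceTo (hM : Over J M) (hg : SimG J g) (hgC : ConjIn J M g) (hgT : g ∉ wreathT F κ k)
    (h : Root J e b) (hb : 5 ≤ k → bJ J b b = 0) (hall : ∀ s, imgU hM.og g i h s ∈ wreathT F κ k) :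
    ∃ g' : GL (κ → Fin k) F, SimG J g' ∧ ConjIn J M g' ∧ g' ∉ wreathT F κ k ∧ SliceTo J g' := by
  classical
  have hJ := hM.og
  have hk := hM.good.three
  obtain ⟨j, C, hC⟩ := classify_op hM.good hg h hb hall
  by_cases hbb : bJ J b b = 0
  swap
  · exact ⟨g, hg, hgC, hgT, sliceTo_of_op hJ (by omega) hg h hbb hC⟩
  have h5 : 5 ≤ k := by
    by_contra hlt
    exact h.off (minus_small hM.good (by omega) e b h.e0 h.ee hbb h.eb)
  obtain ⟨-, hN⟩ := imgU_op_pair hJ hg h hC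
  set X := (2 : F)⁻¹ • (C - adjJ J C) with hX
  have hXskew : adjJ J X = -X := by rw [hX, adjJ_smul, adjJ_sub, adjJ_adjJ hJ, ← smul_neg, neg_sub]
  have hXX : X * X = 0 := op_injective j (by
    rw [map_mul, op_zero, ← hN, imgN_sq h hJ, hbb, neg_zero, zero_smul])
  have hX0 : X ≠ 0 := fun h0 => imgN_ne (g := g) (i := i) hJ (by omega) h (by rw [hN, h0, op_zero])
  have hXns : ∀ c : F, X ≠ c • 1 := fun c hc => hX0 (by
    haveI : Nonempty (Fin k) := ⟨⟨0, by omega⟩⟩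
    rw [hc, Matrix.smul_mul, Matrix.one_mul, smul_smul, smul_eq_zero, mul_self_eq_zero] at hXX
    rw [hc, hXX.resolve_right one_ne_zero, zero_smul])
  obtain ⟨v, hv⟩ : ∃ v, X *ᵥ v ≠ 0 := by
    by_contra! hall'
    exact hX0 (Matrix.ext_iff_mulVec.2 fun v => by rw [hall', Matrix.zero_mulVec])
  have hxx : bJ J (X *ᵥ v) (X *ᵥ v) = 0 := by
    rw [bJ_mulVec hJ, hXskew, Matrix.neg_mulVec, bJ_neg_right, Matrix.mulVec_mulVec, hXX, Matrix.zero_mulVec,
      bJ_zero_right, neg_zero]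
  obtain ⟨f, hp⟩ := hJ.exists_pair_of h.e0 h.ee
  obtain ⟨c₀, b₀, hb₀, hbeq⟩ := hp.decomp hJ h.eb
  have hb₀0 : b₀ ≠ 0 := fun e0 => h.off (Submodule.mem_span_singleton.2 ⟨c₀, by rw [hbeq, e0, add_zero]⟩)
  have hb₀b₀ : bJ J b₀ b₀ = 0 := by
    have h1 := hbb
    simp only [hbeq, bJ_add_left, bJ_add_right, bJ_smul_left, bJ_smul_right, h.ee, hJ.swap b₀ e,
      (mem_Hyp.1 hb₀).1] at h1
    linear_combination h1
  obtain ⟨b₁, hb₁H, hb₁⟩ : ∃ b₁ ∈ Hyp J e f, bJ J b₀ b₁ ≠ 0 := by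
    by_contra! hall'
    exact hb₀0 (hp.nd hJ b₀ hb₀ hall')
  set b₂ := (bJ J b₀ b₁)⁻¹ • b₁ with hb₂
  set b₃ := b₂ - ((2 : F)⁻¹ * bJ J b₂ b₂) • b₀ with hb₃
  have hb₂H : b₂ ∈ Hyp J e f := Submodule.smul_mem _ _ hb₁H
  have hb₀₂ : bJ J b₀ b₂ = 1 := by rw [hb₂, bJ_smul_right, inv_mul_cancel₀ hb₁]
  have hp' : Pair J b₀ b₃ := by
    refine ⟨hb₀b₀, ?_, by simp [hb₃, hb₀₂, hb₀b₀]⟩
    simp only [hb₃, bJ_sub_left, bJ_sub_right, bJ_smul_left, bJ_smul_right, hJ.swap b₂ b₀, hb₀₂, hb₀b₀]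
    field_simp [hJ.two]
    ring
  have hb₃H : b₃ ∈ Hyp J e f := Submodule.sub_mem _ hb₂H (Submodule.smul_mem _ _ hb₀)
  obtain ⟨a, ⟨⟨haH, hab⟩, -⟩, haa⟩ := ((hp.nd hJ).inf_pair hJ hp' hb₀ hb₃H).exists_aniso hJ (ne_bot_of_pos (by
    have h1 := finrank_Hyp (J := J) e f
    have h2 := finrank_inf_perp (J := J) (Hyp J e f) b₀
    have h3 := finrank_inf_perp (J := J) (Hyp J e f ⊓ perp J b₀) b₃
    rw [Fintype.card_fin] at h1
    omega))
  rw [SetLike.mem_coe, mem_perp] at hab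
  have hea := (mem_Hyp.1 haH).1
  have hr := hp.root hJ haH (fun e0 => haa (by rw [e0, bJ_zero_left]))
  have hba : bJ J a b = 0 := by
    rw [hbeq, bJ_add_right, bJ_smul_right, hJ.swap a e, hea, mul_zero, zero_add, hJ.swap, hab]
  set z := imgU hJ g i hr 1 with hz
  have hzM : z ∈ M := hgC _ ⟨opU_mem_wreathT i _, opU_mem_OmG hJ i (uG_mem_OmG hJ hr 1)⟩
  have hzA : z.1 * imgN J g i e b = imgN J g i e b := by
    rw [hz]
    show g.1 * op i (uP J e a 1) * g⁻¹.1 * _ = _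
    rw [← Ad_apply, imgN, Ad_mul_Ad, ← map_mul]
    congr 2
    rw [uP, Matrix.add_mul, Matrix.add_mul, Matrix.one_mul, Matrix.smul_mul, Matrix.smul_mul, Matrix.mul_assoc,
      nP_mul_nP h.ee (hr.be hJ) h.eb, hba, neg_zero, zero_smul, Matrix.mul_zero, smul_zero, smul_zero, add_zero, add_zero]
  have hAz : imgN J g i e b * z.1 = imgN J g i e b := by
    rw [hz]
    show _ * (g.1 * op i (uP J e a 1) * g⁻¹.1) = _
    rw [← Ad_apply, imgN, Ad_mul_Ad, ← map_mul]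
    congr 2
    rw [uP, Matrix.mul_add, Matrix.mul_add, Matrix.mul_one, Matrix.mul_smul, Matrix.mul_smul, ← Matrix.mul_assoc,
      nP_mul_nP h.ee (h.be hJ) hr.eb, hJ.swap b a, hba, neg_zero, zero_smul, Matrix.zero_mul, smul_zero, smul_zero,
      add_zero, add_zero]
  have hfix : ∀ w, z.1 *ᵥ sl j (X *ᵥ v) w = sl j (X *ᵥ v) w := fun w => by
    rw [← op_sl, ← hN, Matrix.mulVec_mulVec, hzA]
  by_cases hzT : z ∈ wreathT F κ k
  · obtain ⟨C', hC'⟩ := eq_op_of_fix (by omega) hzT hXns (by rw [← hN, hzA, hAz]) hv hfix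
    exact ⟨g, hg, hgC, hgT, sliceTo_of_op hJ (by omega) hg hr haa hC'⟩
  · refine ⟨z, hM.simG_of_mem hzM, hM.conjIn_of_mem hzM, hzT, j, j, _, _, hv, hxx, hv, hxx, ?_⟩
    refine le_antisymm ?_ ?_
    · rintro y ⟨_, ⟨w, rfl⟩, rfl⟩
      exact ⟨w, (hfix w).symm⟩
    · rintro _ ⟨w, rfl⟩
      exact ⟨_, ⟨w, rfl⟩, hfix w⟩

/-- A similitude conjugating the stabiliser into an overgroup gives a slice, or is in the stabiliser. -/
theorem exists_slice_or [Nonempty κ] (hM : Over J M) (hg : SimG J g) (hgC : ConjIn J M g)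
    (hgT : g ∉ wreathT F κ k) :
    ∃ g' : GL (κ → Fin k) F, SimG J g' ∧ ConjIn J M g' ∧ g' ∉ wreathT F κ k ∧ SliceTo J g' := by
  classical
  have hJ := hM.og
  have hk := hM.good.three
  by_cases hle : M ≤ wreathT F κ k
  · obtain ⟨i⟩ := ‹Nonempty κ›
    obtain ⟨e, f, hp⟩ := hJ.exists_pair (by rw [Fintype.card_fin]; exact hk)
    have hdim := finrank_Hyp (J := J) e f
    rw [Fintype.card_fin] at hdim
    obtain ⟨b, hr, hb⟩ : ∃ b, Root J e b ∧ (5 ≤ k → bJ J b b = 0) := by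
      by_cases h5 : 5 ≤ k
      · obtain ⟨b, hbH, hb0, hbb⟩ := hJ.exists_singular_in (S := Hyp J e f) (by omega)
        exact ⟨b, hp.root hJ hbH hb0, fun _ => hbb⟩
      · obtain ⟨b, hbH, hbb⟩ := (hp.nd hJ).exists_aniso hJ (ne_bot_of_pos (by omega))
        exact ⟨b, hp.root hJ hbH (fun e0 => hbb (by rw [e0, bJ_zero_left])), fun h => absurd h h5⟩
    exact exists_sliceTo hM hg hgC hgT hr hb fun s =>
      hle (hgC _ ⟨opU_mem_wreathT i _, opU_mem_OmG hJ i (uG_mem_OmG hJ hr s)⟩)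
  · have h := not_NF hM hle
    simp only [NF] at h
    push Not at h
    obtain ⟨g', hg', hg'T, i, e, b, hr, hb, hall⟩ := h
    exact exists_sliceTo hM (hM.simG_of_mem hg') (hM.conjIn_of_mem hg') hg'T hr hb hall

end CfsgLib.Classical.WreathMaxO
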