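import Cfsg.Agent.Lib.Classical.WreathMaxO.Form

/-!
# One orthogonal factor: perpendicular spaces, hyperbolic pairs, anisotropic vectors
-/

set_option autoImplicit false
set_option linter.unusedSectionVars false

open Matrix Module QuadraticMap

namespace CfsgLib.Classical.WreathMaxO

open CfsgLib.Orth

variable {F : Type*} [Field F] {n : Type} [Fintype n] [DecidableEq n] {J : Matrix n n F}

/-- The vectors orthogonal to `v`. -/
noncomputable def perp (J : Matrix n n F) (v : n → F) : Submodule F (n → F) :=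
  LinearMap.ker (Matrix.toBilin' J v)

theorem mem_perp {v x : n → F} : x ∈ perp J v ↔ bJ J v x = 0 := by
  rw [perp, LinearMap.mem_ker, Matrix.toBilin'_apply']
  rfl

theorem finrank_inf_perp (S : Submodule F (n → F)) (v : n → F) :
    finrank F S ≤ finrank F ↥(S ⊓ perp J v) + 1 := SimMax.finrank_inf_ker S _

theorem finrank_perp (v : n → F) : Fintype.card n ≤ finrank F ↥(perp J v) + 1 := by
  have h := finrank_inf_perp (J := J) ⊤ v
  rwa [finrank_top, Module.finrank_fintype_fun_eq_card, top_inf_eq] at h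

/-- The form is non-degenerate on a subspace. -/
def ND (J : Matrix n n F) (S : Submodule F (n → F)) : Prop :=
  ∀ x ∈ S, (∀ y ∈ S, bJ J x y = 0) → x = 0

theorem OG.nd_top (hJ : OG J) : ND J ⊤ := fun _ _ h => hJ.eq_zero fun v => h v trivial

theorem ND.inf_perp {S : Submodule F (n → F)} (hS : ND J S) {b : n → F} (hb : b ∈ S) (hbb : bJ J b b ≠ 0)
    (hJ : OG J) : ND J (S ⊓ perp J b) := by
  rintro x ⟨hx, hxb⟩ h
  rw [SetLike.mem_coe, mem_perp] at hxb
  refine hS x hx fun y hy => ?_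
  have h1 := h (y - (bJ J b y / bJ J b b) • b) ⟨S.sub_mem hy (S.smul_mem _ hb), mem_perp.2 (by
    rw [bJ_sub_right, bJ_smul_right, div_mul_cancel₀ _ hbb, sub_self])⟩
  rwa [bJ_sub_right, bJ_smul_right, hJ.swap x b, hxb, mul_zero, sub_zero] at h1

/-- A hyperbolic pair. -/
structure Pair (J : Matrix n n F) (e f : n → F) : Prop where
  ee : bJ J e e = 0
  ff : bJ J f f = 0
  ef : bJ J e f = 1

theorem Pair.fe (hJ : OG J) {e f : n → F} (h : Pair J e f) : bJ J f e = 1 := by rw [hJ.swap, h.ef]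

theorem Pair.left_ne {e f : n → F} (h : Pair J e f) : e ≠ 0 := fun e0 => by
  have := h.ef
  rw [e0, bJ_zero_left] at this
  exact zero_ne_one this

theorem Pair.swap (hJ : OG J) {e f : n → F} (h : Pair J e f) : Pair J f e := ⟨h.ff, h.ee, h.fe hJ⟩

theorem ND.inf_pair (hJ : OG J) {S : Submodule F (n → F)} (hS : ND J S) {e f : n → F} (h : Pair J e f)
    (he : e ∈ S) (hf : f ∈ S) : ND J (S ⊓ perp J e ⊓ perp J f) := by
  rintro x ⟨⟨hx, hxe⟩, hxf⟩ hall
  rw [SetLike.mem_coe, mem_perp] at hxe hxf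
  refine hS x hx fun y hy => ?_
  have h1 := hall (y - bJ J f y • e - bJ J e y • f)
    ⟨⟨S.sub_mem (S.sub_mem hy (S.smul_mem _ he)) (S.smul_mem _ hf), mem_perp.2 (by
      simp only [bJ_sub_right, bJ_smul_right, h.ee, h.ef]; ring)⟩, mem_perp.2 (by
      simp only [bJ_sub_right, bJ_smul_right, h.fe hJ, h.ff]; ring)⟩
  rw [bJ_sub_right, bJ_sub_right, bJ_smul_right, bJ_smul_right, hJ.swap x e, hxe, hJ.swap x f, hxf] at h1
  linear_combination h1

theorem ND.exists_aniso (hJ : OG J) {S : Submodule F (n → F)} (hS : ND J S) (h0 : S ≠ ⊥) :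
    ∃ b ∈ S, bJ J b b ≠ 0 := by
  obtain ⟨x, hx, hx0⟩ := Submodule.exists_mem_ne_zero_of_ne_bot h0
  by_contra! hall
  refine hx0 (hS x hx fun y hy => ?_)
  have h := hall _ (S.add_mem hx hy)
  rw [bJ_add_left, bJ_add_right, bJ_add_right, hall x hx, hall y hy, hJ.swap y x] at h
  exact mul_left_cancel₀ hJ.two (by linear_combination h)

theorem ne_bot_of_pos {S : Submodule F (n → F)} (h : 0 < finrank F S) : S ≠ ⊥ := fun e => by
  rw [e, finrank_bot] at h
  exact lt_irrefl _ h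

theorem OG.exists_pair_of (hJ : OG J) {e : n → F} (he0 : e ≠ 0) (he : bJ J e e = 0) : ∃ f, Pair J e f := by
  obtain ⟨z, hz⟩ : ∃ z, bJ J e z ≠ 0 := by
    by_contra! h
    exact he0 (hJ.eq_zero h)
  set z' := (bJ J e z)⁻¹ • z with hz'
  have h1 : bJ J e z' = 1 := by rw [hz', bJ_smul_right, inv_mul_cancel₀ hz]
  refine ⟨z' - ((2 : F)⁻¹ * bJ J z' z') • e, he, ?_, ?_⟩
  · simp only [bJ_sub_left, bJ_sub_right, bJ_smul_left, bJ_smul_right, hJ.swap z' e, h1, he]
    field_simp [hJ.two]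
    ring
  · simp [h1, he]

variable [Fintype F]

theorem OG.exists_singular_in (hJ : OG J) {S : Submodule F (n → F)} (h3 : 3 ≤ finrank F S) :
    ∃ e ∈ S, e ≠ 0 ∧ bJ J e e = 0 := by
  obtain ⟨e, he, he0, hq⟩ := SimMax.exists_singular_of_three (Q := qf J) hJ.two (U := S) h3
  exact ⟨e, he, he0, (qf_eq_zero hJ).1 hq⟩

theorem OG.exists_pair (hJ : OG J) (hn : 3 ≤ Fintype.card n) : ∃ e f, Pair J e f := by
  obtain ⟨e, -, he0, he⟩ := hJ.exists_singular_in (S := ⊤) (by
    rwa [finrank_top, Module.finrank_fintype_fun_eq_card])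
  obtain ⟨f, hf⟩ := hJ.exists_pair_of he0 he
  exact ⟨e, f, hf⟩

/-- An endomorphism having all singular vectors as eigenvectors is a scalar. -/
theorem OG.scalar_of_eigen (hJ : OG J) (hn : 3 ≤ Fintype.card n) {T : Matrix n n F}
    (hT : ∀ e, bJ J e e = 0 → T *ᵥ e ∈ F ∙ e) : ∃ c : F, T = c • 1 := by
  obtain ⟨c, hc⟩ := TensorMaxO.scalar_of_eigen (nondeg_qf hJ) hJ.two
    (by rwa [Module.finrank_fintype_fun_eq_card]) T.mulVecLin
    (fun s hs => hT s ((qf_eq_zero hJ).1 hs))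
  refine ⟨c, Matrix.ext_iff_mulVec.2 fun v => ?_⟩
  rw [← Matrix.mulVecLin_apply, hc, smul_mulVec, one_mulVec]
  rfl

/-- Two orthogonal anisotropic vectors represent every value. -/
theorem binary_universal (h2 : (2 : F) ≠ 0) {β₁ β₂ : F} (h1 : β₁ ≠ 0) (hβ : β₂ ≠ 0) (β : F) :
    ∃ x y : F, x * x * β₁ + y * y * β₂ = β := by
  obtain ⟨x, y, h⟩ := FiniteField.exists_root_sum_quadratic (R := F)
    (f := Polynomial.C β₁ * Polynomial.X ^ 2 + Polynomial.C (-β)) (g := Polynomial.C β₂ * Polynomial.X ^ 2)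
    (by rw [Polynomial.degree_add_eq_left_of_degree_lt (by
          rw [Polynomial.degree_C_mul_X_pow 2 h1]; exact lt_of_le_of_lt Polynomial.degree_C_le (by decide)),
        Polynomial.degree_C_mul_X_pow 2 h1]; rfl)
    (Polynomial.degree_C_mul_X_pow 2 hβ)
    (FiniteField.odd_card_of_char_ne_two fun hc => h2 (by
      haveI := ringChar.of_eq hc; exact CharTwo.two_eq_zero))
  refine ⟨x, y, ?_⟩
  simp at h
  linear_combination h

/-- The orthogonal complement of a hyperbolic pair. -/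
noncomputable def Hyp (J : Matrix n n F) (e f : n → F) : Submodule F (n → F) := perp J e ⊓ perp J f

omit [Fintype F] in
theorem mem_Hyp {e f x : n → F} : x ∈ Hyp J e f ↔ bJ J e x = 0 ∧ bJ J f x = 0 := by
  rw [Hyp, Submodule.mem_inf, mem_perp, mem_perp]

omit [Fintype F] in
theorem finrank_Hyp (e f : n → F) : Fintype.card n ≤ finrank F ↥(Hyp J e f) + 2 := by
  have h1 := finrank_perp (J := J) e
  have h2 := finrank_inf_perp (J := J) (perp J e) f
  rw [Hyp]
  omega

omit [Fintype F] in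
theorem Pair.nd (hJ : OG J) {e f : n → F} (h : Pair J e f) : ND J (Hyp J e f) := by
  have := hJ.nd_top.inf_pair hJ h trivial trivial
  rwa [top_inf_eq] at this

omit [Fintype F] in
theorem Pair.decomp (hJ : OG J) {e f : n → F} (h : Pair J e f) {v : n → F} (hv : bJ J e v = 0) :
    ∃ (c : F) (w : n → F), w ∈ Hyp J e f ∧ v = c • e + w :=
  ⟨bJ J f v, v - bJ J f v • e, mem_Hyp.2 ⟨by simp [hv, h.ee], by simp [h.fe hJ]⟩, by abel⟩

omit [Fintype F] in
theorem Pair.notMem_line {e f x : n → F} (hx : x ∈ Hyp J e f) (hJ : OG J) (h : Pair J e f) (hx0 : x ≠ 0) :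
    x ∉ F ∙ e := fun hm => by
  obtain ⟨c, rfl⟩ := Submodule.mem_span_singleton.1 hm
  have := (mem_Hyp.1 hx).2
  rw [bJ_smul_right, h.fe hJ, mul_one] at this
  exact hx0 (by rw [this, zero_smul])

omit [Fintype F] in
/-- In dimension four without singular planes, the complement of a pair is anisotropic. -/
def Minus (J : Matrix n n F) : Prop :=
  ∀ e v : n → F, e ≠ 0 → bJ J e e = 0 → bJ J v v = 0 → bJ J e v = 0 → v ∈ F ∙ e

/-- An orthogonal partner of the same norm in the complement of a pair. -/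
theorem Pair.exists_same (hJ : OG J) {e f b : n → F} (h : Pair J e f) (hb : b ∈ Hyp J e f) (hbb : bJ J b b ≠ 0)
    (hcase : 5 ≤ Fintype.card n ∨ (4 ≤ Fintype.card n ∧ Fintype.card F = 3 ∧ Minus J)) :
    ∃ c ∈ Hyp J e f, bJ J b c = 0 ∧ bJ J c c = bJ J b b := by
  have hS := (h.nd hJ).inf_perp hb hbb hJ
  have h1 := finrank_inf_perp (J := J) (Hyp J e f) b
  have h2 := finrank_Hyp (J := J) e f
  obtain ⟨c₁, hc₁, hc₁0⟩ := hS.exists_aniso hJ (ne_bot_of_pos (by omega))
  obtain ⟨hc₁H, hbc₁⟩ := hc₁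
  rw [SetLike.mem_coe, mem_perp] at hbc₁
  rcases hcase with h5 | ⟨h4, h3, hM⟩
  · have hS' := hS.inf_perp ⟨hc₁H, mem_perp.2 hbc₁⟩ hc₁0 hJ
    have h3 := finrank_inf_perp (J := J) (Hyp J e f ⊓ perp J b) c₁
    obtain ⟨c₂, hc₂, hc₂0⟩ := hS'.exists_aniso hJ (ne_bot_of_pos (by omega))
    obtain ⟨⟨hc₂H, hbc₂⟩, hc₁₂⟩ := hc₂
    rw [SetLike.mem_coe, mem_perp] at hbc₂ hc₁₂
    obtain ⟨x, y, hxy⟩ := binary_universal hJ.two hc₁0 hc₂0 (bJ J b b)
    refine ⟨x • c₁ + y • c₂, Submodule.add_mem _ (Submodule.smul_mem _ _ hc₁H) (Submodule.smul_mem _ _ hc₂H),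
      by simp [hbc₁, hbc₂], ?_⟩
    simp only [bJ_add_left, bJ_add_right, bJ_smul_left, bJ_smul_right, hc₁₂, hJ.swap c₂ c₁]
    linear_combination hxy
  · refine ⟨c₁, hc₁H, hbc₁, ?_⟩
    have key : ∀ u : F, u ≠ 0 → u = 1 ∨ u = -1 := fun u hu => by
      have := FiniteField.pow_card_sub_one_eq_one u hu
      rw [h3] at this
      exact sq_eq_one_iff.1 this
    by_contra hne
    have hsum : bJ J c₁ c₁ + bJ J b b = 0 := by
      rcases key _ hc₁0 with e1 | e1 <;> rcases key _ hbb with e2 | e2 <;> rw [e1, e2] at hne ⊢ <;> simp at hne ⊢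
    have hv : b + c₁ ∈ F ∙ e := hM e (b + c₁) h.left_ne h.ee (by
      simp only [bJ_add_left, bJ_add_right, hbc₁, hJ.swap c₁ b]
      linear_combination hsum) (by simp [(mem_Hyp.1 hb).1, (mem_Hyp.1 hc₁H).1])
    refine Pair.notMem_line (Submodule.add_mem _ hb hc₁H) hJ h (fun e0 => hbb ?_) hv
    have := congrArg (bJ J b) e0
    simpa [hbc₁] using this

end CfsgLib.Classical.WreathMaxO
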